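import Cfsg.Agent.H10.P3Five
import Cfsg.Agent.H28.PslList
import Cfsg.Agent.H5.Burnside

/-!
The orthogonal case: the normaliser embeds in `PGL₂(q)`.
-/

set_option autoImplicit false

open Matrix Subgroup
open scoped MatrixGroups

namespace Cfsg.Agent.H10.P3

open Cfsg.Geo H98 H28

variable {K : Type*} [Field K] {Γ X : Type*} [Group Γ] [Group X] {ρ : Γ →* M3 K} {π : Γ →* X}

/-- The symmetric square of a `2 × 2` matrix. -/
def sym2 (g : Matrix (Fin 2) (Fin 2) K) : M3 K :=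
  !![g 0 0 ^ 2, 2 * g 0 0 * g 0 1, g 0 1 ^ 2;
    g 0 0 * g 1 0, g 0 0 * g 1 1 + g 0 1 * g 1 0, g 0 1 * g 1 1;
    g 1 0 ^ 2, 2 * g 1 0 * g 1 1, g 1 1 ^ 2]

/-- The Gram matrix of the discriminant form. -/
def jj (K : Type*) [Field K] : M3 K := !![0, 0, -1; 0, 2, 0; -1, 0, 0]

theorem sym2_mul (g h : Matrix (Fin 2) (Fin 2) K) : sym2 (g * h) = sym2 g * sym2 h := by
  ext i j
  fin_cases i <;> fin_cases j <;>
    simp [sym2, Matrix.mul_apply, Fin.sum_univ_two, Fin.sum_univ_three] <;> ring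

theorem sym2_one : sym2 (1 : Matrix (Fin 2) (Fin 2) K) = 1 := by
  ext i j
  fin_cases i <;> fin_cases j <;> simp [sym2]

theorem mk_eq_one_of_sym2 {g : GL (Fin 2) K} {c : K} (h : sym2 g.val = c • 1) :
    ProjGenLinGroup.mk g = 1 := by
  have e0 := congrFun (congrFun h 0) 2
  have e1 := congrFun (congrFun h 2) 0
  have e2 := congrFun (congrFun h 0) 0
  have e3 := congrFun (congrFun h 1) 1
  simp [sym2] at e0 e1 e2 e3
  have h0 := gl_det_ne g
  have a0 : g 0 0 ≠ 0 := fun e => h0 (by simp [e, e0])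
  have e4 : g 1 1 = g 0 0 := mul_left_cancel₀ a0 (by rw [e0] at e3; linear_combination e3 - e2)
  rw [← map_one ProjGenLinGroup.mk, eq_comm, ProjGenLinGroup.mk_eq_mk_iff]
  refine ⟨Units.mk0 _ a0, ?_⟩
  ext i j
  fin_cases i <;> fin_cases j <;> simp [e0, e1, e4]

theorem exists_sym2 (h2 : (2 : K) ≠ 0) {M : M3 K} (h : Mᵀ * jj K * M = jj K) (hd : M.det = 1) :
    ∃ (g : GL (Fin 2) K) (c : K), sym2 g.val = c • M := by
  have key : ∀ M : M3 K, Mᵀ * jj K * M = jj K → M.det = 1 → M 0 0 ≠ 0 →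
      ∃ (g : GL (Fin 2) K) (c : K), sym2 g.val = c • M := fun M h hd h0 => by
    have ha : Mᵀ * jj K = jj K * M.adjugate := by
      conv_rhs => rw [← h, mul_assoc, mul_adjugate, hd, one_smul, mul_one]
    have hr : M * !![0, 0, -2; 0, 1, 0; -2, 0, 0] * Mᵀ = !![0, 0, -2; 0, 1, 0; -2, 0, 0] := by
      have e : jj K * !![0, 0, -2; 0, 1, 0; -2, 0, 0] = (2 : K) • 1 := by
        ext i j; fin_cases i <;> fin_cases j <;> simp [jj]
      have e' : !![0, 0, -2; 0, 1, 0; -2, 0, 0] * jj K = (2 : K) • 1 := by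
        ext i j; fin_cases i <;> fin_cases j <;> simp [jj]
      apply smul_right_injective _ h2
      simp only
      rw [← mul_one (M * _ * Mᵀ), ← mul_smul_comm, ← e, ← mul_assoc, mul_assoc _ Mᵀ, ha,
        ← mul_assoc, mul_assoc M, e', mul_smul_comm, mul_one, smul_mul_assoc, mul_adjugate, hd,
        one_smul, smul_mul_assoc, one_mul]
    have e := fun i j => congrFun (congrFun h i) j
    have a := fun i j => congrFun (congrFun ha i) j
    have r := fun i j => congrFun (congrFun hr i) j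
    have e00 := e 0 0; have e01 := e 0 1; have a02 := a 0 2; have r00 := r 0 0; have r01 := r 0 1
    have a01 := a 0 1; have a12 := a 1 2; have a00 := a 0 0; have a11 := a 1 1
    have r11 := r 1 1; have e02 := e 0 2
    simp [jj, Matrix.mul_apply, Fin.sum_univ_three] at e00 e01 r00 r01 r11 e02
    simp [jj, Matrix.mul_apply, Fin.sum_univ_three, adjugate_fin_three] at a02 a01 a12 a00 a11
    refine ⟨gl2 (2 * M 0 0) (M 0 1) (2 * M 1 0) (M 1 1 + 1) fun e => h0 ?_, 4 * M 0 0, ?_⟩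
    · exact (mul_eq_zero.1 (by linear_combination e - 2 * a02)).resolve_left (mul_ne_zero h2 h2)
    ext i j
    fin_cases i <;> fin_cases j <;> simp [sym2, gl2_coe] <;> grind
  by_cases h0 : M 0 0 = 0
  swap
  · exact key M h hd h0
  obtain ⟨g, c, e⟩ := key (!![0, 0, -1; 0, -1, 0; -1, 0, 0] * M) (by
    rw [transpose_mul, ← mul_assoc, mul_assoc Mᵀ, mul_assoc Mᵀ]
    refine Eq.trans (congrArg (Mᵀ * · * M) ?_) h
    ext i j; fin_cases i <;> fin_cases j <;> simp [jj, Matrix.mul_apply, Fin.sum_univ_three])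
    (by rw [det_mul, hd]; simp [det_fin_three]) (fun e => by
      have e00 := congrFun (congrFun h 0) 0
      have e02 := congrFun (congrFun h 0) 2
      simp [jj, Matrix.mul_apply, Fin.sum_univ_three, h0, h2] at e e00 e02
      simp [e, e00] at e02)
  refine ⟨gl2 0 1 1 0 (by simp) * g, -c, ?_⟩
  rw [Units.val_mul, sym2_mul, e, mul_smul_comm, ← mul_assoc, neg_smul, ← smul_neg, ← neg_one_mul M]
  congr 2
  ext i j; fin_cases i <;> fin_cases j <;> simp [sym2, gl2_coe, Matrix.mul_apply, Fin.sum_univ_three]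

theorem isSesq_jj (h2 : (2 : K) ≠ 0) :
    IsSesq (RingEquiv.refl K) 1 fun x y : V3 K => x ⬝ᵥ jj K *ᵥ y := by
  have s : ∀ x y : V3 K, x ⬝ᵥ jj K *ᵥ y = y ⬝ᵥ jj K *ᵥ x := fun x y => by
    simp [jj, dotProduct, mulVec, Fin.sum_univ_three]; ring
  have n : ∀ v : V3 K, v ≠ 0 → ∃ x, x ⬝ᵥ jj K *ᵥ v ≠ 0 := fun v hv => exists_dot_ne_zero fun e => by
    have e0 := congrFun e 0; have e1 := congrFun e 1; have e2 := congrFun e 2
    simp [jj, dotProduct, mulVec, Fin.sum_univ_three, h2] at e0 e1 e2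
    exact hv (by ext i; fin_cases i <;> simp [e0, e1, e2])
  exact ⟨fun _ => rfl, Or.inl rfl, fun x y v => add_dotProduct _ _ _,
    fun c x v => smul_dotProduct _ _ _, fun v w => by rw [one_mul, s]; rfl,
    fun v hv => ⟨n v hv, (n v hv).imp fun x hx => s x v ▸ hx⟩⟩

theorem Hyp.exists_jj [Finite K] (h : Hyp ρ π) (h2 : (2 : K) ≠ 0) (hr : Real ρ) :
    ∃ B : (M3 K)ˣ, ∀ g, (P3.cnj ρ B g)ᵀ * jj K * P3.cnj ρ B g = jj K := by
  obtain ⟨f, h1, h3⟩ := h.exists_sym h2 hr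
  obtain ⟨B, c, c0, hB⟩ := H11.sym_similar h2 (by decide) (isSesq_jj h2) h1
  refine ⟨B, fun g => Matrix.ext fun i j => mul_left_cancel₀ c0 ?_⟩
  have k : ∀ x, B.val *ᵥ P3.cnj ρ B g *ᵥ x = ρ g *ᵥ B.val *ᵥ x := fun x => by
    simp [cnj_apply, ← mul_assoc]
  have := hB (P3.cnj ρ B g *ᵥ ee i) (P3.cnj ρ B g *ᵥ ee j)
  rw [k, k, h3 _ (mem_matrixSet_grp.2 ⟨g, rfl⟩), hB, ← vecMul_transpose (P3.cnj ρ B g) (ee i),
    ← dotProduct_mulVec, mulVec_mulVec, mulVec_mulVec] at this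
  simpa using this.symm

theorem Hyp.exists_pgl [Finite K] (h : Hyp ρ π) (h2 : (2 : K) ≠ 0) (hr : Real ρ) {E H : Type*}
    [Group E] [Group H] (ν : E →* (M3 K)ˣ) (hd : ∀ e, (ν e).val.det = 1) (hn : ∀ e, Nrm ρ (ν e))
    (κ : E →* H) (hs : Function.Surjective κ) (hk : ∀ e, κ e = 1 ↔ ∃ c : K, (ν e).val = c • 1) :
    ∃ θ : H →* PGL(2, K), Function.Injective θ := by
  obtain ⟨B, hB⟩ := h.exists_jj h2 hr
  let μ := P3.cnj ((Units.coeHom _).comp ν) B
  have hμ : ∀ e, (B⁻¹ * ν e * B).val = μ e := fun _ => rfl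
  have hk' : ∀ e, κ e = 1 ↔ ∃ c : K, μ e = c • 1 := fun e => (hk e).trans (exists_congr fun c =>
    ⟨fun e => by simp [← hμ, e], fun e => by
      simpa [← hμ, mul_assoc] using congrArg (fun M => B.val * M * B⁻¹.val) e⟩)
  let R : H → PGL(2, K) → Prop := fun x y => ∃ (g : GL (Fin 2) K) (e : E) (c : K),
    ProjGenLinGroup.mk g = y ∧ κ e = x ∧ sym2 g.val = c • μ e
  have mul : ∀ x y x' y', R x y → R x' y' → R (x * x') (y * y') := by
    rintro _ _ _ _ ⟨g, e, c, rfl, rfl, h1⟩ ⟨g', e', c', rfl, rfl, h3⟩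
    exact ⟨g * g', e * e', c * c', map_mul _ _ _, map_mul _ _ _, by
      rw [Units.val_mul, sym2_mul, h1, h3, map_mul, smul_mul_smul_comm]⟩
  have one : ∀ x y, R x y → (x = 1 ↔ y = 1) := by
    rintro _ _ ⟨g, e, c, rfl, rfl, h1⟩
    refine ⟨fun h3 => ?_, fun h3 => (hk' e).2 ?_⟩
    · obtain ⟨d, hd⟩ := (hk' e).1 h3
      exact mk_eq_one_of_sym2 (by rw [h1, hd, smul_smul])
    · obtain ⟨u, hu⟩ := ProjGenLinGroup.mk_eq_mk_iff.1 ((map_one _).trans h3.symm)
      have e1 : sym2 g.val = (u : K) ^ 2 • 1 := by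
        rw [← hu]; ext i j; fin_cases i <;> fin_cases j <;> simp [sym2, sq]
      have c0 : c ≠ 0 := fun e0 => by
        rw [e1, e0, zero_smul] at h1
        simp at h1
      exact ⟨c⁻¹ * u ^ 2, by rw [mul_smul, ← e1, h1, inv_smul_smul₀ c0]⟩
  have ex : ∀ x, ∃ y, R x y := fun x => by
    obtain ⟨e, rfl⟩ := hs x
    have d1 : (μ e).det = 1 := by
      rw [← hμ, Units.val_mul, Units.val_mul, det_mul, det_mul, hd, mul_one, ← det_mul,
        Units.inv_mul, det_one]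
    obtain ⟨l, hl⟩ := (h.cnj B).gram_eq (G := (μ e)ᵀ * jj K * μ e) (J := jj K)
      (I := (2 : K)⁻¹ • !![0, 0, -2; 0, 1, 0; -2, 0, 0]) (τ := P3.cnj ρ B) (by
        ext i j; fin_cases i <;> fin_cases j <;> simp [jj, h2]) (fun g => by
        obtain ⟨g', e'⟩ := (hn e).cnj B g
        rw [Units.eq_mul_inv_iff_mul_eq, hμ] at e'
        rw [← mul_assoc, ← mul_assoc, ← transpose_mul, mul_assoc, ← e', transpose_mul,
          ← mul_assoc, mul_assoc _ _ (jj K), mul_assoc (μ e)ᵀ, hB]) hB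
    have l3 : l ^ 3 = 1 := by
      have := congrArg Matrix.det hl
      rw [det_mul, det_mul, det_transpose, d1, det_smul] at this
      have e : (jj K).det = -2 := by simp [jj, det_fin_three]
      rw [e, Fintype.card_fin] at this
      exact mul_right_cancel₀ h2 (by linear_combination this)
    obtain ⟨g, c, h1⟩ := exists_sym2 h2 (M := l • μ e) (by
      rw [transpose_smul, smul_mul_assoc, smul_mul_smul_comm, hl, smul_smul, ← pow_three', l3,
        one_smul]) (by rw [det_smul, d1, Fintype.card_fin, l3, one_mul])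
    exact ⟨_, g, e, c * l, rfl, rfl, by rw [h1, smul_smul]⟩
  choose θ hθ using ex
  have inv : ∀ x, θ x * θ x⁻¹ = 1 := fun x => (one _ _ (mul _ _ _ _ (hθ x) (hθ x⁻¹))).1 (by simp)
  refine ⟨MonoidHom.mk' θ fun a b => ?_,
    (injective_iff_map_eq_one _).2 fun x hx => (one _ _ (hθ x)).2 hx⟩
  have := (one _ _ (mul _ _ _ _ (mul _ _ _ _ (hθ a) (hθ b)) (hθ (a * b)⁻¹))).1 (by simp)
  exact mul_right_cancel ((inv _).trans this.symm)

theorem dickson_ns {F G : Type*} [Field F] [Finite F] [Group G] (p : ℕ) [hp : Fact p.Prime]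
    [CharP F p] (θ : G →* PGL(2, F)) (hθ : Function.Injective θ) (hG : ¬ Group.IsSolvable G) :
    (5 ∣ Nat.card F ^ 2 - 1 ∧ IsAlt 5 G) ∨ ∃ K : Subfield F, Nat.card K ≠ 3 ∧
      (Nonempty (G ≃* PSL(2, K)) ∨ Nonempty (G ≃* PGL(2, K))) := by
  classical
  haveI : Finite G := Finite.of_injective _ hθ
  have bs : ∀ a b, Nat.card G ∣ 2 ^ a * 3 ^ b → False := fun a b e =>
    hG (H5.isSolvable_of_card_dvd_prime_pow_mul Nat.prime_two Nat.prime_three e)
  have a5 : IsAlt 5 G → p ≠ 5 → 5 ∣ Nat.card F ^ 2 - 1 ∧ IsAlt 5 G := fun e h5 => by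
    refine ⟨?_, e⟩
    have h1 := card_dvd_of_injective θ hθ
    rw [Nat.card_congr e.some.toEquiv, card_pgl_two, Nat.card_eq_fintype_card,
      card_alternatingGroup] at h1
    refine ((Nat.Prime.dvd_mul Nat.prime_five).1 (Dvd.dvd.trans (by decide) h1)).resolve_left
      fun h2 => h5 ?_
    letI := Fintype.ofFinite F
    obtain ⟨n, -, e⟩ := FiniteField.card F p
    rw [Nat.card_eq_fintype_card, e] at h2
    exact ((Nat.prime_dvd_prime_iff_eq Nat.prime_five hp.out).1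
      (Nat.prime_five.dvd_of_dvd_pow h2)).symm
  rcases pgl2_dickson' p θ hθ with ⟨x, hx⟩ | ⟨h, -⟩ | ⟨c, -, hc, -⟩ |
    ⟨h, ⟨⟨e⟩⟩ | ⟨⟨e⟩⟩ | e⟩ | ⟨rfl, e⟩ | ⟨t, K, -, e | ⟨-, e⟩⟩
  · obtain ⟨χ, hχ⟩ := pgl_chi p x
    have h1 : IsPGroup p (χ.comp (θ.codRestrict _ hx)).ker := fun g => ⟨1, Subtype.ext (hθ (by
      rw [pow_one, coe_pow, map_pow, coe_one, map_one]; exact (hχ _).1 g.2))⟩
    haveI := h1.isNilpotent
    exact (hG (Group.isSolvable_of_ker_le_range (MonoidHom.ker _).subtype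
      (χ.comp (θ.codRestrict _ hx)) (range_subtype _).ge)).elim
  · exact (hG (Group.isSolvable_of_comm IsCyclic.isMulCommutative.is_comm.comm)).elim
  · haveI := normal_of_index_eq_two hc
    haveI : Fact (Nat.Prime 2) := ⟨Nat.prime_two⟩
    haveI := isCyclic_of_prime_card (α := G ⧸ zpowers c) hc
    exact (hG ((Group.isSolvable_iff_subgroup_quotient (zpowers c)).2
      ⟨Group.isSolvable_of_comm IsCyclic.isMulCommutative.is_comm.comm,
        Group.isSolvable_of_comm IsCyclic.isMulCommutative.is_comm.comm⟩)).elim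
  · exact (bs 2 1 (by
      rw [Nat.card_congr e.toEquiv, Nat.card_eq_fintype_card, card_alternatingGroup]; decide)).elim
  · exact (bs 3 1 (by rw [Nat.card_congr e.toEquiv, Nat.card_perm]; simp; decide)).elim
  · refine Or.inl (a5 e fun h5 => h ?_)
    rw [Nat.card_congr e.some.toEquiv, Nat.card_eq_fintype_card, card_alternatingGroup, h5]
    decide
  · exact Or.inl (a5 e (by norm_num))
  · obtain ⟨e⟩ := equiv_of_range_eq_subPGL hθ e
    exact Or.inr ⟨K, fun h3 => bs 3 1 (by rw [Nat.card_congr e.toEquiv, card_pgl_two, h3]; rfl),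
      Or.inr ⟨e⟩⟩
  · obtain ⟨e⟩ := equiv_of_range_eq_subPSL hθ e
    exact Or.inr ⟨K, fun h3 => bs 3 1 ((Nat.card_congr e.toEquiv ▸ card_dvd_of_injective _
      pslInc_injective :).trans (by rw [card_pgl_two, h3]; rfl)), Or.inl ⟨e⟩⟩

end Cfsg.Agent.H10.P3
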