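import Cfsg.Agent.H10.P3SL
import Cfsg.Agent.H98.FieldSub

/-!
Characteristic two: a centre on several axes with a non-adjacent centre.
-/

set_option autoImplicit false

open Matrix
open scoped MatrixGroups

namespace Cfsg.Agent.H10.P3

variable {K : Type*} [Field K] {Γ X : Type*} [Group Γ] [Group X]
variable {ρ : Γ →* M3 K} {π : Γ →* X} {v w x φ ψ χ ξ : V3 K}

theorem exists_ne_zero_one {K0 : Subfield K} (h : 2 < Nat.card K0) :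
    ∃ x ∈ K0, x ≠ 0 ∧ x ≠ 1 := by
  by_contra hc
  push Not at hc
  have : Nat.card K0 ≤ Nat.card Bool := by
    classical
    refine Nat.card_le_card_of_injective (fun x => decide ((x : K) = 0)) fun a b e => ?_
    have e' : (a : K) = 0 ↔ (b : K) = 0 := by simpa using e
    by_cases ha : (a : K) = 0
    · exact Subtype.ext (ha.trans (e'.1 ha).symm)
    · exact Subtype.ext ((hc a a.2 ha).trans (hc b b.2 (mt e'.2 ha)).symm)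
  simp at this
  omega

theorem subfield_eq_of_card [Finite K] {K0 K1 : Subfield K} (h : Nat.card K0 = Nat.card K1) :
    K0 = K1 := by
  ext x
  rw [H98.mem_subfield_iff_pow, H98.mem_subfield_iff_pow, h]

/-- All root groups with centre `v` have order at most two. -/
def Small (ρ : Γ →* M3 K) (v : V3 K) : Prop :=
  ∀ φ (a : K), T ρ v φ → φ ≠ 0 → T ρ v (a • φ) → a = 0 ∨ a = 1

theorem small_of_na [Finite K] (h2 : (2 : K) = 0) (hv : Multi ρ v) (hw : T ρ w ψ)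
    (h4 : ψ ⬝ᵥ v ≠ 0) (hn : NA ρ v w) :
    Small ρ v ∧ ∀ b : K, T ρ w (b • ψ) → b = 0 ∨ b = 1 := by
  have key : ∀ φ, T ρ v φ → φ ≠ 0 → (∀ a : K, T ρ v (a • φ) → a = 0 ∨ a = 1) ∧
      ∀ b : K, T ρ w (b • ψ) → b = 0 ∨ b = 1 := by
    intro φ hφ h0
    have h3 : φ ⬝ᵥ w ≠ 0 := fun e => h0 (hn _ hφ e)
    rcases d2T hφ hw h3 h4 with ⟨K0, k, kt, k1, k2⟩ | ⟨k, -⟩ | ⟨-, k⟩
    · exfalso
      obtain ⟨χ, hχ, hi⟩ := hv.exists_indep h0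
      have h3' : χ ⬝ᵥ w ≠ 0 := fun e => hi 0 (by simpa using hn _ hχ e)
      rcases d2T hχ hw h3' h4 with ⟨K1, -, kt', -, k2'⟩ | ⟨k', -⟩ | ⟨-, -, k'⟩
      · have ha : χ ⬝ᵥ w / φ ⬝ᵥ w ∈ K0 := by
          convert K0.div_mem ((k2 _).1 ((k2' _).2 kt')) kt using 1
          field_simp
        exact hi _ (sub_eq_zero.1 (hn _ (hχ.sub ((k1 _).2 ha)) (by simp [h3])))
      · exact absurd (by linear_combination k' - h2 : (1 : K) = 0) one_ne_zero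
      · obtain ⟨y, hy, y0, y1⟩ := exists_ne_zero_one k
        exact (k' y ((k2 y).2 hy)).elim y0 y1
    · exact absurd (by linear_combination k - h2 : (1 : K) = 0) one_ne_zero
    · exact k
  obtain ⟨-, φ, -, h1, -, h0, -⟩ := id hv
  exact ⟨fun φ a h h0 => (key φ h h0).1 a, (key φ h1 h0).2⟩

theorem na_symm (h : T ρ v φ) (h3 : φ ⬝ᵥ w ≠ 0) (hn : NA ρ v w) : NA ρ w v := fun ψ h1 h0 => by
  simpa [h3] using hn _ (h1.comm h h0) (by simp [h1.1])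

/-- Evaluation at `w` maps the axes through `v` onto a line over `K1`. -/
def Good (ρ : Γ →* M3 K) (v w : V3 K) (K1 : Subfield K) : Prop :=
  (∀ φ ψ, T ρ v φ → T ρ v ψ → φ ⬝ᵥ w / ψ ⬝ᵥ w ∈ K1) ∧
    (∀ φ r, T ρ v φ → r ∈ K1 → ∃ ψ, T ρ v ψ ∧ ψ ⬝ᵥ w = r * φ ⬝ᵥ w) ∧
    Nat.card K1 = Nat.card {φ // T ρ v φ}

theorem good_of {K1 : Subfield K} {c : K} (hc : c ≠ 0) (hn : NA ρ v w)
    (h : ∀ a, (∃ φ, T ρ v φ ∧ φ ⬝ᵥ w = a) ↔ a * c ∈ K1) : Good ρ v w K1 := by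
  refine ⟨fun φ ψ h1 h2 => ?_, fun φ r h1 hr => (h _).2 ?_, ?_⟩
  · have := K1.div_mem ((h _).1 ⟨_, h1, rfl⟩) ((h _).1 ⟨_, h2, rfl⟩)
    rwa [mul_div_mul_right _ _ hc] at this
  · rw [mul_assoc]; exact K1.mul_mem hr ((h _).1 ⟨_, h1, rfl⟩)
  · refine (Nat.card_eq_of_bijective (fun φ : {φ // T ρ v φ} =>
      (⟨φ.1 ⬝ᵥ w * c, (h _).1 ⟨_, φ.2, rfl⟩⟩ : K1)) ⟨fun a b e => ?_, fun y => ?_⟩).symm
    · have e' := mul_right_cancel₀ hc (congrArg Subtype.val e)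
      exact Subtype.ext (sub_eq_zero.1 (hn _ (a.2.sub b.2) (by rw [sub_dotProduct, e', sub_self])))
    · obtain ⟨φ, h1, h2⟩ := (h (y / c)).2 (by rw [div_mul_cancel₀ _ hc]; exact y.2)
      exact ⟨⟨φ, h1⟩, Subtype.ext (by simp [h2, hc])⟩

theorem exists_good [Finite K] (h2 : (2 : K) = 0) (hv : Multi ρ v) (hw : T ρ w ψ)
    (h4 : ψ ⬝ᵥ v ≠ 0) (hn : NA ρ v w) :
    ∃ K1 : Subfield K, Good ρ v w K1 ∧ Good ρ w v K1 ∧ Multi ρ w ∧ NA ρ w v := by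
  obtain ⟨-, φ, φ1, h, h5, h0, hi⟩ := id hv
  have h3 : φ ⬝ᵥ w ≠ 0 := fun e => h0 (hn _ h e)
  have n2 := na_symm h h3 hn
  obtain ⟨K1, k, k1, k2⟩ := d2Q h2 h hw h3 h4 hn n2 h5 (fun e => hi 0 (by simp [e]))
    (fun e => hi 1 (by simp [e]))
  have g2 : Good ρ w v K1 := good_of h3 n2 fun a => by rw [k2, mul_comm]
  refine ⟨K1, good_of h4 hn k1, g2, ?_, n2⟩
  obtain ⟨y, hy, y0, y1⟩ := exists_ne_zero_one k
  obtain ⟨ψ', a1, a2⟩ := g2.2.1 ψ y hw hy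
  refine ⟨by rintro rfl; simp at h3, ψ, ψ', hw, a1, by rintro rfl; simp at h4, fun c e => ?_⟩
  subst e
  rw [smul_dotProduct, smul_eq_mul] at a2
  rw [mul_right_cancel₀ h4 a2] at a1
  exact ((small_of_na h2 hv hw h4 hn).2 y a1).elim y0 y1

/-- No centre is adjacent to `v`. -/
def NoAdj (ρ : Γ →* M3 K) (v : V3 K) : Prop :=
  ∀ x ξ, T ρ x ξ → ξ ≠ 0 → (∀ c : K, x ≠ c • v) → NA ρ v x

theorem NoAdj.ne (h : NoAdj ρ v) (hv : Multi ρ v) (hx : T ρ x ξ) (h0 : ξ ≠ 0)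
    (hi : ∀ c : K, x ≠ c • v) : ξ ⬝ᵥ v ≠ 0 := fun e => by
  obtain ⟨φ, h1, h3⟩ := hv.exists_ne hi
  simpa [h3, h0] using h x ξ hx h0 hi _ (hx.comm h1 e) (by simp [hx.1])

theorem not_noAdj [Finite K] (h : Hyp ρ π) (h2 : (2 : K) = 0) (hv : Multi ρ v) (hw : T ρ w ψ)
    (h4 : ψ ⬝ᵥ v ≠ 0) (hn : NA ρ v w) (a1 : NoAdj ρ v) (a2 : NoAdj ρ w) : False := by
  obtain ⟨K1, g1, g2, mw, n2⟩ := exists_good h2 hv hw h4 hn
  have hψ : ψ ≠ 0 := by rintro rfl; simp at h4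
  have hvw := not_smul_symm mw.1 (not_smul_of_dot hw.1 h4)
  have c0 := cross_ne_zero hv.1 hvw
  have c1 : (w ⨯₃ v) ⬝ᵥ v = 0 := by rw [dotProduct_comm, dot_cross_self]
  have c2 : (w ⨯₃ v) ⬝ᵥ w = 0 := by rw [dotProduct_comm, dot_self_cross]
  obtain ⟨x, ξ, hx, hξ, h5⟩ := h.exists_centre hw mw.1 hψ c0
  have hxw := not_smul_of_dot c2 h5
  have hξw := a2.ne mw hx hξ hxw
  have gv : ∀ y η, T ρ y η → η ≠ 0 → (w ⨯₃ v) ⬝ᵥ y ≠ 0 → Good ρ v y K1 ∧ NA ρ v y := by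
    intro y η hy hη h6
    have hi := not_smul_of_dot c1 h6
    have n := a1 y η hy hη hi
    obtain ⟨K2, g, -⟩ := exists_good h2 hv hy (a1.ne hv hy hη hi) n
    exact ⟨subfield_eq_of_card (g.2.2.trans g1.2.2.symm) ▸ g, n⟩
  have gx : ∀ ψ', T ρ w ψ' → Good ρ v (x + (ψ' ⬝ᵥ x) • w) K1 ∧ NA ρ v (x + (ψ' ⬝ᵥ x) • w) :=
    fun ψ' h' => gv _ _ (h'.act hx) (fun e => hξw (by
      simpa [h'.1] using congrArg (· ⬝ᵥ w) e)) (by simpa [c2] using h5)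
  have nwx := a2 x ξ hx hξ hxw
  have gw : Good ρ w x K1 := by
    obtain ⟨K2, g, -⟩ := exists_good h2 mw hx hξw nwx
    exact subfield_eq_of_card (g.2.2.trans g2.2.2.symm) ▸ g
  obtain ⟨-, χ2, χ1, t2, t1, h0, hi⟩ := id hv
  obtain ⟨g3, n3⟩ := gv x ξ hx hξ h5
  have b2 : χ2 ⬝ᵥ w ≠ 0 := fun e => h0 (hn _ t2 e)
  have d2 : χ2 ⬝ᵥ x ≠ 0 := fun e => h0 (n3 _ t2 e)
  have m0 : ψ ⬝ᵥ x ≠ 0 := fun e => hψ (nwx _ hw e)
  have hr := g1.1 _ _ t1 t2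
  have hs := g3.1 _ _ t1 t2
  obtain ⟨g4, n4⟩ := gx ψ hw
  have hp := g4.1 _ _ t1 t2
  have e2 : χ2 ⬝ᵥ (x + (ψ ⬝ᵥ x) • w) ≠ 0 := fun e => h0 (n4 _ t2 e)
  simp only [dotProduct_add, dotProduct_smul, smul_eq_mul] at hp e2
  have hrs : χ1 ⬝ᵥ w / χ2 ⬝ᵥ w ≠ χ1 ⬝ᵥ x / χ2 ⬝ᵥ x := fun e => by
    obtain ⟨c, hc⟩ := exists_smul_of_dot hv.1 hvw c0 c2 c1
      (ψ := χ1 - (χ1 ⬝ᵥ w / χ2 ⬝ᵥ w) • χ2) (by simp [b2]) (by simp [t1.1, t2.1])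
    have := congrArg (· ⬝ᵥ x) hc
    simp only [sub_dotProduct, smul_dotProduct, smul_eq_mul, e, div_mul_cancel₀ _ d2, sub_self,
      zero_eq_mul, h5, or_false] at this
    rw [this, zero_smul, sub_eq_zero] at hc
    exact hi _ hc
  generalize χ1 ⬝ᵥ w = b1 at *
  generalize χ1 ⬝ᵥ x = d1 at *
  have hne : b1 * χ2 ⬝ᵥ x - d1 * χ2 ⬝ᵥ w ≠ 0 := fun e => hrs (by
    field_simp; linear_combination e)
  have hm : -(χ2 ⬝ᵥ x / (χ2 ⬝ᵥ w * ψ ⬝ᵥ x)) ∈ K1 := by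
    have alg : ∀ b1 d1 b2 d2 m E : K, b2 ≠ 0 → d2 ≠ 0 → m ≠ 0 → E ≠ 0 → E = d2 + m * b2 →
        b1 * d2 - d1 * b2 ≠ 0 → -(d2 / (b2 * m)) =
          ((d1 + m * b1) / E - b1 / b2) / ((d1 + m * b1) / E - d1 / d2) := by
      intro b1 d1 b2 d2 m E hb hd hm hE e hne
      have e1 : (d1 + m * b1) / E - b1 / b2 = -(b1 * d2 - d1 * b2) / (E * b2) := by
        field_simp; rw [e]; ring
      have e2 : (d1 + m * b1) / E - d1 / d2 = m * (b1 * d2 - d1 * b2) / (E * d2) := by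
        field_simp; rw [e]; ring
      rw [e1, e2]
      generalize b1 * d2 - d1 * b2 = N at hne
      field_simp
    rw [alg _ _ _ _ _ _ b2 d2 m0 e2 rfl hne]
    exact K1.div_mem (K1.sub_mem hp hr) (K1.sub_mem hp hs)
  obtain ⟨ψ', p1, p2⟩ := gw.2.1 ψ _ hw hm
  refine h0 ((gx ψ' p1).2 _ t2 ?_)
  rw [dotProduct_add, dotProduct_smul, p2, smul_eq_mul]
  field_simp
  ring

theorem exists_small_adj [Finite K] (h : Hyp ρ π) (h2 : (2 : K) = 0) (hA : ¬ AdjP ρ) :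
    ∃ v, Multi ρ v ∧ Small ρ v ∧ ¬ NoAdj ρ v := by
  simp only [AdjP, not_forall, not_not] at hA
  obtain ⟨v, w, ψ, hv, hw, h4, hn⟩ := hA
  by_cases a1 : NoAdj ρ v
  · obtain ⟨K1, -, -, mw, n2⟩ := exists_good h2 hv hw h4 hn
    obtain ⟨-, φ, -, t, -, h0, -⟩ := id hv
    exact ⟨w, mw, (small_of_na h2 mw t (fun e => h0 (hn _ t e)) n2).1,
      not_noAdj h h2 hv hw h4 hn a1⟩
  · exact ⟨v, hv, (small_of_na h2 hv hw h4 hn).1, a1⟩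

/-- The configuration of a dihedral Sylow subgroup of order eight. -/
structure D8 (ρ : Γ →* M3 K) (v x χ ξ : V3 K) : Prop where
  v0 : v ≠ 0
  c0 : χ ≠ 0
  t1 : T ρ v χ
  t2 : T ρ v ξ
  t3 : T ρ x χ
  one : ξ ⬝ᵥ x = 1
  small : Small ρ v

theorem exists_d8 (hv : Multi ρ v) (hs : Small ρ v) (hn : ¬ NoAdj ρ v) :
    ∃ x χ ξ, D8 ρ v x χ ξ := by
  simp only [NoAdj, NA, not_forall] at hn
  obtain ⟨x, η, hx, hη, hi, χ, t1, c1, c0⟩ := hn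
  obtain ⟨c, hc, t3⟩ : ∃ c : K, c ≠ 0 ∧ T ρ x (c • χ) := by
    by_cases e : η ⬝ᵥ v = 0
    · obtain ⟨c, rfl⟩ := exists_smul_of_dot hv.1 hi c0 c1 t1.1 hx.1 e
      exact ⟨c, by rintro rfl; simp at hη, hx⟩
    · exact ⟨_, e, t1.comm hx c1⟩
  rw [← T.smul_iff] at t3
  obtain ⟨ξ, t2, hj⟩ := hv.exists_indep c0
  refine ⟨c • x, χ, ξ, hv.1, c0, t1, t2, t3, ?_, hs⟩
  refine (hs _ _ t1 c0 (t3.comm t2 t1.1)).resolve_left fun e => ?_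
  have e' : ξ ⬝ᵥ x = 0 := by simpa [hc] using e
  obtain ⟨d, hd⟩ := exists_smul_of_dot hv.1 hi c0 c1 t1.1 e' t2.1
  exact hj d hd

end Cfsg.Agent.H10.P3
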