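import Cfsg.Agent.H10.P3U
import Cfsg.Agent.H10.P3SU

/-!
Groups of transvections in which any two distinct flags are opposite: the unitary form.
-/

set_option autoImplicit false

open Matrix
open scoped MatrixGroups

namespace Cfsg.Agent.H10.P3

variable {K : Type*} [Field K] {Γ X : Type*} [Group Γ] [Group X]
variable {ρ : Γ →* M3 K} {π : Γ →* X} {v w x φ ψ χ ξ : V3 K} {K0 : Subfield K}

theorem exists_frob [Finite K] (K0 : Subfield K) :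
    ∃ σ : K →+* K, ∀ x, σ x = x ^ Nat.card K0 := by
  obtain ⟨p, hp⟩ := CharP.exists K
  haveI : Fact p.Prime := ⟨CharP.char_is_prime K p⟩
  haveI := Fintype.ofFinite K0
  haveI : CharP K0 p := (K0.subtype.charP_iff_charP p).2 hp
  obtain ⟨n, -, hn⟩ := FiniteField.card K0 p
  exact ⟨iterateFrobenius K p n, fun x => by rw [Nat.card_eq_fintype_card, hn]; rfl⟩

theorem card_quad [Finite K] {σ : K →+* K} (hσ : ∀ x, σ x = x ^ Nat.card K0) {m : K}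
    (h1 : m ∉ K0) (h2 : σ (σ m) = m) :
    Nat.card ((σ.comp σ).eqLocusField (RingHom.id K)) = Nat.card K0 ^ 2 := by
  set K1 := (σ.comp σ).eqLocusField (RingHom.id K)
  have hf : ∀ x ∈ K0, σ x = x := fun x hx => by rw [hσ, ← H98.mem_subfield_iff_pow]; exact hx
  have h0 : 1 < Nat.card K0 := Finite.one_lt_card
  apply le_antisymm
  · haveI := Fintype.ofFinite K1
    have h3 := (FiniteField.forall_pow_eq_one_iff K1 (Nat.card K0 ^ 2 - 1)).1 fun x => by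
      have e : σ (σ ((x : K1) : K)) = ((x : K1) : K) := (x : K1).2
      rw [hσ, hσ, ← pow_mul, ← sq] at e
      apply mul_right_cancel (b := x)
      rw [← pow_succ, one_mul, Nat.sub_add_cancel (Nat.one_le_pow _ _ (by omega))]
      exact Units.ext (Subtype.ext (by simpa using e))
    have h4 : 1 < Nat.card K0 ^ 2 := Nat.one_lt_pow (by norm_num) h0
    have := Nat.le_of_dvd (by omega) h3
    rw [Nat.card_eq_fintype_card]
    omega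
  · rw [sq, ← Nat.card_prod]
    refine Nat.card_le_card_of_injective (fun p : K0 × K0 => (⟨p.1 + p.2 * m, ?_⟩ : K1)) ?_
    · change σ (σ _) = _
      simp [hf _ p.1.2, hf _ p.2.2, h2]
    · intro a b e
      have e' : (a.1 : K) + a.2 * m = b.1 + b.2 * m := congrArg Subtype.val e
      have e2 : (a.2 : K) = b.2 := by
        by_contra hc
        refine h1 ?_
        rw [show m = (b.1 - a.1) / (a.2 - b.2) by
          rw [eq_div_iff (sub_ne_zero.2 hc)]; linear_combination e']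
        exact K0.div_mem (K0.sub_mem b.1.2 a.1.2) (K0.sub_mem a.2.2 b.2.2)
      exact Prod.ext (Subtype.ext (by rw [e2] at e'; exact add_right_cancel e')) (Subtype.ext e2)

theorem Fl.cnj (h : Fl ρ v φ) (B : (M3 K)ˣ) : Fl (cnj ρ B) (B⁻¹.val *ᵥ v) (φ ᵥ* B.val) :=
  ⟨h.1.cnj B, fun e => h.2.1 (units_mulVec_inj B⁻¹ (by simpa using e)),
    fun e => h.2.2 (vecMul_units_inj B (by simpa using e))⟩

theorem Fl.of_cnj {B : (M3 K)ˣ} (h : Fl (P3.cnj ρ B) v φ) :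
    Fl ρ (B.val *ᵥ v) (φ ᵥ* B⁻¹.val) := by
  simpa [cnj_cnj_inv] using h.cnj B⁻¹

theorem dot_cnj (B : (M3 K)ˣ) (φ v : V3 K) : (φ ᵥ* B⁻¹.val) ⬝ᵥ (B.val *ᵥ v) = φ ⬝ᵥ v := by
  rw [← dotProduct_mulVec, mulVec_mulVec, Units.inv_mul, one_mulVec]

theorem Opp.cnj (h : Opp ρ) (B : (M3 K)ˣ) : Opp (cnj ρ B) := by
  intro v φ w ψ hv hw
  have := h _ _ _ _ hv.of_cnj hw.of_cnj
  rw [dot_cnj, dot_cnj] at this
  refine this.imp_right fun ⟨⟨c, hc⟩, d, hd⟩ => ⟨⟨c, units_mulVec_inj B ?_⟩, d,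
    vecMul_units_inj B⁻¹ ?_⟩
  · rw [hc, mulVec_smul]
  · rw [hd, smul_vecMul]

theorem UF.cnj (h : UF ρ K0) (B : (M3 K)ˣ) : UF (cnj ρ B) K0 := by
  refine ⟨h.card, fun v φ hv a => ?_, fun v φ w ψ hv hw => ?_⟩
  · rw [← h.root _ _ hv.of_cnj, ← smul_vecMul]
    exact ⟨fun t => by simpa [cnj_cnj_inv] using t.cnj B⁻¹, fun t => by simpa using t.cnj B⟩
  · simpa only [dot_cnj] using h.pair _ _ _ _ hv.of_cnj hw.of_cnj

section

variable [Finite K] {σ : K →+* K} (hσ : ∀ x, σ x = x ^ Nat.card K0) (hO : Opp ρ) (hU : UF ρ K0)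
include hσ

theorem mem_iff_frob {x : K} : x ∈ K0 ↔ σ x = x := by rw [hσ, H98.mem_subfield_iff_pow]

include hO hU

theorem skew (hv : Fl ρ v φ) (hw : Fl ρ w ψ) (hx : Fl ρ x ξ) (a1 : φ ⬝ᵥ w = 1) (a2 : ψ ⬝ᵥ v = -1)
    (b1 : φ ⬝ᵥ x = 1) (b2 : ξ ⬝ᵥ v = -1) :
    σ (ψ ⬝ᵥ x) = -(ξ ⬝ᵥ w) ∧ (ψ ⬝ᵥ x ∈ K0 → ∃ c a : K, x = c • (w + a • v)) := by
  have key : ∀ a ∈ K0, Fl ρ (w + a • v) (ψ + a • φ) := fun a ha => by
    simpa [a1, a2] using Fl.act ((hU.root _ _ hv a).2 ha) hw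
  have h2 : ψ ⬝ᵥ x ∈ K0 → (ξ ⬝ᵥ w = -(ψ ⬝ᵥ x) ∧ ∃ c a : K, x = c • (w + a • v)) := fun hm => by
    rcases hO _ _ _ _ (key _ (K0.neg_mem hm)) hx with ⟨e, -⟩ | ⟨⟨c, hc⟩, d, hd⟩
    · exact absurd (by simp [b1]) e
    · refine ⟨?_, c, _, hc⟩
      have := (key _ (K0.neg_mem hm)).1.1
      have e : ξ ⬝ᵥ (w + -(ψ ⬝ᵥ x) • v) = 0 := by rw [hd, smul_dotProduct, this, smul_zero]
      rw [dotProduct_add, dotProduct_smul, b2, smul_eq_mul] at e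
      linear_combination e
  refine ⟨?_, fun hm => (h2 hm).2⟩
  by_cases hm : ψ ⬝ᵥ x ∈ K0
  · rw [(h2 hm).1, neg_neg, (mem_iff_frob hσ).1 hm]
  have n := (mem_iff_frob hσ).1 (hU.pair _ _ _ _ hw hx)
  have s := (mem_iff_frob hσ).1 (hU.pair _ _ _ _ (key 1 K0.one_mem) hx)
  simp only [one_smul, add_dotProduct, dotProduct_add, b1, b2, map_mul, map_add, map_one,
    map_neg] at n s
  have : (σ (ψ ⬝ᵥ x) - ψ ⬝ᵥ x) * (σ (ψ ⬝ᵥ x) + ξ ⬝ᵥ w) = 0 := by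
    linear_combination (σ (ψ ⬝ᵥ x) + 1) * n - σ (ψ ⬝ᵥ x) * s
  rw [mem_iff_frob hσ] at hm
  linear_combination (mul_eq_zero.1 this).resolve_left (sub_ne_zero.2 hm)

omit [Finite K] hσ in
theorem exists_norm (hv : Fl ρ v φ) (hw : Fl ρ w ψ) (hi : ∀ c : K, w ≠ c • v) :
    ∃ (b : K) (ψ' : V3 K) (a : K), a ∈ K0 ∧ b ≠ 0 ∧ Fl ρ (b • w) ψ' ∧ φ ⬝ᵥ (b • w) = 1 ∧
      ψ' ⬝ᵥ v = -1 ∧ vecMulVec w ψ = a • vecMulVec (b • w) ψ' := by
  obtain ⟨e1, e2⟩ := hO.ne hv hw hi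
  have t := hU.pair _ _ _ _ hv hw
  refine ⟨(φ ⬝ᵥ w)⁻¹, (-(ψ ⬝ᵥ v)⁻¹) • ψ, -(φ ⬝ᵥ w * ψ ⬝ᵥ v), K0.neg_mem t, inv_ne_zero e1,
    ⟨?_, smul_ne_zero (inv_ne_zero e1) hw.2.1,
      smul_ne_zero (neg_ne_zero.2 (inv_ne_zero e2)) hw.2.2⟩, by simp [e1], by simp [e2], ?_⟩
  · rw [T.smul_iff, smul_smul, hU.root _ _ hw, mul_neg, ← mul_inv]
    exact K0.neg_mem (K0.inv_mem t)
  · rw [smul_vecMulVec, vecMulVec_smul, smul_smul, smul_smul]
    rw [show -(φ ⬝ᵥ w * ψ ⬝ᵥ v) * (φ ⬝ᵥ w)⁻¹ * -(ψ ⬝ᵥ v)⁻¹ = 1 by field_simp, one_smul]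

theorem coordA {m : K} (hm : m ∉ K0) (hm2 : σ (σ m) = m) (f0 : Fl ρ (ee 0) ![0, 1, 1])
    (f1 : Fl ρ (ee 1) ![-1, 0, m]) (f2 : Fl ρ (ee 2) ![-1, -σ m, 0]) (hw : Fl ρ w ψ) :
    ∃ (z : V3 K) (a : K), a ∈ K0 ∧ (∀ i, σ (σ (z i)) = z i) ∧
      ((fun i => σ (z i)) ᵥ* !![0, 1, 1; -1, 0, m; -1, -σ m, 0]) ⬝ᵥ z = 0 ∧
      vecMulVec w ψ = a • vecMulVec z ((fun i => σ (z i)) ᵥ* !![0, 1, 1; -1, 0, m; -1, -σ m, 0]) := by
  by_cases hi : ∃ c : K, w = c • ee 0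
  · rcases hO _ _ _ _ f0 hw with ⟨e, -⟩ | ⟨⟨c, rfl⟩, d, rfl⟩
    · obtain ⟨c, rfl⟩ := hi
      simp at e
    · have t := hw.1
      rw [T.smul_iff, smul_smul, hU.root _ _ f0] at t
      have e : (fun i => σ ((ee 0 : V3 K) i)) ᵥ* !![0, 1, 1; -1, 0, m; -1, -σ m, 0] = ![0, 1, 1] := by
        ext i; fin_cases i <;> simp [vecMul, dotProduct, Fin.sum_univ_three]
      refine ⟨ee 0, c * d, t, fun i => by fin_cases i <;> simp, by rw [e]; simp, ?_⟩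
      rw [e, smul_vecMulVec, vecMulVec_smul, smul_smul]
  push Not at hi
  obtain ⟨b, η, a, ha, -, hy, y1, y2, e⟩ := exists_norm hO hU f0 hw hi
  generalize b • w = y at hy y1 e
  have s1 := (skew hσ hO hU f0 f1 hy (by simp) (by simp) y1 y2).1
  have s2 := (skew hσ hO hU f0 f2 hy (by simp) (by simp) y1 y2).1
  have s3 := (skew hσ hO hU f0 hy f1 y1 y2 (by simp) (by simp)).1
  have s4 := (skew hσ hO hU f0 hy f2 y1 y2 (by simp) (by simp)).1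
  simp only [dotProduct, Fin.sum_univ_three, cons_val_zero, cons_val_one, cons_val, zero_mul,
    one_mul, neg_mul, add_zero, zero_add, map_add, map_neg, map_mul, hm2, Pi.single_apply,
    mul_ite, mul_one, mul_zero, Fin.reduceEq, if_true, if_false] at s1 s2 s3 s4 y1 y2
  have t1 := congrArg σ s1
  have t2 := congrArg σ s2
  have t3 := congrArg σ y1
  have t4 := congrArg σ t3
  simp only [map_add, map_neg, map_mul, hm2, map_one, s3, s4] at t1 t2 t3 t4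
  have hne : m - σ m ≠ 0 := fun e => hm ((mem_iff_frob hσ).2 (by linear_combination -e))
  have z2 : σ (σ (y 2)) = y 2 := mul_left_cancel₀ hne (by
    linear_combination t1 - t2 - σ m * t4 + σ m * y1)
  have e' : (fun i => σ (y i)) ᵥ* !![0, 1, 1; -1, 0, m; -1, -σ m, 0] = η := by
    ext i
    fin_cases i <;> simp [vecMul, dotProduct, Fin.sum_univ_three]
    · linear_combination -t3 - y2
    · linear_combination -s1
    · linear_combination -s2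
  refine ⟨y, a, ha, fun i => ?_, by rw [e']; exact hy.1.1, by rw [e', e]⟩
  fin_cases i
  · change σ (σ (y 0)) = y 0
    linear_combination -t1 + m * z2
  · change σ (σ (y 1)) = y 1
    linear_combination t4 - y1 - z2
  · exact z2

theorem exists_coord (h : Hyp ρ π) (hv : Fl ρ v φ) :
    ∃ (B : (M3 K)ˣ) (m : K), m ∉ K0 ∧ σ (σ m) = m ∧ Fl (cnj ρ B) (ee 0) ![0, 1, 1] ∧
      Fl (cnj ρ B) (ee 1) ![-1, 0, m] ∧ Fl (cnj ρ B) (ee 2) ![-1, -σ m, 0] := by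
  obtain ⟨w, ψ, hw, hw0, h1⟩ := h.exists_axis hv.1 hv.2.1 hv.2.2 hv.2.1
  obtain ⟨b, ψ, -, -, -, hw, a1, a2, -⟩ := exists_norm hO hU hv
    (⟨hw, hw0, by rintro rfl; simp at h1⟩ : Fl ρ w ψ)
    (not_smul_symm hw0 (not_smul_of_dot hw.1 h1))
  generalize b • w = w at hw a1
  have hwv : ∀ c : K, w ≠ c • v := not_smul_of_dot hv.1.1 (by rw [a1]; exact one_ne_zero)
  have c0 := cross_ne_zero hv.2.1 hwv
  have c1 : (w ⨯₃ v) ⬝ᵥ v = 0 := by rw [dotProduct_comm, dot_cross_self]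
  have c2 : (w ⨯₃ v) ⬝ᵥ w = 0 := by rw [dotProduct_comm, dot_self_cross]
  obtain ⟨x, ξ, hx, hξ, h5⟩ := h.exists_centre hv.1 hv.2.1 hv.2.2 c0
  obtain ⟨b, ξ, -, -, hb, hx, b1, b2, -⟩ := exists_norm hO hU hv
    (⟨hx, by rintro rfl; simp at h5, hξ⟩ : Fl ρ x ξ) (not_smul_of_dot c1 h5)
  have h6 : (w ⨯₃ v) ⬝ᵥ (b • x) ≠ 0 := by simp [hb, h5]
  generalize b • x = x at hx b1 h6
  obtain ⟨s1, s2⟩ := skew hσ hO hU hv hw hx a1 a2 b1 b2
  have s3 := (skew hσ hO hU hv hx hw b1 b2 a1 a2).1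
  obtain ⟨B, hB⟩ := exists_basis hv.2.1 hwv c1 c2 h6
  have e0 : B⁻¹.val *ᵥ v = ee 0 := inv_mulVec_of (by rw [hB, cols3_mulVec]; simp)
  have e1 : B⁻¹.val *ᵥ w = ee 1 := inv_mulVec_of (by rw [hB, cols3_mulVec]; simp)
  have e2 : B⁻¹.val *ᵥ x = ee 2 := inv_mulVec_of (by rw [hB, cols3_mulVec]; simp)
  refine ⟨B, ψ ⬝ᵥ x, fun hm => ?_, by rw [s1, map_neg, s3, neg_neg], ?_, ?_, ?_⟩
  · obtain ⟨c, a, rfl⟩ := s2 hm
    simp [c1, c2] at h6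
  · have := hv.cnj B
    rwa [e0, hB, vecMul_cols3, hv.1.1, a1, b1] at this
  · have := hw.cnj B
    rwa [e1, hB, vecMul_cols3, hw.1.1, a2] at this
  · have := hx.cnj B
    rwa [e2, hB, vecMul_cols3, hx.1.1, b2, ← neg_neg (ξ ⬝ᵥ w), ← s1] at this

end

end Cfsg.Agent.H10.P3
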