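import Cfsg.Agent.H10.P3D8
import Cfsg.Agent.H42.ZStar

/-!
Groups of transvections in which any two distinct flags are opposite: the root field.
-/

set_option autoImplicit false

open Matrix
open scoped MatrixGroups

namespace Cfsg.Agent.H10.P3

variable {K : Type*} [Field K] {Γ X : Type*} [Group Γ] [Group X]
variable {ρ : Γ →* M3 K} {π : Γ →* X} {v w x φ ψ χ ξ : V3 K}

/-- A non-trivial transvection of the group. -/
def Fl (ρ : Γ →* M3 K) (v φ : V3 K) : Prop := T ρ v φ ∧ v ≠ 0 ∧ φ ≠ 0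

theorem Fl.act (h : T ρ v φ) (h' : Fl ρ w ψ) : Fl ρ (w + (φ ⬝ᵥ w) • v) (ψ - (ψ ⬝ᵥ v) • φ) := by
  refine ⟨h.act h'.1, fun e => h'.2.1 ?_, fun e => h'.2.2 ?_⟩
  · have := congrArg (φ ⬝ᵥ ·) e
    simp only [dotProduct_add, dotProduct_smul, h.1, smul_zero, add_zero, dotProduct_zero] at this
    simpa [this] using e
  · have := congrArg (· ⬝ᵥ v) e
    simp only [sub_dotProduct, smul_dotProduct, h.1, smul_zero, sub_zero, zero_dotProduct] at this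
    simpa [this] using e

/-- Distinct flags are opposite. -/
def Opp (ρ : Γ →* M3 K) : Prop := ∀ v φ w ψ, Fl ρ v φ → Fl ρ w ψ →
  (φ ⬝ᵥ w ≠ 0 ∧ ψ ⬝ᵥ v ≠ 0) ∨ ((∃ c : K, w = c • v) ∧ ∃ d : K, ψ = d • φ)

theorem opp_of (h1 : ∀ v, ¬ Multi ρ v) (h2 : ∀ φ, ¬ Multi (dual ρ) φ) : Opp ρ := by
  intro v φ w ψ hv hw
  by_cases a : ∃ c : K, w = c • v
  · refine Or.inr ⟨a, ?_⟩
    obtain ⟨c, rfl⟩ := a
    have hc : c ≠ 0 := by rintro rfl; exact hw.2.1 (zero_smul _ _)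
    by_contra b
    exact h1 v ⟨hv.2.1, φ, c • ψ, hv.1, (T.smul_iff _).1 hw.1, hv.2.2,
      fun d e => b ⟨c⁻¹ * d, by rw [mul_smul, ← e, inv_smul_smul₀ hc]⟩⟩
  push Not at a
  by_cases b : ∃ d : K, ψ = d • φ
  · obtain ⟨d, rfl⟩ := b
    have hd : d ≠ 0 := by rintro rfl; exact hw.2.2 (zero_smul _ _)
    exact absurd ⟨hv.2.2, v, d • w, T.dual_iff.2 hv.1, T.dual_iff.2 ((T.smul_iff _).2 hw.1), hv.2.1,
      fun c e => a (d⁻¹ * c) (by rw [mul_smul, ← e, inv_smul_smul₀ hd])⟩ (h2 φ)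
  push Not at b
  by_cases e1 : φ ⬝ᵥ w = 0 <;> by_cases e2 : ψ ⬝ᵥ v = 0
  · obtain ⟨c, hc⟩ := exists_smul_of_dot hv.2.1 a hv.2.2 e1 hv.1.1 hw.1.1 e2
    exact absurd hc (b c)
  · exact absurd ⟨hw.2.1, _, ψ, hv.1.comm hw.1 e1, hw.1, smul_ne_zero e2 hv.2.2,
      fun c e => b _ (by rw [e, smul_smul])⟩ (h1 w)
  · exact absurd ⟨hv.2.1, φ, _, hv.1, hw.1.comm hv.1 e2, hv.2.2,
      fun c e => b ((φ ⬝ᵥ w)⁻¹ * c) (by rw [mul_smul, ← e, inv_smul_smul₀ e1])⟩ (h1 v)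
  · exact Or.inl ⟨e1, e2⟩

theorem Opp.ne (h : Opp ρ) (hv : Fl ρ v φ) (hw : Fl ρ w ψ) (hi : ∀ c : K, w ≠ c • v) :
    φ ⬝ᵥ w ≠ 0 ∧ ψ ⬝ᵥ v ≠ 0 := (h _ _ _ _ hv hw).resolve_right fun ⟨⟨c, e⟩, _⟩ => hi c e

theorem Hyp.not_isolated [Finite X] (h : Hyp ρ π) {z : X} (hz : IsIsolatedInvolution z) : False := by
  obtain ⟨N, hN, ho, hc⟩ := H42.zstar hz
  rcases h.simple.eq_bot_or_eq_top_of_normal N hN with rfl | rfl
  · have := h.center_eq (z := z) fun g => by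
      have := Subgroup.mem_bot.1 (hc g)
      rw [mul_inv_eq_one, mul_inv_eq_iff_eq_mul] at this
      exact this.symm
    have h2 := hz.1
    rw [this, orderOf_one] at h2
    omega
  · have := orderOf_dvd_natCard z
    rw [hz.1, ← Subgroup.card_top] at this
    exact Nat.not_even_iff_odd.2 ho (even_iff_two_dvd.2 this)

theorem not_two [Finite X] (h : Hyp ρ π) (hO : Opp ρ) (h2 : (2 : K) = 0) (hv : Fl ρ v φ)
    (hs : ∀ a : K, T ρ v (a • φ) → a = 0 ∨ a = 1) : False := by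
  obtain ⟨z, hz⟩ := hv.1.2
  have z2 : z * z = 1 := h.inj (by rw [map_mul, hz, tv_sq h2 hv.1.1, map_one])
  haveI : Fact (Nat.Prime 2) := ⟨Nat.prime_two⟩
  refine h.not_isolated (z := π z) ⟨orderOf_eq_prime (by rw [sq, ← map_mul, z2, map_one])
    (h.tv_ker hv.1.1 hz hv.2.1 hv.2.2), fun g hg => ?_⟩
  obtain ⟨g, rfl⟩ := h.surj g
  have hw : Fl ρ (ρ g *ᵥ v) (φ ᵥ* ρ g⁻¹) :=
    ⟨hv.1.conj g, rho_mulVec_ne ρ g hv.2.1, vecMul_rho_ne ρ _ hv.2.2⟩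
  have e : ρ (g * z * g⁻¹) = 1 + vecMulVec (ρ g *ᵥ v) (φ ᵥ* ρ g⁻¹) := by
    rw [map_mul, map_mul, hz, mul_add, add_mul, mul_one, mul_inv_rho, mul_vecMulVec, vecMulVec_mul]
  rw [← map_inv, ← map_mul, ← map_mul] at hg ⊢
  generalize g * z * g⁻¹ = y, ρ g *ᵥ v = w, φ ᵥ* ρ g⁻¹ = ψ at hg hw e ⊢
  have y2 : y * y = 1 := h.inj (by rw [map_mul, e, tv_sq h2 hw.1.1, map_one])
  rcases hO _ _ _ _ hv hw with ⟨a, b⟩ | ⟨⟨c, rfl⟩, d, rfl⟩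
  · exfalso
    obtain ⟨u, hu, e'⟩ := h.exists_ker_of_eq (a := z * y * z) (b := y) (by
      rw [map_mul, map_mul, hg.eq, mul_assoc, ← map_mul, z2, map_one, mul_one])
    have u1 : u = 1 := h.ker_eq_one hu (n := 2) (by norm_num) (by
      have : (u * y) * (u * y) = 1 := by
        rw [← e', mul_assoc, ← mul_assoc z (z * y), ← mul_assoc z z, z2, one_mul, mul_assoc,
          ← mul_assoc y, y2, one_mul, z2]
      rw [← this, mul_assoc, ← mul_assoc y, ← h.ker_comm hu y, mul_assoc, y2, mul_one, sq])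
    have e2 : z * y = y * z := by
      rw [u1, one_mul] at e'
      conv_rhs => rw [← e', mul_assoc, z2, mul_one]
    have := congrArg (fun M => φ ⬝ᵥ (ρ M *ᵥ v)) e2
    simp only [map_mul, ← mulVec_mulVec, hz, e, add_mulVec, one_mulVec, vv_mulVec, hv.1.1,
      zero_smul, add_zero, dotProduct_add, dotProduct_smul, smul_eq_mul, zero_add] at this
    have := congrArg (fun M => ψ ⬝ᵥ (ρ M *ᵥ v)) e2
    simp only [map_mul, ← mulVec_mulVec, hz, e, add_mulVec, one_mulVec, vv_mulVec, hv.1.1, hw.1.1,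
      zero_smul, add_zero, dotProduct_add, dotProduct_smul, smul_eq_mul, zero_add, mul_zero,
      add_eq_left, mul_eq_zero, a, b, or_self] at this
  · have t := (T.smul_iff _).1 hw.1
    rw [smul_smul] at t
    rcases hs _ t with e' | e'
    · rcases mul_eq_zero.1 e' with rfl | rfl
      · exact absurd (zero_smul _ _) hw.2.1
      · exact absurd (zero_smul _ _) hw.2.2
    · congr 1
      apply h.inj
      rw [e, hz, smul_vecMulVec, vecMulVec_smul, smul_smul, e', one_smul]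

theorem nine (h3 : (3 : K) = 0) {i A B C : K} (hi : i ^ 2 = -1)
    (h : ∀ a b : K, (a = 0 ∨ a = 1 ∨ a = -1) → (b = 0 ∨ b = 1 ∨ b = -1) →
      (A * (a + b * i) ^ 2 + B * (a + b * i) + C) ^ 4 = 1) (hA : A ^ 4 = 1) : False := by
  have : (A * (0 + 0 * i) ^ 2 + B * (0 + 0 * i) + C) ^ 4 +
      (A * (0 + 1 * i) ^ 2 + B * (0 + 1 * i) + C) ^ 4 +
      (A * (0 + (-1) * i) ^ 2 + B * (0 + (-1) * i) + C) ^ 4 +
      (A * (1 + 0 * i) ^ 2 + B * (1 + 0 * i) + C) ^ 4 +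
      (A * (1 + 1 * i) ^ 2 + B * (1 + 1 * i) + C) ^ 4 +
      (A * (1 + (-1) * i) ^ 2 + B * (1 + (-1) * i) + C) ^ 4 +
      (A * (-1 + 0 * i) ^ 2 + B * (-1 + 0 * i) + C) ^ 4 +
      (A * (-1 + 1 * i) ^ 2 + B * (-1 + 1 * i) + C) ^ 4 +
      (A * (-1 + (-1) * i) ^ 2 + B * (-1 + (-1) * i) + C) ^ 4 = -A ^ 4 := by
    clear h hA
    grind
  rw [h 0 0 (by simp) (by simp), h 0 1 (by simp) (by simp), h 0 (-1) (by simp) (by simp),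
    h 1 0 (by simp) (by simp), h 1 1 (by simp) (by simp), h 1 (-1) (by simp) (by simp),
    h (-1) 0 (by simp) (by simp), h (-1) 1 (by simp) (by simp), h (-1) (-1) (by simp) (by simp),
    hA] at this
  exact one_ne_zero (by linear_combination this - 3 * h3 : (1 : K) = 0)

theorem fourth [Finite K] (h3 : (3 : K) = 0) (hv : T ρ v φ) (hw : T ρ w ψ) (a : φ ⬝ᵥ w ≠ 0)
    (b : ψ ⬝ᵥ v ≠ 0) (hs : ∀ a : K, T ρ v (a • φ) → a = 0 ∨ a = 1 ∨ a = -1) :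
    ((φ ⬝ᵥ w) * (ψ ⬝ᵥ v)) ^ 4 = 1 ∧ ∀ a : K, T ρ w (a • ψ) → a = 0 ∨ a = 1 ∨ a = -1 := by
  rcases d2T hv hw a b with ⟨K0, -, kt, k1, k2⟩ | ⟨-, k, -, k'⟩ | ⟨k, -⟩
  · refine ⟨?_, fun a h => hs a ((k1 a).2 ((k2 a).1 h))⟩
    rcases hs _ ((k1 _).2 kt) with e | e | e
    · exact absurd e (mul_ne_zero a b)
    · rw [e]; ring
    · rw [e]; ring
  · exact ⟨by linear_combination ((φ ⬝ᵥ w * ψ ⬝ᵥ v) ^ 2 - 1) * k, k'⟩
  · exact absurd (by linear_combination h3 - k : (1 : K) = 0) one_ne_zero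

theorem not_three [Finite K] (h : Hyp ρ π) (hO : Opp ρ) (h3 : (3 : K) = 0) (hv : Fl ρ v φ)
    (hw : Fl ρ w ψ) (h1 : φ ⬝ᵥ w = 1) (hi : (ψ ⬝ᵥ v) ^ 2 = -1)
    (hs : ∀ a : K, T ρ v (a • φ) → a = 0 ∨ a = 1 ∨ a = -1) : False := by
  have hwv : ∀ c : K, w ≠ c • v := not_smul_of_dot hv.1.1 (by rw [h1]; exact one_ne_zero)
  have c0 := cross_ne_zero hv.2.1 hwv
  have c1 : (w ⨯₃ v) ⬝ᵥ v = 0 := by rw [dotProduct_comm, dot_cross_self]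
  have c2 : (w ⨯₃ v) ⬝ᵥ w = 0 := by rw [dotProduct_comm, dot_self_cross]
  obtain ⟨x, ξ, hx, hξ, h5⟩ := h.exists_centre hv.1 hv.2.1 hv.2.2 c0
  have fx : Fl ρ x ξ := ⟨hx, by rintro rfl; simp at h5, hξ⟩
  have ox := hO.ne hv fx (not_smul_of_dot c1 h5)
  have k := fourth h3 hv.1 hx ox.1 ox.2 hs
  have key : ∀ y η, Fl ρ y η → (w ⨯₃ v) ⬝ᵥ y = 0 → ((ξ ⬝ᵥ y) * (η ⬝ᵥ x)) ^ 4 = 1 := by
    intro y η hy e
    have o := hO.ne hy fx (not_smul_of_dot e h5)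
    exact (fourth h3 hx hy.1 o.2 o.1 k.2).1
  have tv : ∀ (v φ : V3 K) (a : K), T ρ v φ → (a = 0 ∨ a = 1 ∨ a = -1) → T ρ v (a • φ) := by
    rintro v φ a hv (rfl | rfl | rfl)
    · simpa using T.zero ρ v
    · simpa using hv
    · simpa using hv.neg
  refine nine h3 hi (A := -(ψ ⬝ᵥ v) * (φ ⬝ᵥ x * ξ ⬝ᵥ v))
    (B := ψ ⬝ᵥ x * ξ ⬝ᵥ v - ψ ⬝ᵥ v * φ ⬝ᵥ x * ξ ⬝ᵥ w) (C := ψ ⬝ᵥ x * ξ ⬝ᵥ w) (fun a b ha hb => ?_)
    (by linear_combination k.1 + (φ ⬝ᵥ x * ξ ⬝ᵥ v) ^ 4 * ((ψ ⬝ᵥ v) ^ 2 - 1) * hi)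
  by_cases b0 : b = 0
  · have := key _ _ (Fl.act (tv _ _ a hv.1 ha) hw) (by simp [c1, c2])
    simp only [dotProduct_add, dotProduct_smul, sub_dotProduct, smul_dotProduct, smul_eq_mul,
      h1] at this
    rw [← this, b0]
    ring
  · have hb2 : b ^ 2 = 1 := by
      rcases hb with rfl | rfl | rfl
      · exact absurd rfl b0
      · ring
      · ring
    have := key _ _ (Fl.act (tv _ _ a hv.1 ha) (Fl.act (tv _ _ b hw.1 hb).neg hv))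
      (by simp [c1, c2])
    simp only [dotProduct_add, dotProduct_smul, sub_dotProduct, smul_dotProduct, smul_eq_mul,
      h1, neg_dotProduct, hv.1.1, hw.1.1] at this
    rw [← this, ← mul_one (_ ^ 4), show (1 : K) = (-(ψ ⬝ᵥ v)) ^ 4 by
      linear_combination (1 - (ψ ⬝ᵥ v) ^ 2) * hi, ← mul_pow]
    congr 1
    generalize ψ ⬝ᵥ v = i, φ ⬝ᵥ x = m1, ξ ⬝ᵥ v = m2, ψ ⬝ᵥ x = m3, ξ ⬝ᵥ w = m4 at hi ⊢
    grind

/-- All root groups are lines over `K0`, and all pairings lie in `K0`. -/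
structure UF (ρ : Γ →* M3 K) (K0 : Subfield K) : Prop where
  card : 2 < Nat.card K0
  root : ∀ v φ, Fl ρ v φ → ∀ a : K, T ρ v (a • φ) ↔ a ∈ K0
  pair : ∀ v φ w ψ, Fl ρ v φ → Fl ρ w ψ → (φ ⬝ᵥ w) * (ψ ⬝ᵥ v) ∈ K0

theorem exists_uf [Finite K] [Finite X] (h : Hyp ρ π) (hO : Opp ρ) (hv : Fl ρ v φ) :
    ∃ K0, UF ρ K0 := by
  have key : ∀ v φ w ψ, Fl ρ v φ → Fl ρ w ψ → φ ⬝ᵥ w ≠ 0 → ψ ⬝ᵥ v ≠ 0 →
      ∃ K0 : Subfield K, 2 < Nat.card K0 ∧ (φ ⬝ᵥ w) * (ψ ⬝ᵥ v) ∈ K0 ∧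
      (∀ a, T ρ v (a • φ) ↔ a ∈ K0) ∧ (∀ b, T ρ w (b • ψ) ↔ b ∈ K0) := by
    intro v φ w ψ hv hw a b
    rcases d2T hv.1 hw.1 a b with k | ⟨h3, k, k1, -⟩ | ⟨h2, k, -⟩
    · exact k
    · refine (not_three h hO h3 hv (w := (φ ⬝ᵥ w)⁻¹ • w) (ψ := (φ ⬝ᵥ w) • ψ)
        ⟨?_, smul_ne_zero (inv_ne_zero a) hw.2.1, smul_ne_zero a hw.2.2⟩ (by simp [a])
        (by simpa using k) k1).elim
      rw [T.smul_iff, inv_smul_smul₀ a]; exact hw.1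
    · exact (not_two h hO h2 hv k).elim
  obtain ⟨w, ψ, hw, hw0, h1⟩ := h.exists_axis hv.1 hv.2.1 hv.2.2 hv.2.1
  have fw : Fl ρ w ψ := ⟨hw, hw0, by rintro rfl; simp at h1⟩
  obtain ⟨K0, k, -, k1, -⟩ := key _ _ _ _ hv fw
    (hO.ne hv fw (not_smul_symm hw0 (not_smul_of_dot hw.1 h1))).1 h1
  have root : ∀ x ξ, Fl ρ x ξ → ∀ a : K, T ρ x (a • ξ) ↔ a ∈ K0 := by
    intro x ξ hx a
    rcases hO _ _ _ _ hv hx with ⟨e1, e2⟩ | ⟨⟨c, rfl⟩, d, rfl⟩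
    · obtain ⟨K1, -, -, l1, l2⟩ := key _ _ _ _ hv hx e1 e2
      rw [l2, ← l1, k1]
    · have e := hx.1
      rw [T.smul_iff, smul_smul, k1] at e
      have e0 : c * d ≠ 0 := mul_ne_zero (by rintro rfl; exact hx.2.1 (zero_smul _ _))
        (by rintro rfl; exact hx.2.2 (zero_smul _ _))
      rw [T.smul_iff, smul_smul, smul_smul, k1, mul_right_comm]
      exact ⟨fun m => by simpa [e0] using K0.div_mem m e, K0.mul_mem e⟩
  refine ⟨K0, k, root, fun x ξ y η hx hy => ?_⟩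
  by_cases e : ξ ⬝ᵥ y * η ⬝ᵥ x = 0
  · exact e ▸ K0.zero_mem
  · obtain ⟨K1, -, l0, l1, -⟩ := key _ _ _ _ hx hy (left_ne_zero_of_mul e) (right_ne_zero_of_mul e)
    exact (root _ _ hx _).1 ((l1 _).2 l0)

end Cfsg.Agent.H10.P3
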