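import Cfsg.Agent.H10.UMono

/-! Transport of unitary groups along field isomorphisms; tools to show non-maximality. -/

set_option autoImplicit false
set_option linter.unusedSectionVars false
set_option linter.style.haveILetI false

namespace Cfsg.Agent.H10

open Cfsg Cfsg.Geo Cfsg.Agent.H98 Cfsg.Agent.H99 Matrix
open scoped Pointwise

variable {F : Type*} [Field F] [Fintype F] {q : ℕ} [hF : Fact (Fintype.card F = q ^ 2)] {n : ℕ}
variable {K : Type*} [Field K] [Fintype K] [hK : Fact (Fintype.card K = q ^ 2)]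
variable {ι κ : Type} [Fintype ι] [DecidableEq ι] [Fintype κ] [DecidableEq κ]

local notation "σ" => cj F q
local notation "𝐡" => hermForm n F q

/-- transport of invertible matrices along a field isomorphism -/
def glMap (κ : Type) [Fintype κ] [DecidableEq κ] (φ : K ≃+* F) : GL κ K ≃* GL κ F :=
  Units.mapEquiv φ.mapMatrix.toMulEquiv

omit [Fintype F] hF [Fintype K] hK in
theorem coe_glMap (φ : K ≃+* F) (g : GL κ K) :
    ((glMap κ φ g : GL κ F) : Matrix κ κ F) = (g : Matrix κ κ K).map φ := rfl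

theorem map_cj (φ : K ≃+* F) (x : K) : φ (cj K q x) = σ (φ x) := by
  rw [cj_apply, cj_apply, map_pow]

theorem glMap_mem_SUG (φ : K ≃+* F) {g : GL (Fin n) K} :
    glMap (Fin n) φ g ∈ SUG n F q ↔ g ∈ SUG n K q := by
  rw [mem_SUG, mem_SUG, isIsom_iff, isIsom_iff, coe_glMap]
  have h1 : ((g : Matrix (Fin n) (Fin n) K).map φ)ᵀ * ((g : Matrix (Fin n) (Fin n) K).map φ).map σ =
      φ.mapMatrix ((g : Matrix (Fin n) (Fin n) K)ᵀ * (g : Matrix (Fin n) (Fin n) K).map (cj K q)) := by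
    rw [map_mul]
    congr 1
    ext i j
    simp [map_cj]
  have h2 : ((g : Matrix (Fin n) (Fin n) K).map φ).det = φ (g : Matrix (Fin n) (Fin n) K).det :=
    (RingEquiv.map_det φ _).symm
  rw [h1, h2, map_eq_one_iff _ φ.injective, map_eq_one_iff _ φ.mapMatrix.injective]

variable (K) in
theorem exists_transport {H : Subgroup (GL (Fin n) F)} (hH : IsMaximalIn (SUG n F q) H) :
    ∃ φ : K ≃+* F, IsMaximalIn (SUG n K q) (H.comap (glMap (Fin n) φ).toMonoidHom) := by
  let φ : K ≃+* F := FiniteField.ringEquivOfCardEq (hK.out.trans hF.out.symm)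
  refine ⟨φ, ?_⟩
  have := maximal_comap (glMap (Fin n) φ) hH
  rwa [show (SUG n F q).comap (glMap (Fin n) φ).toMonoidHom = SUG n K q from
    Subgroup.ext fun g => glMap_mem_SUG φ] at this

theorem not_maximal_of' {G : Type*} [Group G] {S H M : Subgroup G} (h : IsMaximalIn S H)
    (hM : H ≤ M) (hS : ¬ S ≤ M) {g : G} (hg : g ∈ S) (hgM : g ∈ M) (hgH : g ∉ H) : False :=
  not_maximal_of h le_rfl (inf_le_left.trans hM) hS hg hgM hgH

theorem not_le_setStab {X : Set (Fin n → F)} {u v w : Fin n → F} (hu : u ∈ X) (hv : v ∉ X)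
    (h : 𝐡 u u = 𝐡 v v) (h0 : 𝐡 u u ≠ 0) (hw : 𝐡 w w ≠ 0) (huw : 𝐡 u w = 0) :
    ¬ SUG n F q ≤ setStab X := by
  intro hS
  obtain ⟨g, hg, hguv⟩ := exists_SUG_move h h0 hw huw
  exact hv (hguv ▸ (mem_setStab.1 (hS hg) u).1 hu)

theorem mono_norm {G : GL κ F} (hG : G ∈ isoG (sumHerm κ (sig F q))) {π : Equiv.Perm κ}
    (h : BlockMono id π (G : Matrix κ κ F)) (l : κ) :
    (G : Matrix κ κ F) (π l) l * σ ((G : Matrix κ κ F) (π l) l) = 1 := by
  have h1 := col_norm hG l l
  rwa [if_pos rfl, Finset.sum_eq_single (π l) (fun k _ hk => by rw [h k l hk, zero_mul])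
    (by simp)] at h1

omit [Fintype F] hF in
theorem mono_prod_sq {G : GL κ F} (hG : G ∈ specialLinear κ F) {π : Equiv.Perm κ}
    (h : BlockMono id π (G : Matrix κ κ F)) (v : κ → F) :
    (∏ k, ((G : Matrix κ κ F) *ᵥ v) k) ^ 2 = (∏ k, v k) ^ 2 := by
  rw [← Equiv.prod_comp π]
  simp only [h.mono_mulVec]
  rw [Finset.prod_mul_distrib, ← h.mono_det, mem_sl.1 hG, mul_one, mul_pow, sign_cast_sq, one_mul]

/-- maximal subgroups of `SU` that stabilise a frame, in coordinates over a model `K` of the field -/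
theorem frame_transport (K : Type*) [Field K] [Fintype K] [Fact (Fintype.card K = q ^ 2)]
    {H : Subgroup (GL (Fin n) F)} (hH : IsMaximalIn (SUG n F q) H)
    {D : Fin n → Submodule F (Fin n → F)} (hD : IsNondegenerateMDecomposition 𝐡 1 D)
    (h : H ≤ decompositionStabilizer D) :
    ∃ H' : Subgroup (GL (Fin n) K), IsMaximalIn (SUG n K q) H' ∧
      ∀ g ∈ H', ∃ π, BlockMono id π (g : Matrix (Fin n) (Fin n) K) := by
  obtain ⟨e, P, h1, h2⟩ := exists_adapted_frame isSesq_herm hD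
  obtain ⟨φ, hφ⟩ := exists_transport K (n := n) (h2.maximal hH)
  refine ⟨_, hφ, fun g hg => ?_⟩
  obtain ⟨π, hπ⟩ := h1.blockMono (h hg)
  refine ⟨π, fun k l hkl => φ.injective ?_⟩
  have := hπ k l hkl
  rw [map_zero]
  change (((frmG e P).symm (frmG e P (glMap _ φ g)) : GL (Fin n) F) :
    Matrix (Fin n) (Fin n) F) k l = 0 at this
  rwa [MulEquiv.symm_apply_apply] at this

/-- A maximal subgroup normalising a Sylow subgroup `T`, compared with an explicit model. -/
theorem not_maximal_of_sylow {G : Type*} [Group G] [Finite G] {S H T T₀ M₀ : Subgroup G}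
    {p : ℕ} [Fact p.Prime] (hH : IsMaximalIn S H) (hT : T ≤ S)
    (hTc : Nat.card T = p ^ (Nat.card S).factorization p)
    (hT₀ : T₀ ≤ S) (hT₀c : Nat.card T₀ = Nat.card T) (hHT : H ≤ Subgroup.normalizer (T : Set G))
    (hN : ∀ H' : Subgroup G, Nat.card H' = Nat.card H →
      H' = Subgroup.normalizer (T₀ : Set G) ⊓ S → H' ≤ M₀)
    (hS : ¬ S ≤ M₀) {g : G} (hg : g ∈ S) (hgM : g ∈ M₀)
    (hgT : g ∉ Subgroup.normalizer (T₀ : Set G)) : False := by
  have c1 : ∀ {A : Subgroup G}, A ≤ S → Nat.card (A.subgroupOf S) = Nat.card A := fun h =>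
    Nat.card_congr (Subgroup.subgroupOfEquivOfLe h).toEquiv
  let P : Sylow p S := Sylow.ofCard (T.subgroupOf S) (by rw [c1 hT, hTc])
  let P₀ : Sylow p S := Sylow.ofCard (T₀.subgroupOf S) (by rw [c1 hT₀, hT₀c, hTc])
  obtain ⟨s, hs⟩ := MulAction.exists_smul_eq S P₀ P
  have hs' : ∀ x : G, x ∈ T₀ ↔ (s : G) * x * (s : G)⁻¹ ∈ T := by
    intro x
    by_cases hx : x ∈ S
    · have h1 : (s * ⟨x, hx⟩ * s⁻¹ : S) ∈ (s • P₀ : Sylow p S) ↔ (⟨x, hx⟩ : S) ∈ P₀ := by
        change _ ∈ MulAut.conj s • (P₀ : Subgroup S) ↔ _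
        exact Subgroup.smul_mem_pointwise_smul_iff (a := MulAut.conj s) (x := (⟨x, hx⟩ : S))
      rw [hs] at h1
      exact h1.symm
    · refine ⟨fun h => absurd (hT₀ h) hx, fun h => absurd ?_ hx⟩
      simpa [mul_assoc] using S.mul_mem (S.mul_mem (S.inv_mem s.2) (hT h)) s.2
  have h1 := maximal_comap (MulAut.conj (s : G)) hH
  have h2 : S.comap (MulAut.conj (s : G)).toMonoidHom = S := by
    ext x
    refine ⟨fun h => ?_, fun h => S.mul_mem (S.mul_mem s.2 h) (S.inv_mem s.2)⟩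
    simpa [mul_assoc] using S.mul_mem (S.mul_mem (S.inv_mem s.2) h) s.2
  rw [h2] at h1
  have h3 : H.comap (MulAut.conj (s : G)).toMonoidHom ≤ Subgroup.normalizer (T₀ : Set G) := by
    intro x hx y
    have h4 := hHT hx ((s : G) * y * (s : G)⁻¹)
    rw [SetLike.mem_coe, SetLike.mem_coe, hs', hs']
    rw [SetLike.mem_coe, SetLike.mem_coe] at h4
    rw [h4]
    simp [mul_assoc]
  have h5 := eq_inf_of_maximal h1 h3 fun h => hgT (h hg)
  refine not_maximal_of' h1 (hN _ ?_ h5) hS hg hgM fun h => hgT (h3 h)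
  exact Nat.card_congr (Equiv.subtypeEquiv (MulAut.conj (s : G)).toEquiv fun _ => Iff.rfl)

theorem card_SUG_mul (hn : 1 ≤ n) : (q + 1) * Nat.card (SUG n F q) = q ^ (n * (n - 1) / 2) *
    ∏ i ∈ Finset.range n, (if Even i then q ^ (i + 1) + 1 else q ^ (i + 1) - 1) := by
  rw [card_SUG, card_SU_mul hn, card_GU]

/-- an element of `GL` from an isometry matrix -/
noncomputable def isoGL (M : Matrix (Fin n) (Fin n) F) (h : Mᵀ * M.map σ = 1) : GL (Fin n) F :=
  (mkGU M ((isIsom_iff M).2 h) : GL (Fin n) F)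

theorem coe_isoGL (M : Matrix (Fin n) (Fin n) F) (h : Mᵀ * M.map σ = 1) :
    ((isoGL M h : GL (Fin n) F) : Matrix (Fin n) (Fin n) F) = M := rfl

theorem isoGL_mem (M : Matrix (Fin n) (Fin n) F) (h : Mᵀ * M.map σ = 1) (hd : M.det = 1) :
    isoGL M h ∈ SUG n F q := mem_SUG.2 ⟨(isIsom_iff M).2 h, hd⟩

omit [Fintype F] hF in
/-- a scalar-invariant property of vectors of `F ^ 3` is checked on normalised vectors -/
theorem forall_vec_three {p : (Fin 3 → F) → Prop} (hs : ∀ (c : F) v, c ≠ 0 → p v → p (c • v))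
    (h0 : p 0) (h1 : p ![0, 0, 1]) (h2 : ∀ z, p ![0, 1, z]) (h3 : ∀ y z, p ![1, y, z]) (v) :
    p v := by
  by_cases a : v 0 = 0
  · by_cases b : v 1 = 0
    · by_cases c : v 2 = 0
      · convert h0
        ext i; fin_cases i <;> assumption
      · convert hs _ _ c h1
        ext i; fin_cases i <;> simp [a, b]
    · convert hs _ _ b (h2 (v 2 / v 1))
      ext i; fin_cases i <;> simp [a, mul_div_cancel₀ _ b]
  · convert hs _ _ a (h3 (v 1 / v 0) (v 2 / v 0))
    ext i; fin_cases i <;> simp [mul_div_cancel₀ _ a]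

end Cfsg.Agent.H10
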