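import Cfsg.Agent.H10.P3Ext
import Mathlib.LinearAlgebra.Eigenspace.Triangularizable
import Mathlib.RingTheory.RootsOfUnity.Basic

/-!
Eigenvectors: commuting families, elements of order three, the Heisenberg relation.
-/

set_option autoImplicit false

open Matrix

namespace Cfsg.Agent.H10.P3

variable {K : Type*} [Field K] {Γ X : Type*} [Group Γ] [Group X] {ρ : Γ →* M3 K} {π : Γ →* X}

theorem exists_common_eig [IsAlgClosed K] {ι : Type*} (A : ι → M3 K)
    (hc : ∀ i j, A i * A j = A j * A i) (E : Submodule K (V3 K)) (hE : E ≠ ⊥)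
    (hA : ∀ i, ∀ v ∈ E, A i *ᵥ v ∈ E) : ∃ v ∈ E, v ≠ 0 ∧ ∀ i, ∃ c : K, A i *ᵥ v = c • v := by
  induction E using WellFoundedLT.induction with | ind E ih =>
  by_cases h : ∀ i, ∃ c : K, ∀ v ∈ E, A i *ᵥ v = c • v
  · obtain ⟨v, hv, h0⟩ := Submodule.exists_mem_ne_zero_of_ne_bot hE
    exact ⟨v, hv, h0, fun i => (h i).imp fun c hc => hc v hv⟩
  push Not at h
  obtain ⟨i, hi⟩ := h
  haveI : Nontrivial E := Submodule.nontrivial_iff_ne_bot.2 hE
  obtain ⟨c, hc'⟩ := Module.End.exists_eigenvalue ((toLin' (A i)).restrict (p := E) (hA i))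
  obtain ⟨w, hw⟩ := hc'.exists_hasEigenvector
  have hw1 : A i *ᵥ w.1 = c • w.1 := congrArg Subtype.val hw.apply_eq_smul
  have hm : ∀ v, v ∈ Module.End.eigenspace (toLin' (A i)) c ↔ A i *ᵥ v = c • v := fun v =>
    Module.End.mem_eigenspace_iff
  obtain ⟨v, hv, h1⟩ := ih (E ⊓ Module.End.eigenspace (toLin' (A i)) c)
    (lt_of_le_of_ne inf_le_left fun e => by
      obtain ⟨v, hv, h1⟩ := hi c
      exact h1 ((hm v).1 (e.ge hv).2))
    (fun e => hw.2 (Subtype.ext ((Submodule.mem_bot K).1 (e ▸ ⟨w.2, (hm _).2 hw1⟩))))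
    fun j v hv => ⟨hA j v hv.1, (hm _).2 (by
      rw [mulVec_mulVec, hc, ← mulVec_mulVec, (hm v).1 hv.2, mulVec_smul])⟩
  exact ⟨v, hv.1, h1⟩

theorem exists_eig_ne [IsAlgClosed K] {ι : Type*} (A : ι → M3 K)
    (hc : ∀ i j, A i * A j = A j * A i) {M : M3 K} (hM : ∀ i, A i * M = M * A i) {n : ℕ}
    (hn : (n : K) ≠ 0) (h1 : M ^ n = 1) (h2 : M ≠ 1) :
    ∃ v, M *ᵥ v ≠ v ∧ ∀ i, ∃ c : K, A i *ᵥ v = c • v := by
  obtain ⟨_, ⟨w, rfl⟩, h0, hv⟩ := exists_common_eig A hc (LinearMap.range (toLin' (M - 1)))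
    (fun e => h2 (sub_eq_zero.1 (toLin'.map_eq_zero_iff.1 (LinearMap.range_eq_bot.1 e))))
    (by
      rintro i _ ⟨w, rfl⟩
      refine ⟨A i *ᵥ w, ?_⟩
      simp only [toLin'_apply, mulVec_mulVec, mul_sub, sub_mul, hM, mul_one, one_mul])
  refine ⟨_, fun e => h0 ?_, hv⟩
  rw [toLin'_apply] at e ⊢
  have e1 : ∀ k : ℕ, M ^ k *ᵥ (M - 1) *ᵥ w = (M - 1) *ᵥ w := fun k => by
    induction k with
    | zero => simp
    | succ k ih => rw [pow_succ, ← mulVec_mulVec, e, ih]
  have e2 := congrArg (· *ᵥ w) (geom_sum_mul M n)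
  simp only [h1, sub_self, zero_mulVec, ← mulVec_mulVec, sum_mulVec, e1, Finset.sum_const,
    Finset.card_range, ← Nat.cast_smul_eq_nsmul K, smul_eq_zero, hn, false_or] at e2
  exact e2

theorem card_le_three {U ι : Type*} [Monoid U] [Fintype ι] (σ : U → M3 K) (l : ι → U →* K)
    (hl : Function.Injective l) (v : ι → V3 K) (h0 : ∀ i, v i ≠ 0)
    (hv : ∀ i u, σ u *ᵥ v i = l i u • v i) : Fintype.card ι ≤ 3 := by
  have : LinearIndependent K v := by
    rw [Fintype.linearIndependent_iff]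
    intro c hc i
    obtain ⟨j, hj⟩ := Function.ne_iff.1 (h0 i)
    have := Fintype.linearIndependent_iff.1 ((linearIndependent_monoidHom U K).comp l hl)
      (fun i => c i * v i j) (funext fun u => by
        have := congrFun (congrArg (σ u *ᵥ ·) hc) j
        simp only [mulVec_sum, mulVec_smul, hv, mulVec_zero, Finset.sum_apply, Pi.smul_apply,
          smul_eq_mul] at this
        simp only [Finset.sum_apply, Pi.smul_apply, smul_eq_mul, Function.comp]
        exact (Finset.sum_congr rfl fun k _ => by ring).trans this) i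
    exact (mul_eq_zero.1 this).resolve_right hj
  simpa using this.fintype_card_le_finrank

theorem exists_diag {M : M3 K} {v : Fin 3 → V3 K} {a : Fin 3 → K} (ha : Function.Injective a)
    (h0 : ∀ i, v i ≠ 0) (hv : ∀ i, M *ᵥ v i = a i • v i) :
    ∃ B : (M3 K)ˣ, B.val = (of v)ᵀ ∧ B⁻¹.val * M * B.val = diagonal a := by
  obtain ⟨B, hB⟩ := linearIndependent_cols_iff_isUnit.1 (show LinearIndependent K (of v)ᵀ.col from
    Module.End.eigenvectors_linearIndependent' (toLin' M) a ha v fun i =>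
      ⟨Module.End.mem_eigenspace_iff.2 (hv i), h0 i⟩)
  refine ⟨B, hB, ?_⟩
  rw [mul_assoc, Units.inv_mul_eq_iff_eq_mul, hB]
  ext i j
  have := congrFun (hv j) i
  rw [mul_diagonal, mul_comm]
  exact this

theorem diag_of_comm {N : M3 K} {a : Fin 3 → K} (ha : Function.Injective a)
    (h : N * diagonal a = diagonal a * N) : N = diagonal N.diag := by
  ext i j
  by_cases e : i = j
  · simp [e]
  have := congrFun (congrFun h i) j
  rw [mul_diagonal, diagonal_mul, mul_comm (a i)] at this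
  rw [diagonal_apply_ne _ e]
  exact (mul_eq_mul_left_iff.1 this).resolve_left fun e' => e (ha e').symm

theorem comm_of_eig {M : M3 K} {v : Fin 3 → V3 K} {a : Fin 3 → K} (ha : Function.Injective a)
    (h0 : ∀ i, v i ≠ 0) (hv : ∀ i, M *ᵥ v i = a i • v i) {P Q : M3 K} (hP : P * M = M * P)
    (hQ : Q * M = M * Q) : P * Q = Q * P := by
  obtain ⟨B, -, hB⟩ := exists_diag ha h0 hv
  have key : ∀ P : M3 K, P * M = M * P → ∃ d, B⁻¹.val * P * B.val = diagonal d := fun P hP =>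
    ⟨_, diag_of_comm ha (by
      rw [← hB]; simp only [mul_assoc, Units.mul_inv_cancel_left]
      rw [← mul_assoc P, hP, mul_assoc])⟩
  obtain ⟨d, hd⟩ := key P hP
  obtain ⟨d', hd'⟩ := key Q hQ
  have : diagonal d * diagonal d' = diagonal d' * diagonal d := by
    simp [diagonal_mul_diagonal, mul_comm]
  rw [← hd, ← hd'] at this
  simpa [mul_assoc] using congrArg (fun M => B.val * M * B⁻¹.val) this

theorem pow_inj_three {ω : K} (h3 : ω ^ 3 = 1) (h1 : ω ≠ 1) {a : K} (ha : a ≠ 0) :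
    Function.Injective fun i : Fin 3 => ω ^ (i : ℕ) * a := by
  have h0 : ω ≠ 0 := by rintro rfl; simp at h3
  have h2 : ω ^ 2 ≠ 1 := fun e => h1 (by rw [pow_succ, e, one_mul] at h3; exact h3)
  have h4 : ω ^ 2 ≠ ω := fun e => h1 (mul_left_cancel₀ h0 (by rw [← sq, e, mul_one]))
  intro i j e
  have e := mul_right_cancel₀ ha e
  fin_cases i <;> fin_cases j <;> simp_all [eq_comm]

/-- The commutant of a non-scalar matrix of order three and determinant one is commutative. -/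
theorem comm_of_cube (h3 : (3 : K) ≠ 0) {u : M3 K} (hu : u ^ 3 = 1) (t1 : u.trace = 0)
    (t2 : (u ^ 2).trace = 0) {P Q : M3 K} (hP : P * u = u * P) (hQ : Q * u = u * Q) :
    P * Q = Q * P := by
  let f := algebraMap K (AlgebraicClosure K)
  let F : M3 K →+* M3 (AlgebraicClosure K) := f.mapMatrix
  have ht : ∀ M, (F M).trace = f M.trace := fun M => by simp [F, trace_fin_three]
  have h3' : (3 : AlgebraicClosure K) ≠ 0 := by rwa [← map_ofNat f, map_ne_zero]
  obtain ⟨ω, hω⟩ : ∃ ω : AlgebraicClosure K, ω ^ 2 + ω + 1 = 0 := by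
    obtain ⟨s, hs⟩ := IsAlgClosed.exists_root (Polynomial.X ^ 2 + Polynomial.X + 1 :
      Polynomial (AlgebraicClosure K)) (by
        rw [show Polynomial.degree _ = 2 by compute_degree!]; decide)
    exact ⟨s, by simpa using hs⟩
  have w3 : ω ^ 3 = 1 := by linear_combination (ω - 1) * hω
  have w1 : ω ≠ 1 := by rintro rfl; exact h3' (by linear_combination hω)
  have key : ∀ i : Fin 3, ∃ v, v ≠ 0 ∧ F u *ᵥ v = (ω ^ (i : ℕ) * 1) • v := fun i => by
    generalize hc : ω ^ (i : ℕ) = c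
    have c3 : c ^ 3 = 1 := by rw [← hc, ← pow_mul, mul_comm, pow_mul, w3, one_pow]
    have : (1 + c ^ 2 • F u + c • F (u ^ 2)) ≠ 0 := fun e => h3' (by
      simpa [-map_pow, ht, t1, t2] using congrArg trace e)
    obtain ⟨w, hw⟩ : ∃ w, (1 + c ^ 2 • F u + c • F (u ^ 2)) *ᵥ w ≠ 0 := by
      by_contra h
      push Not at h
      exact this (toLin'.map_eq_zero_iff.1 (LinearMap.ext h))
    refine ⟨_, hw, ?_⟩
    rw [mulVec_mulVec, ← smul_mulVec]
    congr 1
    simp only [mul_add, mul_smul_comm, ← map_mul, ← pow_succ', ← sq, hu, map_one, mul_one,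
      smul_add, smul_smul, c3, one_smul]
    rw [map_pow]
    abel
  choose v h0 hv using key
  apply Matrix.map_injective f.injective
  change F (P * Q) = F (Q * P)
  rw [map_mul, map_mul]
  exact comm_of_eig (pow_inj_three w3 w1 one_ne_zero) h0 hv (by rw [← map_mul, hP, map_mul])
    (by rw [← map_mul, hQ, map_mul])

/-- Two matrices satisfying the Heisenberg relation generate an irreducible group. -/
theorem scalar_of_heis [IsAlgClosed K] {x y g : M3 K} {ω : K} (h3 : ω ^ 3 = 1) (h1 : ω ≠ 1)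
    (hx : IsUnit x) (hy : IsUnit y) (e : x * y = ω • (y * x)) (h4 : g * x = x * g)
    (h5 : g * y = y * g) : ∃ c : K, g = c • 1 := by
  obtain ⟨v, -, h0, hv⟩ := exists_common_eig ![x, g]
    (fun i j => by fin_cases i <;> fin_cases j <;> simp [h4]) ⊤ top_ne_bot fun _ _ _ => trivial
  obtain ⟨a, ha⟩ : ∃ a : K, x *ᵥ v = a • v := hv 0
  obtain ⟨c, hc⟩ : ∃ c : K, g *ᵥ v = c • v := hv 1
  have inj : ∀ {x : M3 K}, IsUnit x → x *ᵥ v ≠ 0 := fun hx e =>
    h0 (mulVec_injective_iff_isUnit.2 hx (by simpa using e))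
  have a0 : a ≠ 0 := fun e => inj hx (by rw [ha, e, zero_smul])
  have k1 : ∀ n : ℕ, x *ᵥ (y ^ n *ᵥ v) = (ω ^ n * a) • (y ^ n *ᵥ v) := fun n => by
    induction n with
    | zero => simpa using ha
    | succ n ih =>
      rw [pow_succ', ← mulVec_mulVec, mulVec_mulVec _ x, e, smul_mulVec, ← mulVec_mulVec, ih,
        mulVec_smul, smul_smul, pow_succ', mul_assoc]
  obtain ⟨B, hB, -⟩ := exists_diag (pow_inj_three h3 h1 a0) (v := fun i => y ^ (i : ℕ) *ᵥ v)
    (fun i => inj (hy.pow _)) fun i => k1 i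
  refine ⟨c, (Units.mul_left_inj B).1 ?_⟩
  rw [smul_mul_assoc, one_mul, hB]
  ext i j
  have : g *ᵥ (y ^ (j : ℕ) *ᵥ v) = c • (y ^ (j : ℕ) *ᵥ v) := by
    rw [mulVec_mulVec, (Commute.pow_right h5 j).eq, ← mulVec_mulVec, hc, mulVec_smul]
  exact congrFun this i

theorem isUnit_rho (ρ : Γ →* M3 K) (g : Γ) : IsUnit (ρ g) := (Group.isUnit g).map ρ

namespace Hyp

theorem card_ker_le (h : Hyp ρ π) : Finite π.ker ∧ Nat.card π.ker ≤ 3 := by
  choose c hc using fun z : π.ker => (h.ker z).1 z.2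
  let f : π.ker → rootsOfUnity 3 K := fun z => rootsOfUnity.mkOfPowEq (c z) (h.cube (hc z))
  have hf : Function.Injective f := fun a b e => Subtype.ext (h.inj (by
    rw [hc, hc, show c a = c b from congrArg (fun x : rootsOfUnity 3 K => (x.1 : K)) e]))
  exact ⟨Finite.of_injective f hf, (Nat.card_le_card_of_injective f hf).trans
    (card_rootsOfUnity K 3)⟩

theorem finite [Finite X] (h : Hyp ρ π) : Finite Γ :=
  haveI := h.card_ker_le.1
  (MonoidHom.finite_iff_finite_ker_range π).2 ⟨inferInstance, inferInstance⟩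

theorem ker_of_three (h : Hyp ρ π) (h3 : (3 : K) = 0) {z : Γ} (hz : π z = 1) : z = 1 := by
  obtain ⟨c, hc⟩ := (h.ker z).1 hz
  have : (c - 1) ^ 3 = 0 := by linear_combination h.cube hc + (c - c ^ 2) * h3
  rw [sub_eq_zero.1 (pow_eq_zero_iff (by norm_num) |>.1 this), one_smul, ← map_one ρ] at hc
  exact h.inj hc

theorem exists_pow (h : Hyp ρ π) {g : Γ} {s : ℕ} (hs : (s : K) ≠ 0) (e : π g ^ s = 1) :
    ∃ n : ℕ, (n : K) ≠ 0 ∧ g ^ n = 1 := by
  rw [← map_pow] at e
  by_cases h3 : (3 : K) = 0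
  · exact ⟨s, hs, h.ker_of_three h3 e⟩
  · exact ⟨s * 3, by simpa [hs] using h3, by rw [pow_mul, h.ker_cube e]⟩

theorem comm_of_cube (h : Hyp ρ π) (h3 : (3 : K) ≠ 0) {u : Γ} (hu : u ^ 3 = 1) (h1 : π u ≠ 1)
    {a b : Γ} (ha : a * u = u * a) (hb : b * u = u * b) : a * b = b * a := by
  apply h.inj
  rw [map_mul, map_mul]
  refine P3.comm_of_cube h3 (by rw [← map_pow, hu, map_one]) (h.trace_of_cube hu h1) ?_
    (by rw [← map_mul, ha, map_mul]) (by rw [← map_mul, hb, map_mul])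
  rw [← map_pow]
  refine h.trace_of_cube (by rw [← pow_mul, mul_comm, pow_mul, hu, one_pow]) fun e => h1 ?_
  have := congrArg π hu
  rwa [pow_succ, map_mul, e, one_mul, map_one] at this

end Hyp

end Cfsg.Agent.H10.P3
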