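import Cfsg.Agent.H10.P3SO
import Cfsg.Agent.H77.Factor
import Cfsg.Agent.H2.MinNormal

/-!
Normalisers of subfield subgroups, irreducibility in odd characteristic and the reduction of a
subgroup of `PSL₃(q)` to its socle.
-/

set_option autoImplicit false

open Matrix Subgroup
open scoped MatrixGroups

namespace Cfsg.Agent.H10.P3

variable {K : Type*} [Field K] {Γ X : Type*} [Group Γ] [Group X] {ρ : Γ →* M3 K} {π : Γ →* X}

theorem cube_of_smul {c : K} {M N : M3 K} (e : M = c • N) (h1 : M.det = 1) (h2 : N.det = 1) :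
    c ^ 3 = 1 := by rwa [e, det_smul, h2, mul_one, Fintype.card_fin] at h1

theorem Hyp.steinberg (h : Hyp ρ π) {E : Type*} [Group E] (ν : E →* (M3 K)ˣ)
    (hd : ∀ e, (ν e).val.det = 1) (hn : ∀ e, Nrm ρ (ν e)) (Θ : (M3 K)ˣ →* (M3 K)ˣ) (k : ℕ)
    (hΘ : ∀ u : (M3 K)ˣ, u.val.det = 1 → (Θ u = u ↔ ∃ g, ρ g = u))
    (hdet : ∀ u : (M3 K)ˣ, u.val.det = 1 → (Θ u).val.det = 1)
    (hs : ∀ (c : K) (u u' : (M3 K)ˣ), c ^ 3 = 1 → u.val = c • u'.val →
      (Θ u).val = c ^ k • (Θ u').val)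
    (L : Subgroup E) (hL : ∀ e, e ∈ L ↔ Inn ρ (ν e)) :
    L = ⊤ ∨ (L.index = 3 ∧ k % 3 = 1 ∧ ∀ n, (∀ u, Θ^[n] u = u) → 3 ∣ n) := by
  have fx : ∀ g, Θ (ρ.toHomUnits g) = ρ.toHomUnits g := fun g => (hΘ _ (h.det g)).2 ⟨g, rfl⟩
  have ex : ∀ e, ∃ c : K, (Θ (ν e)).val = c • (ν e).val := fun e => by
    obtain ⟨c, hc⟩ := h.scalar_of_comm (M := ((ν e)⁻¹ * Θ (ν e)).val) fun g => by
      obtain ⟨g', e'⟩ := hn e g
      have e1 : ρ.toHomUnits g' = ν e * ρ.toHomUnits g * (ν e)⁻¹ := Units.ext e'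
      have e2 := fx g'
      rw [e1, map_mul, map_mul, fx, map_inv] at e2
      refine congrArg Units.val (?_ : _ * ρ.toHomUnits g = ρ.toHomUnits g * _)
      rw [mul_assoc, mul_inv_eq_iff_eq_mul.1 e2]; group
    exact ⟨c, by rw [← mul_one (ν e).val, ← mul_smul_comm, ← hc, ← Units.val_mul]; simp⟩
  choose ψ hψ using ex
  have ψ3 : ∀ e, ψ e ^ 3 = 1 := fun e => cube_of_smul (hψ e) (hdet _ (hd e)) (hd e)
  have ψ0 : ∀ e, ψ e ≠ 0 := fun e h0 => by simpa [h0] using ψ3 e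
  have inn : ∀ e (c : K), c ^ 3 = 1 → c ^ k * ψ e = c → e ∈ L := fun e c h3 h1 => by
    have c0 : c ≠ 0 := by rintro rfl; simp at h3
    have d : (Units.mk0 c c0 • ν e).val.det = 1 := by simp [Units.smul_def, h3, hd]
    obtain ⟨g, hg⟩ := (hΘ _ d).1 (Units.ext (by
      rw [hs c _ (ν e) h3 rfl, hψ, smul_smul, h1]; rfl))
    exact (hL e).2 ⟨c⁻¹, g, by rw [hg]; exact (inv_smul_smul₀ c0 _).symm⟩
  by_cases hT : L = ⊤
  · exact Or.inl hT
  obtain ⟨e0, he⟩ : ∃ e, e ∉ L := by simpa [eq_top_iff'] using hT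
  have p3 : ∀ (c : K) m, c ^ 3 = 1 → c ^ m = c ^ (m % 3) := fun c m h3 => by
    conv_lhs => rw [← Nat.div_add_mod m 3, pow_add, pow_mul, h3, one_pow, one_mul]
  have k1 : k % 3 = 1 := by
    by_contra hk
    rcases (by omega : k % 3 = 0 ∨ k % 3 = 2) with e | e
    · exact he (inn e0 _ (ψ3 e0) (by rw [p3 _ k (ψ3 e0), e, pow_zero, one_mul]))
    · have h3 : (ψ e0 ^ 2) ^ 3 = 1 := by rw [← pow_mul, mul_comm, pow_mul, ψ3, one_pow]
      exact he (inn e0 _ h3 (by rw [p3 _ k h3, e]; linear_combination (ψ e0 ^ 2) * ψ3 e0))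
  have pk : ∀ c : K, c ^ 3 = 1 → c ^ k = c := fun c h3 => by rw [p3 c k h3, k1, pow_one]
  let f : E →* rootsOfUnity 3 K := MonoidHom.mk' (fun e => rootsOfUnity.mkOfPowEq (ψ e) (ψ3 e))
    fun a b => Subtype.ext (Units.ext (smul_left_injective K (ν (a * b)).ne_zero (by
      change ψ (a * b) • _ = (ψ a * ψ b) • _
      rw [← hψ, map_mul, map_mul, Units.val_mul, hψ, hψ, smul_mul_smul_comm, Units.val_mul])))
  have hf : ∀ e, f e = 1 ↔ ψ e = 1 := fun e => by rw [Subtype.ext_iff, Units.ext_iff]; rfl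
  have hk : L = f.ker := by
    ext e
    rw [MonoidHom.mem_ker, hf]
    refine ⟨fun he => ?_, fun he => inn e 1 (one_pow 3) (by simp [he])⟩
    obtain ⟨c, g, hc⟩ := (hL e).1 he
    have h3 := cube_of_smul hc (hd e) (h.det g)
    have := hs c _ (ρ.toHomUnits g) h3 hc
    rw [fx, pk c h3, hψ, MonoidHom.coe_toHomUnits, ← hc] at this
    exact smul_left_injective K (ν e).ne_zero (this.trans (one_smul _ _).symm)
  haveI : Fact (Nat.Prime 3) := ⟨Nat.prime_three⟩
  have o3 : orderOf (f e0) = 3 := orderOf_eq_prime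
    (Subtype.ext (by rw [coe_pow]; exact (mem_rootsOfUnity _ _).1 (f e0).2)) fun e => he (hk.ge e)
  refine Or.inr ⟨?_, k1, fun n hn => ?_⟩
  · rw [hk, index_ker]
    have h1 := orderOf_dvd_natCard f.range (x := f e0) ⟨e0, rfl⟩
    have h2 := (card_le_card_group f.range).trans (card_rootsOfUnity K 3)
    rw [o3] at h1
    exact le_antisymm h2 (Nat.le_of_dvd Nat.card_pos h1)
  · have : ∀ n, (Θ^[n] (ν e0)).val = ψ e0 ^ n • (ν e0).val := fun n => by
      induction n with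
      | zero => simp
      | succ n ih =>
        have h3 : (ψ e0 ^ n) ^ 3 = 1 := by rw [← pow_mul, mul_comm, pow_mul, ψ3, one_pow]
        rw [Function.iterate_succ_apply', hs _ _ _ h3 ih, pk _ h3, hψ, smul_smul, pow_succ]
    have e := this n
    rw [hn] at e
    rw [← o3, orderOf_dvd_iff_pow_eq_one, ← map_pow, Subtype.ext_iff, Units.ext_iff, map_pow]
    exact smul_left_injective K (ν e0).ne_zero (e.symm.trans (one_smul _ _).symm)

theorem refl_mat (h2 : (2 : K) ≠ 0) {A : M3 K} (hA : A * A = 1) (hd : A.det = 1) (h1 : A ≠ 1)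
    {v : V3 K} (hv : A *ᵥ v = v) (v0 : v ≠ 0) : ∃ φ, A = vecMulVec v φ - 1 := by
  have ha : A.adjugate = A := by
    rw [← one_mul A.adjugate, ← hA, mul_assoc, mul_adjugate, hd, one_smul, mul_one]
  have e := cayley A
  rw [pow_three', sq, hA, ha, hd, one_mul, one_smul] at e
  have t : A.trace = -1 := by
    by_contra h0
    refine h1 (smul_right_injective _ (show 1 + A.trace ≠ 0 from fun e => h0 (by
      linear_combination e)) ?_)
    simp only [add_smul, one_smul]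
    conv_lhs => enter [1]; rw [e]
    abel
  have e1 : (A + 1) * (A + 1) = (2 : K) • (A + 1) := by
    rw [mul_add, add_mul, add_mul, hA, two_smul]; simp [add_comm]
  have e2 : (A + 1).trace = 2 := by rw [trace_add, t]; simp; norm_num
  have e3 := P3.trace_sq (A + 1)
  rw [sq, e1, trace_smul, e2, smul_eq_mul] at e3
  have e4 : (A + 1).adjugate.trace = 0 :=
    (mul_eq_zero.1 (by linear_combination e3)).resolve_left h2
  obtain ⟨w, φ, e⟩ := exists_vv_of_adj (N := A + 1) (by rw [adj_eq, e1, e2, e4]; simp)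
  have e5 := congrArg (· *ᵥ v) e
  simp only [add_mulVec, hv, one_mulVec, vv_mulVec, ← two_smul K v] at e5
  have e6 : φ ⬝ᵥ v ≠ 0 := fun e => smul_ne_zero h2 v0 (by rw [e5, e, zero_smul])
  refine ⟨((φ ⬝ᵥ v)⁻¹ * 2) • φ, ?_⟩
  rw [vecMulVec_smul, ← smul_vecMulVec, mul_smul, e5, inv_smul_smul₀ e6, ← e, add_sub_cancel_right]

theorem irr_of_odd [Finite Γ] (h2 : (2 : K) ≠ 0) (hi : Function.Injective ρ)
    (hd : ∀ g, (ρ g).det = 1) (hs : Function.Surjective π)
    (hk : ∀ g, π g = 1 → ∃ c : K, ρ g = c • 1) [IsSimpleGroup X] (hn : ¬ IsMulCommutative X)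
    (v : V3 K) (hv : ∀ g, ρ g *ᵥ v = v) : v = 0 := by
  by_contra v0
  let e := MulEquiv.ofBijective π ⟨(injective_iff_map_eq_one π).2 fun z hz => by
    obtain ⟨c, hc⟩ := hk z hz
    have := hv z
    rw [hc, smul_mulVec, one_mulVec] at this
    rw [smul_left_injective K v0 (this.trans (one_smul _ _).symm), one_smul] at hc
    exact hi (hc.trans (map_one ρ).symm), hs⟩
  haveI := e.isSimpleGroup
  have hn' : ¬ ∀ a b : Γ, a * b = b * a := fun c => hn ⟨⟨fun a b => e.symm.injective (by simp [c])⟩⟩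
  haveI : Fact (Nat.Prime 2) := ⟨Nat.prime_two⟩
  obtain ⟨t, ht⟩ := exists_prime_orderOf_dvd_card' (G := Γ) 2 (by
    by_contra h3
    exact hn' (IsSimpleGroup.comm_iff_isSolvable.2 (S0205.result (Nat.odd_iff.2 (by omega)))))
  have t2 : t * t = 1 := by rw [← sq, ← ht, pow_orderOf_eq_one]
  have t1 : t ≠ 1 := by rintro rfl; simp at ht
  obtain ⟨φ, hφ⟩ := refl_mat h2 (by rw [← map_mul, t2, map_one]) (hd t)
    (fun e => t1 (hi (e.trans (map_one ρ).symm))) (hv t) v0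
  let N : Subgroup Γ :=
    { carrier := {g | ∃ ψ, ρ g = 1 + vecMulVec v ψ}
      one_mem' := ⟨0, by simp⟩
      mul_mem' := fun {a b} ⟨ψ, ha⟩ ⟨χ, hb⟩ => ⟨χ + ψ ᵥ* ρ b, by
        rw [map_mul, ha, add_mul, one_mul, vecMulVec_mul, vecMulVec_add, ← add_assoc, ← hb]⟩
      inv_mem' := fun {a} ⟨ψ, ha⟩ => ⟨-(ψ ᵥ* ρ a⁻¹), by
        rw [vecMulVec_neg, ← vecMulVec_mul, ← mul_inv_rho ρ a, ha, add_mul, one_mul]; simp⟩ }
  have cj : ∀ (g : Γ) ψ, ρ g * vecMulVec v ψ * ρ g⁻¹ = vecMulVec v (ψ ᵥ* ρ g⁻¹) := fun g ψ => by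
    rw [mul_vecMulVec, hv, vecMulVec_mul]
  have hN : N.Normal := ⟨fun a ⟨ψ, ha⟩ g => ⟨ψ ᵥ* ρ g⁻¹, by
    rw [map_mul, map_mul, ha, mul_add, add_mul, mul_one, mul_inv_rho, cj]⟩⟩
  rcases hN.eq_bot_or_eq_top with h | h
  · have hc : t ∈ center Γ := mem_center_iff.2 fun g => by
      have : g * t * g⁻¹ * t ∈ N := ⟨φ ᵥ* ρ g⁻¹ ᵥ* ρ t - φ, by
        rw [map_mul, map_mul, map_mul, vecMulVec_sub, ← vecMulVec_mul, ← cj]
        conv_lhs => enter [1, 1, 2]; rw [hφ]
        rw [mul_sub, sub_mul, sub_mul, mul_one, mul_inv_rho, one_mul]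
        conv_lhs => enter [2]; rw [hφ]
        abel⟩
      rw [h, mem_bot, ← t2, mul_left_inj, mul_inv_eq_iff_eq_mul] at this
      exact this
    rcases (inferInstance : (center Γ).Normal).eq_bot_or_eq_top with h | h
    · exact t1 (mem_bot.1 (h ▸ hc))
    · exact hn' fun a b => mem_center_iff.1 (h ▸ mem_top b) a
  · obtain ⟨ψ, e⟩ : t ∈ N := h ▸ mem_top t
    have : (2 : K) • (1 : M3 K) = vecMulVec v (φ - ψ) := by
      rw [vecMulVec_sub, two_smul, sub_eq_iff_eq_add.1 (hφ.symm.trans e)]; abel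
    have := congrArg det this
    rw [det_vecMulVec] at this
    simp [h2] at this

/-- The underlying matrix. -/
abbrev co (K : Type*) [Field K] : SL(3, K) →* M3 K := SpecialLinearGroup.coeMonoidHom

/-- The natural representation of a subgroup of the special linear group. -/
def rhoS (Γ : Subgroup SL(3, K)) : Γ →* M3 K := (co K).comp Γ.subtype

/-- The projection to the projective special linear group. -/
abbrev mkP (K : Type*) [Field K] : SL(3, K) →* PSL(3, K) := QuotientGroup.mk' _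

theorem mkP_eq_one {m : SL(3, K)} : mkP K m = 1 ↔ ∃ c : K, co K m = c • 1 := by
  rw [QuotientGroup.mk'_apply, QuotientGroup.eq_one_iff, Matrix.SpecialLinearGroup.mem_center_iff]
  refine exists_congr fun c => ?_
  rw [scalar_apply, ← smul_one_eq_diagonal]
  exact ⟨fun e => e.2.symm, fun e => ⟨cube_of_smul e m.2 det_one, e.symm⟩⟩

theorem mkP_eq {a b : SL(3, K)} : mkP K a = mkP K b ↔ ∃ c : K, co K a = c • co K b := by
  rw [← mul_inv_eq_one, ← map_inv, ← map_mul, mkP_eq_one]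
  refine exists_congr fun c => ⟨fun e => ?_, fun e => ?_⟩
  · rw [← inv_mul_cancel_right a b, map_mul, e, smul_mul_assoc, one_mul]
  · rw [map_mul, e, smul_mul_assoc, mul_inv_rho]

open scoped commutatorElement in
theorem setup [Finite K] (h2 : (2 : K) ≠ 0) (H : Subgroup PSL(3, K)) (hH : H ≠ ⊥)
    (hN : ∀ N : Subgroup H, N.Normal → IsMulCommutative N →
      (∃ r : ℕ, r.Prime ∧ ∀ x ∈ N, x ^ r = 1) → N = ⊥) :
    ∃ (T : Subgroup PSL(3, K)) (Γ : Subgroup SL(3, K)) (π : Γ →* T), T ≤ H ∧ Hyp (rhoS Γ) π ∧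
      (∀ m, mkP K m ∈ H → Nrm (rhoS Γ) (SpecialLinearGroup.toGL m)) ∧
      ∀ m, mkP K m ∈ T ↔ Inn (rhoS Γ) (SpecialLinearGroup.toGL m) := by
  haveI := (nontrivial_iff_ne_bot H).2 hH
  obtain ⟨N, n1, n2, n3⟩ := H2.exists_minimal_normal (G := H)
  have hc : ¬ IsMulCommutative N := fun c =>
    n2 (hN N n1 c (H2.minimal_normal_exponent_of_comm N c n2 n3))
  have hm : H77.MinNormal N := ⟨n1, n2, n3⟩
  obtain ⟨T', hT⟩ := H77.exists_factor n2
  haveI := hT.simple hm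
  let T := T'.map H.subtype
  let e : T' ≃* T := equivMapOfInjective _ _ H.subtype_injective
  haveI : IsSimpleGroup T := e.symm.isSimpleGroup
  have nc : ¬ IsMulCommutative T := fun c => hT.not_comm hm hc ⟨⟨fun a b => e.injective (by
    rw [map_mul, map_mul, c.is_comm.comm])⟩⟩
  have pf : ⁅T, T⁆ = T := by
    rw [← map_subtype_commutator,
      ((commutator T).normal_of_characteristic.eq_bot_or_eq_top).resolve_left fun e => nc
        ⟨⟨fun a b => mem_center_iff.1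
          (((commutator_eq_bot_iff_center_eq_top _).1 e).ge (mem_top b)) a⟩⟩,
      ← MonoidHom.range_eq_map, range_subtype]
  have ms : Function.Surjective (mkP K) := QuotientGroup.mk'_surjective _
  let Γ := ⁅T.comap (mkP K), T.comap (mkP K)⁆
  have mΓ : Γ.map (mkP K) = T := by
    rw [map_commutator, map_comap_eq_self_of_surjective ms, pf]
  have lift : ∀ m, mkP K m ∈ T → ∃ g ∈ Γ, ∃ c : K, co K m = c • co K g := fun m hm =>
    let ⟨g, hg, e⟩ := mΓ.ge hm; ⟨g, hg, mkP_eq.1 e.symm⟩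
  let π : Γ →* T := ((mkP K).comp Γ.subtype).codRestrict T fun g => mΓ.le ⟨g, g.2, rfl⟩
  have hπ : ∀ g, π g = 1 ↔ ∃ c : K, rhoS Γ g = c • 1 := fun g =>
    Subtype.ext_iff.trans mkP_eq_one
  have sj : Function.Surjective π := fun ⟨x, hx⟩ =>
    let ⟨g, hg, e⟩ := mΓ.ge hx; ⟨⟨g, hg⟩, Subtype.ext e⟩
  have ij : Function.Injective (rhoS Γ) := fun a b e => Subtype.ext (Subtype.ext e)
  have h : Hyp (rhoS Γ) π := by
    refine ⟨ij, fun g => g.1.2, sj, hπ, inferInstance, nc, map_injective Γ.subtype_injective ?_,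
      irr_of_odd h2 ij (fun g => g.1.2) sj (fun g => (hπ g).1) nc, fun φ hφ =>
      irr_of_odd (ρ := dual (rhoS Γ)) h2 (fun a b e => inv_injective (ij (transpose_injective e)))
        (fun g => (det_transpose _).trans g⁻¹.1.2) sj (fun g hg => ?_) nc φ
        fun g => by simpa [dual_apply, mulVec_transpose] using hφ g⁻¹⟩
    · rw [map_subtype_commutator, ← MonoidHom.range_eq_map, range_subtype]
      refine le_antisymm (commutator_le.2 fun a ha b hb => mul_mem (mul_mem (mul_mem ha hb)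
        (inv_mem ha)) (inv_mem hb)) (commutator_le.2 fun a ha b hb => ?_)
      obtain ⟨a', ha', c, ea⟩ := lift a ha
      obtain ⟨b', hb', d, eb⟩ := lift b hb
      have : ⁅a, b⁆ = ⁅a', b'⁆ := by
        rw [commutatorElement_def, mul_assoc, ← _root_.mul_inv_rev, mul_inv_eq_iff_eq_mul]
        refine Subtype.ext (?_ : co K (a * b) = co K (⁅a', b'⁆ * (b * a)))
        rw [map_mul, map_mul _ _ (b * a), map_mul _ b, ea, eb, smul_mul_smul_comm,
          smul_mul_smul_comm, mul_smul_comm, mul_comm c, ← map_mul, ← map_mul, ← map_mul,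
          commutatorElement_def]
        congr 2; group
      exact this ▸ commutator_mem_commutator ha' hb'
    · obtain ⟨c, hc⟩ := (hπ g⁻¹).1 (by simp [hg])
      exact ⟨c, by simp [dual_apply, hc]⟩
  have nT : ∀ x : H, ∀ t ∈ T', x * t * x⁻¹ ∈ T' := fun x t ht => by
    rcases hT.eq_or_comm (hT.conj n1 x) with e | e
    · exact e ▸ H77.conj_mem_cj ht
    obtain ⟨m, hm⟩ := ms (x * t * x⁻¹ : H)
    obtain ⟨c, hc⟩ := h.scalar_of_proj (m := SpecialLinearGroup.toGL m) fun g => by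
      obtain ⟨s, hs, e1⟩ := (π g).2
      obtain ⟨c, hc⟩ := mkP_eq.1 (show mkP K (m * g) = mkP K (g * m) by
        rw [map_mul, map_mul, hm, show mkP K g = s from e1.symm]
        exact congrArg Subtype.val (e s hs _ (H77.conj_mem_cj ht)).symm)
      exact ⟨c, hc⟩
    rw [show x * t * x⁻¹ = 1 from Subtype.ext (hm.symm.trans (mkP_eq_one.2 ⟨c, hc⟩))]
    exact one_mem _
  refine ⟨T, Γ, π, map_subtype_le _, h, fun m hm g => ?_, fun m => ⟨fun hm => ?_, ?_⟩⟩
  · have : (T.comap (mkP K)).map (MulAut.conj m).toMonoidHom ≤ T.comap (mkP K) := by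
      rintro _ ⟨a, ⟨t, ht, e⟩, rfl⟩
      refine ⟨_, nT ⟨_, hm⟩ t ht, ?_⟩
      change mkP K m * t * (mkP K m)⁻¹ = mkP K (m * a * m⁻¹)
      rw [map_mul, map_mul, map_inv, ← e]; rfl
    refine ⟨⟨m * g * m⁻¹, commutator_mono this this ?_⟩, by rw [← map_inv]; rfl⟩
    rw [← map_commutator]
    exact ⟨g, g.2, rfl⟩
  · obtain ⟨g, hg, c, e⟩ := lift m hm
    exact ⟨c, ⟨g, hg⟩, e⟩
  · rintro ⟨c, g, e⟩
    exact (mkP_eq.2 ⟨c, e⟩ : mkP K m = mkP K g) ▸ (π g).2

end Cfsg.Agent.H10.P3
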