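import Cfsg.Agent.H10.P3U
import Mathlib.LinearAlgebra.Matrix.Charpoly.FiniteField
import Mathlib.LinearAlgebra.Dual.Lemmas
import Mathlib.FieldTheory.IsAlgClosed.AlgebraicClosure

/-!
Extension of scalars, rank one matrices, canonical lifts and elementary trace identities.
-/

set_option autoImplicit false

open Matrix Polynomial

namespace Cfsg.Agent.H10.P3

variable {K : Type*} [Field K] {Γ X : Type*} [Group Γ] [Group X] {ρ : Γ →* M3 K} {π : Γ →* X}

theorem map_eq_smul_one {L : Type*} [Field L] (f : K →+* L) {M : M3 K} {c : L}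
    (e : M.map f = c • 1) : M = M 0 0 • 1 := by
  ext i j
  apply f.injective
  have h1 := congrFun (congrFun e i) j
  have h2 := congrFun (congrFun e 0) 0
  simp only [map_apply, Matrix.smul_apply, one_apply_eq, smul_eq_mul, mul_one] at h1 h2
  rw [h1, ← h2]
  by_cases hij : i = j <;> simp [hij, one_apply]

theorem fix_ext {L : Type*} [Field L] (f : K →+* L) {ι : Type*} (A : ι → M3 K)
    (h : ∀ v : V3 K, (∀ g, A g *ᵥ v = v) → v = 0) (v : V3 L) (hv : ∀ g, (A g).map f *ᵥ v = v) :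
    v = 0 := by
  letI := f.toAlgebra
  funext i
  refine (Module.forall_dual_apply_eq_zero_iff K (v i)).1 fun l => ?_
  refine congrFun (h (fun j => l (v j)) fun g => funext fun j => ?_) i
  conv_rhs => rw [← hv g]
  simp only [mulVec, dotProduct, map_sum, map_apply]
  exact Finset.sum_congr rfl fun k _ => (l.map_smul (A g j k) (v k)).symm

theorem Hyp.ext (h : Hyp ρ π) {L : Type*} [Field L] (f : K →+* L) : Hyp (ext f ρ) π where
  inj a b e := h.inj (Matrix.map_injective f.injective e)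
  det g := by rw [ext_apply, ← RingHom.mapMatrix_apply, ← RingHom.map_det, h.det, map_one]
  surj := h.surj
  ker g := by
    rw [h.ker, ext_apply]
    refine ⟨fun ⟨c, e⟩ => ⟨f c, ?_⟩, fun ⟨c, e⟩ => ⟨_, map_eq_smul_one f e⟩⟩
    ext i j
    by_cases hij : i = j <;> simp [e, hij, one_apply]
  simple := h.simple
  nonab := h.nonab
  perfect := h.perfect
  irr1 := fix_ext f ρ h.irr1
  irr2 v hv := fix_ext f (fun g => (ρ g)ᵀ) (fun v hv => h.irr2 v fun g => by
    simpa [mulVec_transpose] using hv g) v fun g => by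
      rw [transpose_map, mulVec_transpose]; exact hv g

theorem trace_ext {L : Type*} [Field L] (f : K →+* L) (g : Γ) :
    (ext f ρ g).trace = f (ρ g).trace := by
  simp [ext_apply, trace_fin_three]

theorem trace_pow_char (p : ℕ) [hp : Fact p.Prime] [CharP K p] (M : M3 K) :
    (M ^ p).trace = M.trace ^ p := by
  have e : (M ^ p).charpoly = M.charpoly.map (frobenius K p) := by
    apply expand_injective hp.out.pos
    rw [← map_expand, map_frobenius_expand]
    unfold charpoly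
    rw [AlgHom.map_det, ← coe_detMonoidHom, ← (detMonoidHom : M3 K[X] →* K[X]).map_pow]
    apply congr_arg detMonoidHom
    refine matPolyEquiv.injective ?_
    rw [map_pow, matPolyEquiv_charmatrix, sub_pow_char_of_commute, ← C_pow]
    · exact (id (matPolyEquiv_eq_X_pow_sub_C p M) :)
    · exact (C M).commute_X
  rw [trace_eq_neg_charpoly_coeff, trace_eq_neg_charpoly_coeff, e, coeff_map, ← map_neg,
    frobenius_def]

theorem adj_eq (N : M3 K) : N.adjugate = N * N - N.trace • N + N.adjugate.trace • (1 : M3 K) := by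
  ext i j
  fin_cases i <;> fin_cases j <;>
    simp [Matrix.mul_apply, Fin.sum_univ_three, trace_fin_three, adjugate_fin_three] <;> ring

theorem exists_vv_of_adj {N : M3 K} (h : N.adjugate = 0) : ∃ v φ, N = vecMulVec v φ := by
  by_cases h0 : N = 0
  · exact ⟨0, 0, by simp [h0]⟩
  obtain ⟨k, hk⟩ : ∃ k, N k ≠ 0 := by
    by_contra hc
    push Not at hc
    exact h0 (funext hc)
  have e : ∀ i j, N.adjugate i j = 0 := fun i j => by rw [h]; rfl
  have key : ∀ i, N i ⨯₃ N k = 0 := by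
    intro i
    have e00 := e 0 0; have e01 := e 0 1; have e02 := e 0 2
    have e10 := e 1 0; have e11 := e 1 1; have e12 := e 1 2
    have e20 := e 2 0; have e21 := e 2 1; have e22 := e 2 2
    simp only [adjugate_fin_three, of_apply, cons_val', cons_val_zero, cons_val_one, cons_val,
      cons_val_fin_one] at e00 e01 e02 e10 e11 e12 e20 e21 e22
    funext j
    fin_cases i <;> fin_cases k <;> fin_cases j <;> simp [cross_apply] <;> grind
  choose c hc using fun i => exists_smul_of_cross hk (key i)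
  exact ⟨c, N k, by ext i j; rw [vecMulVec_apply, hc i]; simp⟩

theorem exists_vv_of_sq {N : M3 K} (h : N * N = 0) : ∃ v φ, N = vecMulVec v φ ∧ φ ⬝ᵥ v = 0 := by
  have hd : N.det = 0 := by simpa using congrArg det h
  by_cases h0 : N = 0
  · exact ⟨0, 0, by simp [h0], by simp⟩
  have h1 := cayley N
  rw [pow_three', sq, h, hd] at h1
  have h2 : N.adjugate.trace = 0 := by simpa [h0] using h1
  have h3 := trace_sq N
  rw [sq, h, h2] at h3
  have h4 : N.trace = 0 := by simpa using h3.symm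
  obtain ⟨v, φ, e⟩ := exists_vv_of_adj (N := N) (by rw [adj_eq, h, h2, h4]; simp)
  exact ⟨v, φ, e, by rw [← trace_vv, ← e, h4]⟩

/-- No element acts as a transvection. -/
def NoTv (ρ : Γ →* M3 K) : Prop := ∀ g, (ρ g - 1) * (ρ g - 1) = 0 → g = 1

theorem Hyp.exists_fl (h : Hyp ρ π) (hn : ¬ NoTv ρ) : ∃ v φ, Fl ρ v φ := by
  simp only [NoTv, not_forall] at hn
  obtain ⟨g, h1, h2⟩ := hn
  obtain ⟨v, φ, e, h3⟩ := exists_vv_of_sq h1
  have : vecMulVec v φ ≠ 0 := fun e' => h2 (h.inj (by rw [map_one, ← sub_eq_zero, e, e']))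
  exact ⟨v, φ, ⟨h3, g, by rw [← e]; simp⟩, fun e => this (by simp [e]), fun e => this (by simp [e])⟩

theorem NoTv.cnj (h : NoTv ρ) (B : (M3 K)ˣ) : NoTv (cnj ρ B) := fun g e => h g (by
  have := congrArg (fun M => B.val * M * B⁻¹.val) e
  simpa [cnj_apply, mul_sub, sub_mul, mul_assoc] using this)

theorem one_add_pow {N : M3 K} (h : N ^ 3 = 0) (n : ℕ) :
    ∃ c : K, (1 + N) ^ n = 1 + (n : K) • N + c • N ^ 2 := by
  induction n with
  | zero => exact ⟨0, by simp⟩
  | succ n ih =>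
    obtain ⟨c, hc⟩ := ih
    refine ⟨c + n, ?_⟩
    rw [pow_succ, hc]
    simp only [mul_add, add_mul, mul_one, one_mul, smul_mul_assoc, ← pow_succ, h, ← sq,
      Nat.cast_succ, add_smul, one_smul, smul_zero]
    abel

namespace Hyp

theorem eq_one_of_trace (h : Hyp ρ π) {g : Γ} (h1 : (ρ g).trace = 3) (h2 : (ρ g⁻¹).trace = 3)
    {n : ℕ} (hn : (n : K) ≠ 0) (e : g ^ n = 1) : g = 1 := by
  have h3 : (ρ g - 1) ^ 3 = 0 := by
    have : (ρ g - 1) ^ 3 = ρ g ^ 3 - (3 : K) • ρ g ^ 2 + (3 : K) • ρ g - 1 := by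
      rw [show (3 : K) = 1 + 1 + 1 by norm_num]
      simp only [add_smul, one_smul]
      noncomm_ring
    rw [this, h.cayley, h1, h2]
    abel
  obtain ⟨c, hc⟩ := one_add_pow h3 n
  rw [add_sub_cancel, ← map_pow, e, map_one, add_assoc, left_eq_add] at hc
  have h4 := congrArg (· * (ρ g - 1)) hc
  simp only [add_mul, smul_mul_assoc, ← pow_succ, h3, ← sq, smul_zero, add_zero, zero_mul,
    smul_eq_zero, hn, false_or] at h4
  rw [h4, smul_zero, add_zero, smul_eq_zero, sub_eq_zero] at hc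
  exact h.inj ((hc.resolve_left hn).trans (map_one ρ).symm)

theorem trace_of_pow_char (p : ℕ) [Fact p.Prime] [CharP K p] {g : Γ} (e : g ^ p = 1) :
    (ρ g).trace = 3 := by
  apply frobenius_inj K p
  rw [frobenius_def, ← trace_pow_char, ← map_pow, e, map_one, map_ofNat]
  simp

theorem exists_lift (h : Hyp ρ π) {x : X} {n : ℕ} (hn : Nat.Coprime n 3) (hx : x ^ n = 1) :
    ∃ g, π g = x ∧ g ^ n = 1 := by
  obtain ⟨g, rfl⟩ := h.surj x
  have hz : π (g ^ n) = 1 := by rw [map_pow, hx]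
  have h3 := h.ker_cube hz
  obtain ⟨k, hk⟩ : ∃ k, 3 ∣ 1 + k * n := by
    have : n % 3 = 1 ∨ n % 3 = 2 := by
      have : ¬ 3 ∣ n := fun e => by simpa using Nat.Coprime.eq_one_of_dvd hn.symm e
      omega
    rcases this with e | e
    exacts [⟨2, by omega⟩, ⟨1, by omega⟩]
  refine ⟨g * (g ^ n) ^ k, by rw [map_mul, map_pow, hz, one_pow, mul_one], ?_⟩
  obtain ⟨m, hm⟩ := hk
  rw [← pow_mul, ← pow_succ', ← pow_mul, show (n * k + 1) * n = n * 3 * m by
    rw [mul_assoc, ← hm]; ring, pow_mul, pow_mul, h3, one_pow]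

theorem lift_unique (h : Hyp ρ π) {a b : Γ} (e : π a = π b) {n : ℕ} (hn : Nat.Coprime n 3)
    (ha : a ^ n = 1) (hb : b ^ n = 1) : a = b := by
  obtain ⟨z, hz, rfl⟩ := h.exists_ker_of_eq e
  rw [Commute.mul_pow (h.ker_comm hz b), hb, mul_one] at ha
  rw [h.ker_eq_one hz hn ha, one_mul]

theorem comm_of_lift (h : Hyp ρ π) {a g : Γ} {n : ℕ} (hn : Nat.Coprime n 3) (ha : a ^ n = 1)
    (e : π g * π a = π a * π g) : g * a = a * g := by
  rw [← mul_inv_eq_iff_eq_mul]
  exact h.lift_unique (by simp [e]) hn (by rw [conj_pow, ha]; simp) ha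

theorem trace_of_isConj (h : Hyp ρ π) {a b : Γ} {n : ℕ} (hn : Nat.Coprime n 3) (ha : a ^ n = 1)
    (hb : b ^ n = 1) (e : IsConj (π a) (π b)) : (ρ b).trace = (ρ a).trace := by
  obtain ⟨x, hx⟩ := isConj_iff.1 e
  obtain ⟨k, rfl⟩ := h.surj x
  rw [← trace_conj ρ a k, h.lift_unique (a := k * a * k⁻¹) (b := b) (by simpa using hx) hn
    (by rw [conj_pow, ha]; simp) hb]

theorem cube_of_real (h : Hyp ρ π) {g : Γ} (h3 : π g ^ 3 = 1) (e : IsConj (π g) (π g)⁻¹) :
    g ^ 3 = 1 := by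
  obtain ⟨x, hx⟩ := isConj_iff.1 e
  obtain ⟨k, rfl⟩ := h.surj x
  obtain ⟨z, hz, e⟩ := h.exists_ker_of_eq (a := k * g * k⁻¹) (b := g⁻¹) (by simpa using hx)
  have h1 : π (g ^ 3) = 1 := by rw [map_pow, h3]
  have h2 := congrArg (· ^ 3) e
  simp only [conj_pow] at h2
  rw [Commute.mul_pow (h.ker_comm hz _), h.ker_cube hz, one_mul, ← h.ker_comm h1,
    mul_inv_cancel_right, inv_pow, eq_inv_iff_mul_eq_one, ← sq] at h2
  exact h.ker_eq_one h1 (by norm_num) h2

theorem trace_of_cube (h : Hyp ρ π) {g : Γ} (h3 : g ^ 3 = 1) (h1 : π g ≠ 1) : (ρ g).trace = 0 := by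
  by_contra h0
  have e := h.cayley g
  rw [← map_pow, h3, map_one, right_eq_add, sub_eq_zero] at e
  have e' := congrArg (· * ρ g⁻¹) e
  simp only [smul_mul_assoc, sq, mul_assoc, mul_inv_rho, mul_one] at e'
  exact h1 ((h.ker g).2 ⟨(ρ g).trace⁻¹ * (ρ g⁻¹).trace, by
    rw [mul_smul, ← e', inv_smul_smul₀ h0]⟩)

theorem trace_of_sq (h : Hyp ρ π) {g : Γ} (h2 : g ^ 2 = 1) (h1 : g ≠ 1) : (ρ g).trace = -1 := by
  by_contra h0
  have e := h.cayley g
  have hi : g⁻¹ = g := by rw [inv_eq_iff_mul_eq_one, ← sq, h2]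
  rw [pow_succ, ← map_pow, h2, map_one, one_mul, hi] at e
  have h3 : 1 + (ρ g).trace ≠ 0 := fun e => h0 (by linear_combination e)
  have : (1 + (ρ g).trace) • ρ g = (1 + (ρ g).trace) • 1 := by
    rw [add_smul, add_smul, one_smul, one_smul]
    conv_lhs => enter [1]; rw [e]
    abel
  exact h1 (h.inj ((smul_right_injective _ h3 this).trans (map_one ρ).symm))

/-- An element conjugate to its square and its inverse is unipotent. -/
theorem trace_of_rat (h : Hyp ρ π) {g : Γ} (h1 : (ρ g⁻¹).trace = (ρ g).trace)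
    (h2 : (ρ (g ^ 2)).trace = (ρ g).trace) (h3 : (ρ (g ^ 3)).trace = (ρ g).trace) :
    (ρ g).trace = 3 := by
  have e := h.trace_cube g
  rw [h1, h2, h3] at e
  linear_combination e

end Hyp

end Cfsg.Agent.H10.P3
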