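import Cfsg.Agent.H10.UCases2

/-! Maximal subgroups of special unitary groups: the general list. -/

set_option autoImplicit false
set_option linter.unusedSectionVars false
set_option linter.style.haveILetI false

namespace Cfsg.Agent.H10

open Cfsg Cfsg.Geo Cfsg.Agent.H98 Cfsg.Agent.H99 Matrix

variable {F : Type*} [Field F] [Fintype F] {q : ℕ} [hF : Fact (Fintype.card F = q ^ 2)] {n : ℕ}

local notation "σ" => cj F q
local notation "𝐡" => hermForm n F q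

/-- the arithmetic of the minimal field: `q = p ^ a` and `2 a` is the order of `p` modulo `z` -/
theorem minField_arith {z p e : ℕ} (h : IsMinimalFieldFor z p e F) :
    ∃ a, 0 < a ∧ e = 2 * a ∧ q = p ^ a ∧ p ^ (2 * a) % z = 1 % z ∧
      ∀ d, 0 < d → d < 2 * a → p ^ d % z ≠ 1 % z := by
  obtain ⟨hp, hc, hcard, hz, hmin⟩ := h
  obtain ⟨p', a, hp', hc', ha, hq⟩ := exists_char_pow_of_card_sq hF.out
  obtain rfl : p' = p := CharP.eq F hc' hc
  have he : e = 2 * a := by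
    have h1 : p' ^ e = p' ^ (2 * a) := by rw [← hcard, hF.out, hq, ← pow_mul, mul_comm]
    exact Nat.pow_right_injective hp.two_le h1
  subst he
  have key : ∀ d, z ∣ p' ^ d - 1 ↔ p' ^ d % z = 1 % z := fun d => by
    rw [← Nat.modEq_iff_dvd' (Nat.one_le_pow _ _ hp.pos)]
    exact ⟨fun h => h.symm, fun h => h.symm⟩
  exact ⟨a, ha, rfl, hq, (key _).1 hz, fun d h0 h1 h2 => hmin d h0 h1 ((key d).2 h2)⟩

theorem max_cases (hn : 3 ≤ n) (hex : ¬ (n = 3 ∧ q = 2)) {H : Subgroup (GL (Fin n) F)}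
    (hH : IsMaximalIn (SUG n F q) H) :
    (∃ W : Submodule F (Fin n → F), W ≠ ⊥ ∧ IsTotallySingularFor 𝐡 W ∧
      H = subspaceStabilizer W ⊓ SUG n F q) ∨
    (∃ W : Submodule F (Fin n → F), W ≠ ⊥ ∧ IsNondegenerateOn 𝐡 W ∧ 2 * Module.finrank F W < n ∧
      H = subspaceStabilizer W ⊓ SUG n F q) ∨
    (∃ (t k : ℕ) (D : Fin t → Submodule F (Fin n → F)), n = t * k ∧ 2 ≤ t ∧
      IsNondegenerateMDecomposition 𝐡 k D ∧ H = decompositionStabilizer D ⊓ SUG n F q) ∨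
    (∃ (k : ℕ) (D : Fin 2 → Submodule F (Fin n → F)), 2 * k = n ∧ IsMDecomposition k D ∧
      (∀ i, IsTotallySingularFor 𝐡 (D i)) ∧ H = decompositionStabilizer D ⊓ SUG n F q) ∨
    (∃ (r : ℕ) (K : Subalgebra F (Matrix (Fin n) (Fin n) F)), r.Prime ∧ Odd r ∧ r ∣ n ∧
      IsFieldSubalgebra r K ∧ IsAdjointClosedFor 𝐡 K ∧ H = subalgebraNormalizer K ⊓ SUG n F q) ∨
    (∃ (a b : ℕ) (e : Fin n ≃ Fin a × Fin b) (P : GL (Fin n) F)
      (f₁ : (Fin a → F) → (Fin a → F) → F) (f₂ : (Fin b → F) → (Fin b → F) → F),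
      n = a * b ∧ 2 ≤ a ∧ a < b ∧ IsUnitaryFormPow q f₁ ∧ IsUnitaryFormPow q f₂ ∧
      IsTensorFormStructure (fun x : F => x ^ q) 𝐡 f₁ f₂ e P ∧
      H = tensorProductSubgroup a b e P ⊓ SUG n F q) ∨
    (∃ (F₀ : Subfield F) (r : ℕ) (P : GL (Fin n) F), r.Prime ∧ Odd r ∧
      Fintype.card F = Nat.card F₀ ^ r ∧ IsFormRationalStructure 𝐡 F₀ 1 P ∧
      H = subfieldSubgroup F₀ P ⊓ SUG n F q) ∨
    (Even n ∧ ∃ (F₀ : Subfield F) (P : GL (Fin n) F) (ζ : F), Fintype.card F = Nat.card F₀ ^ 2 ∧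
      ζ ≠ 0 ∧ ζ + ζ ^ q = 0 ∧ IsFormRationalStructure 𝐡 F₀ ζ P ∧
      (∀ u : Fin n → F, (∀ i, u i ∈ F₀) → 𝐡 ((P : Matrix (Fin n) (Fin n) F) *ᵥ u)
        ((P : Matrix (Fin n) (Fin n) F) *ᵥ u) = 0) ∧ H = subfieldSubgroup F₀ P ⊓ SUG n F q) ∨
    (Odd q ∧ ∃ (F₀ : Subfield F) (P : GL (Fin n) F), Fintype.card F = Nat.card F₀ ^ 2 ∧
      IsFormRationalStructure 𝐡 F₀ 1 P ∧ H = subfieldSubgroup F₀ P ⊓ SUG n F q) ∨
    (∃ (r : ℕ) (R : Subgroup (GL (Fin n) F)) (p a k : ℕ), IsSymplecticTypeGroup r R ∧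
      ActsAbsolutelyIrreducibly (matrixSet R) ∧ R ≤ similarityGroup 𝐡 ∧ r ≠ p ∧ p.Prime ∧
      CharP F p ∧ 0 < a ∧ q = p ^ a ∧ n = r ^ k ∧
      ((Odd r ∧ Nat.card (Subgroup.center R) = r ∧ Nat.card R = n ^ 2 * r ∧
          p ^ (2 * a) % r = 1 % r ∧ ∀ d, 0 < d → d < 2 * a → p ^ d % r ≠ 1 % r) ∨
        (r = 2 ∧ q = p ∧ p % 4 = 3 ∧ Nat.card (Subgroup.center R) = 4 ∧
          Nat.card R = n ^ 2 * 4)) ∧
      H = subgroupNormalizer R ⊓ SUG n F q) ∨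
    (∃ (k t : ℕ) (e : Fin n ≃ (Fin t → Fin k)) (P : GL (Fin n) F)
      (f₁ : (Fin k → F) → (Fin k → F) → F), n = k ^ t ∧ 3 ≤ k ∧ 2 ≤ t ∧ ¬ (q = 2 ∧ k = 3) ∧
      IsUnitaryFormPow q f₁ ∧ IsTensorPowerFormStructure (fun x : F => x ^ q) 𝐡 f₁ e P ∧
      H = tensorWreathSubgroup k t e P ⊓ SUG n F q) ∨
    InUnitaryResidualClass H := by
  haveI : Nonempty (Fin n) := ⟨⟨0, by omega⟩⟩
  rcases aschbacher_GU (q := q) (by omega) (hH.1.le.trans inf_le_left) with ⟨M, hM, hle⟩ | h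
  swap
  · iterate 11 right
    exact h
  rcases hM with (⟨W, h0, h1, rfl⟩ | ⟨W, h0, h1, h2, rfl⟩ | ⟨t, k, D, hD, rfl⟩ |
    ⟨k, D, hk, hD, hs, rfl⟩ | ⟨F₀, r, P, hr, ho, hc, hP, rfl⟩ | ⟨F₀, P, ho, hc, hP, rfl⟩ |
    ⟨F₀, P, ζ, he, hc, hz, hz', hP, hP', rfl⟩ |
    ⟨r, R, p, e, k, hR, hi, hs, hrp, hm, hc, rfl⟩) | ⟨r, K, hr, ho, hK, ha, rfl⟩ |
    ⟨a, b, e, P, f₁, f₂, ha, hb, h1, h2, h3, rfl⟩ | ⟨k, t, e, P, f₁, hk, ht, hx, h1, h2, rfl⟩
  all_goals replace hle := hle.trans inf_le_left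
  · left
    exact ⟨W, h0, h1, eq_inf_of_maximal hH hle
      (not_SUG_le_stab (by omega) h0 (ne_top_of_singular h0 h1))⟩
  · right; left
    exact ⟨W, h0, h1, h2, eq_inf_of_maximal hH hle
      (not_SUG_le_stab (by omega) h0 (ne_top_of_two_mul_lt h2))⟩
  · iterate 2 right
    left
    exact ⟨t, k, D, by simpa using card_eq_of_dec hD.decomp, hD.decomp.two_le, hD,
      eq_inf_of_maximal hH hle (not_SUG_le_decStab hn hD)⟩
  · iterate 3 right
    left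
    exact ⟨k, D, hk, hD, hs, eq_inf_of_maximal hH hle (not_SUG_le_decStab_singular hD hs)⟩
  · iterate 6 right
    left
    exact ⟨F₀, r, P, hr, ho, hc, hP, eq_inf_of_maximal hH hle
      (not_SUG_le_subfield hn (subfield_ne_top_of_prime hr hc) P)⟩
  · iterate 8 right
    left
    exact ⟨ho, F₀, P, hc, hP, eq_inf_of_maximal hH hle
      (not_SUG_le_subfield hn (subfield_ne_top_of_prime Nat.prime_two hc) P)⟩
  · iterate 7 right
    left
    exact ⟨he, F₀, P, ζ, hc, hz, hz', hP, hP', eq_inf_of_maximal hH hle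
      (not_SUG_le_subfield hn (subfield_ne_top_of_prime Nat.prime_two hc) P)⟩
  · iterate 9 right
    left
    obtain ⟨a, ha, he, hq, h1, h2⟩ := minField_arith (q := q) hm
    haveI := hm.2.1
    have hHe := eq_inf_of_maximal hH hle
      (not_SUG_le_normalizer hn hex hR.prime hm.1 hrp hR.pGroup hi hs)
    rcases hc with ⟨ho, hz, hk, hc⟩ | ⟨rfl, he2, hz, hc⟩
    · have hg : Nat.gcd 2 r = 1 := by
        rw [← Nat.coprime_iff_gcd_eq_one, Nat.coprime_two_left]; exact ho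
      have h3 := (card_sq_mul_card_center hR hi (by rw [hz, hg, mul_one])).1
      rw [Fintype.card_fin, hz] at h3
      rw [hz] at h1 h2
      refine ⟨r, R, p, a, k, hR, hi, hs, hrp, hm.1, hm.2.1, ha, hq, ?_,
        Or.inl ⟨ho, hz, h3.symm, h1, h2⟩, hHe⟩
      rw [hc, pow_add, pow_one, mul_comm r, mul_left_inj' hR.prime.ne_zero, mul_comm 2,
        pow_mul] at h3
      exact Nat.pow_left_injective two_ne_zero h3
    · have h3 := (card_sq_mul_card_center hR hi (by rw [hz]; rfl)).1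
      rw [Fintype.card_fin, hz] at h3
      rw [hz] at h1 h2
      obtain rfl : a = 1 := by omega
      have h4 := h2 1 one_pos (by norm_num)
      have h5 : p % 2 = 1 := by
        rcases hm.1.eq_two_or_odd with h | h
        · exact absurd h.symm hrp
        · exact h
      refine ⟨2, R, p, 1, k, hR, hi, hs, hrp, hm.1, hm.2.1, ha, hq, ?_,
        Or.inr ⟨rfl, by simpa using hq, by rw [pow_one] at h4; omega, hz, h3.symm⟩, hHe⟩
      rw [hc, pow_add, mul_comm (2 ^ 2), show (4 : ℕ) = 2 ^ 2 from rfl,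
        mul_left_inj' (by norm_num), mul_comm 2, pow_mul] at h3
      exact Nat.pow_left_injective two_ne_zero h3
  · iterate 4 right
    left
    exact ⟨r, K, hr, ho, by simpa using IsFieldSubalgebra_dvd_card hK, hK, ha,
      eq_inf_of_maximal hH hle (not_SUG_le_fieldNorm hn hr.two_le hK)⟩
  · iterate 5 right
    left
    exact ⟨a, b, e, P, f₁, f₂, by simpa using Fintype.card_congr e, ha, hb, h1, h2, h3,
      eq_inf_of_maximal hH hle (not_SUG_le_tensor ha (by omega) e P)⟩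
  · iterate 10 right
    left
    exact ⟨k, t, e, P, f₁, by simpa using Fintype.card_congr e, hk, ht, hx, h1, h2,
      eq_inf_of_maximal hH hle (not_SUG_le_wreath hk ht e P)⟩

/-- a similarity of order dividing `r` with `r` prime to `q - 1` is an isometry -/
theorem le_GU_of_sim (hn : 0 < n) {r : ℕ} {R : Subgroup (GL (Fin n) F)} (hR : IsPGroup r R)
    (hs : R ≤ similarityGroup 𝐡) (hr : Nat.Coprime r (q - 1)) : R ≤ GU n F q := by
  haveI : Nonempty (Fin n) := ⟨⟨0, hn⟩⟩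
  intro g hg
  obtain ⟨c, hc⟩ := hs hg
  obtain ⟨k, hk⟩ := hR ⟨g, hg⟩
  have hk' : g ^ r ^ k = 1 := congrArg Subtype.val hk
  have h1 : (c : F) ^ q = c := mult_fixed hn hc
  have h2 : (c : F) ^ r ^ k = 1 := mult_pow_eq_one hn hc hk'
  have h3 : (c : F) ^ (q - 1) = 1 := by
    have hq := two_le_q F q
    refine mul_right_cancel₀ c.ne_zero ?_
    rw [← pow_succ, Nat.sub_add_cancel (by omega), h1, one_mul]
  have h4 := pow_gcd_eq_one.2 ⟨h2, h3⟩
  rw [Nat.Coprime.pow_left k hr, pow_one] at h4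
  intro u v
  have := hc u v
  rwa [h4, one_mul] at this

theorem eq_of_prime_eq_pow {n r k : ℕ} (hn : n.Prime) (h : n = r ^ k) : r = n := by
  subst h
  have := hn.eq_one_of_pow
  subst this
  simp

theorem ord_bound {p a r o : ℕ} (h2 : ∀ d, 0 < d → d < 2 * a → p ^ d % r ≠ 1 % r) (ho : 0 < o)
    (h : (p % r) ^ o % r = 1 % r) : 2 * a ≤ o := by
  by_contra hc
  exact h2 o ho (by omega) (by rw [Nat.pow_mod, h])

theorem ord_zero {p a r : ℕ} (ha : 0 < a) (hr : 1 < r) (h1 : p ^ (2 * a) % r = 1 % r) :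
    p % r ≠ 0 := by
  intro h
  rw [Nat.pow_mod, h, zero_pow (by omega), Nat.mod_eq_of_lt hr] at h1
  simp at h1

theorem arith_three {p a : ℕ} (ha : 0 < a) (h1 : p ^ (2 * a) % 3 = 1 % 3)
    (h2 : ∀ d, 0 < d → d < 2 * a → p ^ d % 3 ≠ 1 % 3) : a = 1 ∧ p % 3 = 2 := by
  have h0 := ord_zero ha (by norm_num) h1
  have h3 := @ord_bound p a 3 1 h2 one_pos
  have h4 := @ord_bound p a 3 2 h2 two_pos
  have : p % 3 < 3 := Nat.mod_lt _ (by norm_num)
  interval_cases p % 3 <;> simp at h0 h3 h4 ⊢ <;> omega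

theorem arith_five {p a : ℕ} (ha : 0 < a) (h1 : p ^ (2 * a) % 5 = 1 % 5)
    (h2 : ∀ d, 0 < d → d < 2 * a → p ^ d % 5 ≠ 1 % 5) :
    (a = 1 ∧ p % 5 = 4) ∨ (a = 2 ∧ (p % 5 = 2 ∨ p % 5 = 3)) := by
  have h0 := ord_zero ha (by norm_num) h1
  have h3 := @ord_bound p a 5 1 h2 one_pos
  have h4 := @ord_bound p a 5 2 h2 two_pos
  have h5 := @ord_bound p a 5 4 h2 (by norm_num)
  rw [Nat.pow_mod] at h1
  have : p % 5 < 5 := Nat.mod_lt _ (by norm_num)
  interval_cases p % 5 <;> simp at h0 h3 h4 h5 ⊢ <;>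
    (have : a ≤ 2 := by omega) <;> interval_cases a <;> simp_all

theorem arith_seven {p a : ℕ} (ha : 0 < a) (h1 : p ^ (2 * a) % 7 = 1 % 7)
    (h2 : ∀ d, 0 < d → d < 2 * a → p ^ d % 7 ≠ 1 % 7) :
    (a = 1 ∧ p % 7 = 6) ∨ (a = 3 ∧ (p % 7 = 3 ∨ p % 7 = 5)) := by
  have h0 := ord_zero ha (by norm_num) h1
  have h3 := @ord_bound p a 7 1 h2 one_pos
  have h4 := @ord_bound p a 7 2 h2 two_pos
  have h5 := @ord_bound p a 7 3 h2 (by norm_num)
  have h6 := @ord_bound p a 7 6 h2 (by norm_num)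
  rw [Nat.pow_mod] at h1
  have : p % 7 < 7 := Nat.mod_lt _ (by norm_num)
  interval_cases p % 7 <;> simp at h0 h3 h4 h5 h6 ⊢ <;>
    (have : a ≤ 3 := by omega) <;> interval_cases a <;> simp_all

theorem arith_eleven {p a : ℕ} (ha : 0 < a) (h1 : p ^ (2 * a) % 11 = 1 % 11)
    (h2 : ∀ d, 0 < d → d < 2 * a → p ^ d % 11 ≠ 1 % 11) :
    (a = 1 ∧ p % 11 = 10) ∨ (a = 5 ∧ (p % 11 = 2 ∨ p % 11 = 6 ∨ p % 11 = 7 ∨ p % 11 = 8)) := by
  have h0 := ord_zero ha (by norm_num) h1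
  have h3 := @ord_bound p a 11 1 h2 one_pos
  have h4 := @ord_bound p a 11 2 h2 two_pos
  have h5 := @ord_bound p a 11 5 h2 (by norm_num)
  have h6 := @ord_bound p a 11 10 h2 (by norm_num)
  rw [Nat.pow_mod] at h1
  have : p % 11 < 11 := Nat.mod_lt _ (by norm_num)
  interval_cases p % 11 <;> simp at h0 h3 h4 h5 h6 ⊢ <;>
    (have : a ≤ 5 := by omega) <;> interval_cases a <;> simp_all

theorem mul_cases_prime {n t k : ℕ} (hn : n.Prime) (h : n = t * k) (ht : 2 ≤ t) :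
    t = n ∧ k = 1 := by
  have h1 : t = n := ((Nat.dvd_prime hn).1 ⟨k, h⟩).resolve_left (by omega)
  subst h1
  exact ⟨rfl, by simpa [hn.ne_zero] using h.symm⟩

theorem not_prime_eq_pow {n k t : ℕ} (hn : n.Prime) (h : n = k ^ t) (ht : 2 ≤ t) : False := by
  subst h
  have := hn.eq_one_of_pow
  omega

end Cfsg.Agent.H10
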