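import Cfsg.Agent.H10.UTwo
import Mathlib.LinearAlgebra.Matrix.Permutation

/-! Diagonal and permutation matrices in unitary groups; two non-maximal subgroups for `q = 2`. -/

set_option autoImplicit false
set_option linter.unusedSectionVars false
set_option linter.style.haveILetI false

namespace Cfsg.Agent.H10

open Cfsg Cfsg.Geo Cfsg.Agent.H98 Cfsg.Agent.H99 Matrix
open scoped Kronecker

variable {F : Type*} [Field F] [Fintype F] {q : ℕ} [hF : Fact (Fintype.card F = q ^ 2)] {n : ℕ}
variable {ι κ : Type} [Fintype ι] [DecidableEq ι] [Fintype κ] [DecidableEq κ]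

local notation "σ" => cj F q
local notation "𝐡" => hermForm n F q

/-- an invertible diagonal matrix -/
def diagG (d : κ → Fˣ) : GL κ F where
  val := diagonal fun k => (d k : F)
  inv := diagonal fun k => ((d k)⁻¹ : Fˣ)
  val_inv := by rw [diagonal_mul_diagonal]; simp
  inv_val := by rw [diagonal_mul_diagonal]; simp

omit [Fintype F] hF in
theorem coe_diagG (d : κ → Fˣ) : ((diagG d : GL κ F) : Matrix κ κ F) = diagonal fun k => (d k : F) :=
  rfl

omit [Fintype F] hF in
theorem diagG_mulVec (d : κ → Fˣ) (v : κ → F) (k : κ) :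
    (((diagG d : GL κ F) : Matrix κ κ F) *ᵥ v) k = d k * v k := by
  rw [coe_diagG, mulVec_diagonal]

theorem diagG_mem_isoG {d : κ → Fˣ} (h : ∀ k, (d k : F) * σ (d k) = 1) :
    diagG d ∈ isoG (sumHerm κ (sig F q)) := fun u v =>
  Finset.sum_congr rfl fun k _ => by
    change (((diagG d : GL κ F) : Matrix κ κ F) *ᵥ u) k *
      σ ((((diagG d : GL κ F) : Matrix κ κ F) *ᵥ v) k) = u k * σ (v k)
    rw [diagG_mulVec, diagG_mulVec, map_mul]
    linear_combination (u k * σ (v k)) * h k

theorem diagG_mem_SUK {d : κ → Fˣ} (h : ∀ k, (d k : F) * σ (d k) = 1) (h1 : ∏ k, d k = 1) :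
    diagG d ∈ SUK κ F q :=
  ⟨diagG_mem_isoG h, mem_sl.2 (by
    rw [coe_diagG, det_diagonal, ← Units.coe_prod, h1, Units.val_one])⟩

omit [Fintype F] hF in
theorem blockMono_diagG {τ : Type} (β : κ → τ) (d : κ → Fˣ) :
    BlockMono β 1 ((diagG d : GL κ F) : Matrix κ κ F) := fun k l hkl => by
  rw [coe_diagG, diagonal_apply_ne]
  rintro rfl
  exact hkl rfl

/-- a permutation matrix -/
def permG (F : Type*) [Field F] (π : Equiv.Perm κ) : GL κ F where
  val := π⁻¹.permMatrix F
  inv := π.permMatrix F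
  val_inv := by rw [← permMatrix_mul, mul_inv_cancel, permMatrix_one]
  inv_val := by rw [← permMatrix_mul, inv_mul_cancel, permMatrix_one]

omit [Fintype F] hF in
theorem permG_mulVec (π : Equiv.Perm κ) (v : κ → F) :
    ((permG F π : GL κ F) : Matrix κ κ F) *ᵥ v = v ∘ π.symm := permMatrix_mulVec _

omit [Fintype F] hF in
theorem permG_apply (π : Equiv.Perm κ) (k l : κ) :
    ((permG F π : GL κ F) : Matrix κ κ F) k l = if k = π l then 1 else 0 := by
  have := congrFun (permG_mulVec (F := F) π (Pi.single l 1)) k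
  rw [mulVec_single_one] at this
  change _ = (Pi.single l (1 : F) : κ → F) (π.symm k) at this
  rw [Pi.single_apply] at this
  simp only [Equiv.symm_apply_eq] at this
  exact this

omit [Fintype F] hF in
theorem blockMono_permG (π : Equiv.Perm κ) :
    BlockMono id π ((permG F π : GL κ F) : Matrix κ κ F) := fun k l hkl => by
  rw [permG_apply]; exact if_neg hkl

omit [Fintype F] hF in
theorem det_permG (π : Equiv.Perm κ) :
    ((permG F π : GL κ F) : Matrix κ κ F).det = ((Equiv.Perm.sign π : ℤ) : F) := by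
  change (π⁻¹.permMatrix F).det = _
  rw [det_permutation, Equiv.Perm.sign_inv]

omit [Fintype F] hF in
theorem permG_mem_isoG (s : F ≃+* F) (π : Equiv.Perm κ) : permG F π ∈ isoG (sumHerm κ s) :=
  fun u v => by
    change sumHerm κ s (((permG F π : GL κ F) : Matrix κ κ F) *ᵥ u)
      (((permG F π : GL κ F) : Matrix κ κ F) *ᵥ v) = _
    rw [permG_mulVec, permG_mulVec]
    exact Equiv.sum_comp π.symm fun k => u k * s (v k)

theorem permG_mem_SUK_two (hq : q = 2) (π : Equiv.Perm κ) : permG F π ∈ SUK κ F q := by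
  refine ⟨permG_mem_isoG _ π, mem_sl.2 ?_⟩
  rw [det_permG]
  rcases Int.units_eq_one_or (Equiv.Perm.sign π) with h | h <;> rw [h]
  · simp
  · have := two_eq_zero_two (F := F) hq
    push_cast
    linear_combination -this

theorem exists_omega (hq : q = 2) : ∃ ω : Fˣ, ω ≠ 1 ∧ ω ^ 3 = 1 := by
  have hc : 2 < Fintype.card F := by rw [hF.out, hq]; norm_num
  obtain ⟨a, h0, h1⟩ : ∃ a : F, a ≠ 0 ∧ a ≠ 1 := by
    classical
    by_contra hc'
    push Not at hc'
    have : (Finset.univ : Finset F) ⊆ {0, 1} := fun a _ => by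
      by_cases h : a = 0 <;> simp [h, hc' a]
    have h2 := (Finset.card_le_card this).trans (Finset.card_le_two)
    rw [Finset.card_univ] at h2
    omega
  exact ⟨Units.mk0 a h0, fun h => h1 (congrArg Units.val h),
    Units.ext (by simpa using pow_three_eq_one hq h0)⟩

theorem lt_lt_of {G : Type*} [Group G] {S X M : Subgroup G} (hM : X ⊓ S ≤ M) (hS : ¬ S ≤ M)
    {g : G} (hg : g ∈ S) (hgM : g ∈ M) (hgX : g ∉ X) : ∃ K, X ⊓ S < K ∧ K < S :=
  ⟨M ⊓ S, lt_of_le_of_ne (le_inf hM inf_le_right) fun h => hgX (h.ge ⟨hgM, hg⟩).1,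
    lt_of_le_of_ne inf_le_right fun h => hS (h.ge.trans inf_le_left)⟩

theorem planes_not_maximal (hq : q = 2) (hn : 3 ≤ n) {t : ℕ} {D : Fin t → Submodule F (Fin n → F)}
    (hD : IsNondegenerateMDecomposition 𝐡 2 D) :
    ∃ K, decompositionStabilizer D ⊓ SUG n F q < K ∧ K < SUG n F q := by
  have hc := card_eq_of_dec hD.decomp
  have h2 := hD.decomp.two_le
  rw [Fintype.card_fin] at hc
  let e : Fin n ≃ Fin t × Fin 2 := Fintype.equivOfCardEq (by rw [hc]; simp)
  obtain ⟨P, h1, hP⟩ := exists_adapted_isONF isSesq_herm hD e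
  let i0 : Fin t := ⟨0, by omega⟩
  let i1 : Fin t := ⟨1, by omega⟩
  have h01 : i0 ≠ i1 := by simp [i0, i1]
  let π : Equiv.Perm (Fin t × Fin 2) := Equiv.swap (i0, 0) (i1, 0)
  refine lt_lt_of (M := decompositionStabilizer (coordDec e P e.symm)) (fun g hg => ?_)
    (not_SUG_le_decStab hn (nondegDec_frame hP (by omega) _)) (g := frmG e P (permG F π))
    (hP.mem_SUG.2 (permG_mem_SUK_two hq π)) (mono_mem_frame (by omega) e P _ (blockMono_permG π))
    fun hg => ?_
  · obtain ⟨G, rfl⟩ := (frmG e P).surjective g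
    obtain ⟨s, hs⟩ := h1.blockMono hg.1
    rw [MulEquiv.symm_apply_apply] at hs
    obtain ⟨π, hπ⟩ := mono_of_block_two hq (hP.mem_isoG.1 hg.2.1) hs
    exact mono_mem_frame (by omega) e P _ hπ
  · obtain ⟨s, hs⟩ := h1.blockMono hg
    rw [MulEquiv.symm_apply_apply] at hs
    have h3 : i1 = s i0 := by
      by_contra h
      have := hs (i1, 0) (i0, 0) h
      simp [permG_apply, π] at this
    have h4 : i0 = s i0 := by
      by_contra h
      have := hs (i0, 1) (i0, 1) h
      rw [permG_apply, if_pos] at this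
      · exact one_ne_zero this
      · rw [Equiv.swap_apply_of_ne_of_ne] <;> simp
    exact h01 (h4.trans h3.symm)

theorem tensor_two_not_maximal (hq : q = 2) {b : ℕ} (hb : 2 ≤ b) {e : Fin n ≃ Fin 2 × Fin b}
    {P : GL (Fin n) F} {f₁ : (Fin 2 → F) → (Fin 2 → F) → F} {f₂ : (Fin b → F) → (Fin b → F) → F}
    (h₁ : IsUnitaryFormPow q f₁) (h₂ : IsUnitaryFormPow q f₂)
    (h : IsTensorFormStructure (fun x : F => x ^ q) 𝐡 f₁ f₂ e P) :
    ∃ K, tensorProductSubgroup 2 b e P ⊓ SUG n F q < K ∧ K < SUG n F q := by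
  have hn : n = 2 * b := by simpa using Fintype.card_congr e
  obtain ⟨P', c, hc, h3, h4⟩ := tensor_std (isSesq_of_pow h₁) (isSesq_of_pow h₂) h
  have hD := nondegDec_coordDec le_rfl (by omega : 0 < b) hc h3
  obtain ⟨ω, hω1, hω3⟩ := exists_omega (F := F) hq
  let j0 : Fin b := ⟨0, by omega⟩
  let j1 : Fin b := ⟨1, by omega⟩
  have h01 : j0 ≠ j1 := by simp [j0, j1]
  let d : Fin 2 × Fin b → Fˣ := Pi.mulSingle (0, j0) ω * Pi.mulSingle (0, j1) ω⁻¹
  have hd : diagG d ∈ SUK (Fin 2 × Fin b) F q :=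
    diagG_mem_SUK (fun k => norm_eq_one_two hq (d k).ne_zero) (by
      simp only [d, Pi.mul_apply, Finset.prod_mul_distrib, Finset.prod_pi_mulSingle',
        Finset.mem_univ, if_true, mul_inv_cancel])
  refine lt_lt_of (M := decompositionStabilizer (coordDec e P' Prod.fst)) (fun g hg => ?_)
    (not_SUG_le_decStab (by omega) hD) (g := frmG e P' (diagG d))
    ⟨(frmG_mem_isoG hc h3).2 hd.1, (frmG_mem_sl e P').2 hd.2⟩
    ((adapted_coordDec e P' _).mem_decStab hD.decomp (blockMono_diagG _ d)) fun hg => ?_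
  · obtain ⟨x, y, hxy⟩ := mem_tensorProductSubgroup.1 (h4 hg.1)
    have hx := (tensor_sim isSesq_herm two_pos (by omega) isSesq_herm isSesq_herm
      (gram_tensor_std hc h3)
      ⟨1, fun u v => by rw [Units.val_one, one_mul]; exact hg.2.1 u v⟩ hxy).1
    obtain ⟨π, hπ⟩ := mono_two hq (sim_le_isoG hq isSesq_herm hx)
    obtain rfl : g = frmG e P' (kronG x y) := Units.ext hxy
    refine (adapted_coordDec e P' _).mem_decStab hD.decomp
      (show BlockMono _ π _ from fun k l hkl => ?_)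
    change (x : Matrix (Fin 2) (Fin 2) F) k.1 l.1 * _ = 0
    rw [hπ k.1 l.1 hkl, zero_mul]
  · obtain ⟨x, y, hxy⟩ := mem_tensorProductSubgroup.1 (h4 hg)
    have h5 := (frm e P').injective hxy
    have h6 : ∀ i j, (d (i, j) : F) = (x : Matrix (Fin 2) (Fin 2) F) i i *
        (y : Matrix (Fin b) (Fin b) F) j j := fun i j => by
      have := congrFun (congrFun h5 (i, j)) (i, j)
      rwa [coe_diagG, diagonal_apply_eq] at this
    have h7 : d (0, j0) * d (1, j1) = d (0, j1) * d (1, j0) :=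
      Units.ext (by rw [Units.val_mul, Units.val_mul, h6, h6, h6, h6]; ring)
    simp only [d, Pi.mul_apply, Pi.mulSingle_apply, Prod.mk.injEq, h01, h01.symm, and_false,
      and_true, if_true, if_false, one_ne_zero, mul_one, one_mul] at h7
    apply hω1
    rw [pow_succ, sq] at hω3
    nth_rewrite 1 [h7] at hω3
    simpa using hω3

end Cfsg.Agent.H10
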