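import Cfsg.Agent.H10.P3Stb
import Cfsg.Agent.H98.FieldSub
import Cfsg.Agent.H29.Transport

/-!
The normalisers of the linear and unitary subfield subgroups and arithmetic conditions.
-/

set_option autoImplicit false

open Matrix Subgroup
open scoped MatrixGroups

namespace Cfsg.Agent.H10.P3

variable {K : Type*} [Field K] {Γ X : Type*} [Group Γ] [Group X] {ρ : Γ →* M3 K} {π : Γ →* X}

theorem iter_pow {Ψ : (M3 K)ˣ → (M3 K)ˣ} {r : ℕ} (h : ∀ u i j, (Ψ u).val i j = u.val i j ^ r)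
    (n : ℕ) (u : (M3 K)ˣ) (i j : Fin 3) : (Ψ^[n] u).val i j = u.val i j ^ r ^ n := by
  induction n with
  | zero => simp
  | succ n ih => rw [Function.iterate_succ_apply', h, ih, ← pow_mul, ← pow_succ]

theorem subfield_card [Fintype K] {p α : ℕ} [hp : Fact p.Prime] (hF : Fintype.card K = p ^ α)
    (K0 : Subfield K) : ∃ (F : Type) (_ : Field F) (_ : Fintype F) (β n : ℕ),
      Nonempty (K0 ≃+* F) ∧ Fintype.card F = p ^ β ∧ Nat.card K0 = p ^ β ∧ α = β * n := by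
  obtain ⟨F, _, _, ⟨e⟩⟩ := H28.exists_small_field K0
  have h1 := H28.card_eq_pow_subfield K0
  rw [Nat.card_eq_fintype_card, hF] at h1
  obtain ⟨β, -, h2⟩ := (Nat.dvd_prime_pow hp.out).1
    (h1 ▸ dvd_pow_self _ Module.finrank_pos.ne' : Nat.card K0 ∣ p ^ α)
  rw [h2, ← pow_mul] at h1
  exact ⟨F, inferInstance, inferInstance, β, _, ⟨e⟩,
    by rw [← h2, Nat.card_congr e.toEquiv, Nat.card_eq_fintype_card], h2,
    Nat.pow_right_injective hp.out.two_le h1⟩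

theorem det_conj {u : (M3 K)ˣ} (h : u.val.det = 1) (B : (M3 K)ˣ) : (B⁻¹ * u * B).val.det = 1 := by
  rw [Units.val_mul, Units.val_mul, det_mul, det_mul, h, mul_one, ← det_mul, Units.inv_mul, det_one]

namespace Hyp

variable [Fintype K] {p α : ℕ} [hp : Fact p.Prime] {E : Type*} [Group E] {ν : E →* (M3 K)ˣ}
  {L : Subgroup E}

theorem sl_norm (h : Hyp ρ π) (hF : Fintype.card K = p ^ α) (e : IsSL ρ)
    (hd : ∀ e, (ν e).val.det = 1) (hn : ∀ e, Nrm ρ (ν e)) (hL : ∀ e, e ∈ L ↔ Inn ρ (ν e)) :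
    ∃ (F : Type) (_ : Field F) (_ : Fintype F) (β : ℕ), Fintype.card F = p ^ β ∧ β ∣ α ∧
      Nonempty (X ≃* PSL(3, F)) ∧ (L = ⊤ ∨ (L.index = 3 ∧ 3 ∣ p ^ β - 1 ∧ 3 * β ∣ α)) := by
  haveI : CharP K p := charP_of_card_eq_prime_pow hF
  obtain ⟨K0, B, h1, ⟨e⟩⟩ := h.sl_mat e
  obtain ⟨F, _, _, β, n, ⟨f⟩, c1, c2, rfl⟩ := subfield_card hF K0
  refine ⟨F, inferInstance, inferInstance, β, c1, dvd_mul_right _ _,
    ⟨e.trans (H9.pslMapEquiv f)⟩, ?_⟩
  let Θ := (P3.ext (iterateFrobenius K p β) (Units.coeHom _)).toHomUnits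
  have hΘ : ∀ u i j, (Θ u).val i j = u.val i j ^ p ^ β := fun _ _ _ => rfl
  refine ((h.cnj B).steinberg ((MulAut.conj B⁻¹).toMonoidHom.comp ν) (fun e => det_conj (hd e) B)
    (fun e => (hn e).cnj B) Θ (p ^ β) (fun u hu => ?_) (fun u hu => ?_) (fun c u u' _ e => ?_) L
    fun e => (hL e).trans (inn_cnj B).symm).imp_right fun ⟨a, b, c⟩ => ⟨a, by omega, ?_⟩
  · rw [h1, Units.ext_iff, ← Matrix.ext_iff]
    simp only [hu, and_true, hΘ]
    exact forall₂_congr fun i j => by rw [H98.mem_subfield_iff_pow, c2]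
  · exact ((RingHom.map_det (iterateFrobenius K p β) u.val).symm.trans (by rw [hu, map_one]) :)
  · ext i j
    simp [hΘ, e, mul_pow]
  · rw [mul_comm 3]
    exact Nat.mul_dvd_mul_left β (c n fun u => Units.ext (Matrix.ext fun i j => by
      rw [iter_pow hΘ, ← pow_mul, ← hF, FiniteField.pow_card]))

theorem su_norm (h : Hyp ρ π) (hF : Fintype.card K = p ^ α) (e : IsSU ρ)
    (hd : ∀ e, (ν e).val.det = 1) (hn : ∀ e, Nrm ρ (ν e)) (hL : ∀ e, e ∈ L ↔ Inn ρ (ν e)) :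
    ∃ (F : Type) (_ : Field F) (_ : Fintype F) (β : ℕ), Fintype.card F = p ^ (2 * β) ∧ 2 * β ∣ α ∧
      Nonempty (X ≃* PSU 3 F (p ^ β)) ∧
        (L = ⊤ ∨ (L.index = 3 ∧ 3 ∣ p ^ β + 1 ∧ 6 * β ∣ α)) := by
  haveI : CharP K p := charP_of_card_eq_prime_pow hF
  obtain ⟨K0, q, B, hq, -, h1, ⟨e⟩⟩ := h.su_mat e
  obtain ⟨F, _, _, γ, n, ⟨f⟩, c1, c2, rfl⟩ := subfield_card hF K0
  obtain ⟨β, -, rfl⟩ := (Nat.dvd_prime_pow hp.out).1
    (hq.symm.trans c2 ▸ dvd_pow_self q two_ne_zero : q ∣ p ^ γ)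
  obtain rfl : γ = 2 * β := Nat.pow_right_injective hp.out.two_le (by
    simp only; rw [← c2, hq, ← pow_mul, mul_comm])
  refine ⟨F, inferInstance, inferInstance, β, c1, dvd_mul_right _ _,
    ⟨e.trans (H29.psuEquiv 3 _ f)⟩, ?_⟩
  let φ := iterateFrobenius K p β
  let Θ := (P3.dual (P3.ext φ (Units.coeHom _))).toHomUnits
  have hΘ : ∀ u, (Θ u).val = (u⁻¹.val.map φ)ᵀ := fun _ => rfl
  have h2 : ∀ u i j, (Θ^[2] u).val i j = u.val i j ^ p ^ (2 * β) := fun u i j => by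
    change (Θ (Θ u)).val i j = _
    rw [hΘ, ← map_inv, hΘ, inv_inv, two_mul, pow_add, pow_mul]; rfl
  refine ((h.cnj B).steinberg ((MulAut.conj B⁻¹).toMonoidHom.comp ν) (fun e => det_conj (hd e) B)
    (fun e => (hn e).cnj B) Θ (2 * p ^ β) (fun u hu => ?_) (fun u hu => ?_) (fun c u u' h3 e => ?_)
    L fun e => (hL e).trans (inn_cnj B).symm).imp_right fun ⟨a, b, c⟩ => ⟨a, by omega, ?_⟩
  · have m : u⁻¹.val.map φ * u.val.map φ = 1 := by rw [← Matrix.map_mul]; simp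
    rw [h1]
    refine ⟨fun e => ⟨fun i j => ?_, hu, ?_⟩, fun ⟨_, _, e⟩ => Units.ext ?_⟩
    · rw [H98.mem_subfield_iff_pow, c2, ← h2, Function.iterate_fixed e]
    · rw [← m]; congr 1
      rw [← e, hΘ, transpose_transpose, e]
    · rw [hΘ, ← one_mul (u⁻¹.val.map φ), ← e, mul_assoc]
      exact (congrArg (fun M => (u.valᵀ * M)ᵀ) (mul_eq_one_comm.1 m)).trans (by simp)
  · have : u⁻¹.val.det = 1 := by
      rw [← det_one (n := Fin 3), ← u.inv_mul, det_mul, hu, mul_one]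
    rw [hΘ, det_transpose, ← RingHom.mapMatrix_apply, ← RingHom.map_det, this, map_one]
  · have : u⁻¹.val = c ^ 2 • u'⁻¹.val := Units.inv_eq_of_mul_eq_one_right (by
      rw [e, smul_mul_smul_comm, ← pow_succ', h3, Units.mul_inv, one_smul])
    ext i j
    simp [hΘ, -Units.val_inv_eq_inv_val, -coe_units_inv, this, φ, iterateFrobenius_def, mul_pow,
      pow_mul]
  · have := c (2 * n) fun u => Units.ext (Matrix.ext fun i j => by
      rw [Function.iterate_mul, iter_pow h2, ← pow_mul, ← hF, FiniteField.pow_card])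
    obtain ⟨k, rfl⟩ : 3 ∣ n := by omega
    exact ⟨k, by ring⟩

omit hp in
theorem trace_card (g : Γ) : (ρ (g ^ Fintype.card K)).trace = (ρ g).trace := by
  rw [map_pow, FiniteField.trace_pow_card, FiniteField.pow_card]

theorem l7_card [Finite X] (h : Hyp ρ π) (e : IsL7 X) (h7 : (7 : K) ≠ 0) :
    Fintype.card K ^ 3 % 7 = 1 := by
  obtain ⟨a, b, -, -, -, -, u7, u1, -⟩ := l7_gen
  obtain ⟨g, hg⟩ := h.surj (e.some.symm (a * b))
  have g7 : g ^ 7 = 1 := h.l7_ker e (by rw [map_pow, hg, ← map_pow, u7, map_one])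
  have h1 : ¬ (_ ∨ _ ∨ _) := fun c => h.l7_ne e h7 g7 (fun e1 => u1
    (e.some.symm.map_eq_one_iff.1 (by rw [← hg, e1, map_one])))
    (((h.l7_seven e g7).2 c).symm.trans (trace_card g))
  have h2 : Fintype.card K % 7 ≠ 0 := fun c => h7 (by
    obtain ⟨k, hk⟩ := Nat.dvd_of_mod_eq_zero c
    obtain ⟨p, hp⟩ := CharP.exists K
    obtain ⟨n, hp', e⟩ := FiniteField.card K p
    obtain rfl := (Nat.prime_dvd_prime_iff_eq (by norm_num) hp').1
      ((by norm_num : Nat.Prime 7).dvd_of_dvd_pow (e ▸ ⟨k, hk⟩ : 7 ∣ p ^ (n : ℕ)))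
    exact CharP.cast_eq_zero K 7)
  rw [Nat.pow_mod]
  rcases (by omega : Fintype.card K % 7 = 1 ∨ Fintype.card K % 7 = 2 ∨ Fintype.card K % 7 = 4)
    with e | e | e <;> rw [e]

theorem a6_card (h : Hyp ρ π) (e : IsAlt 6 X) (h5 : (5 : K) ≠ 0) :
    ¬ (Fintype.card K % 5 = 2 ∨ Fintype.card K % 5 = 3) := fun c => by
  obtain ⟨g, eg, hg⟩ := h.exists_lift (x := e.some.symm (a6a * a6b)) (n := 5) (by norm_num)
    (by rw [← map_pow, a6_five.2.1, map_one])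
  exact (h.a6_ne e h5 hg fun e1 => a6_five.1
    (e.some.symm.map_eq_one_iff.1 (by rw [← eg, e1, map_one]))).2 _ c (trace_card g)

end Hyp

theorem card_mod_three [Fintype K] (h : ∃ ω : K, ω ^ 3 = 1 ∧ ω ≠ 1) : Fintype.card K % 3 = 1 := by
  obtain ⟨ω, h1, h2⟩ := h
  haveI : Fact (Nat.Prime 3) := ⟨Nat.prime_three⟩
  have h3 := orderOf_dvd_of_pow_eq_one
    (FiniteField.pow_card_sub_one_eq_one ω (by rintro rfl; simp at h1))
  rw [orderOf_eq_prime h1 h2] at h3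
  have := Fintype.one_lt_card (α := K)
  omega

end Cfsg.Agent.H10.P3
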