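import Cfsg.Agent.H10.P3SL

/-!
A triangle of centres with all root groups non-trivial forces `SL₃(K₀)`.
-/

set_option autoImplicit false

open Matrix
open scoped MatrixGroups

namespace Cfsg.Agent.H10.P3

variable {K : Type*} [Field K] {Γ X : Type*} [Group Γ] [Group X]
variable {ρ : Γ →* M3 K} {π : Γ →* X} {v w x φ ψ χ : V3 K}

theorem third (i j : Fin 3) (h : i ≠ j) : ∃ k : Fin 3, k ≠ i ∧ k ≠ j := by
  revert i j; decide

theorem dot_three {i j k : Fin 3} (h1 : i ≠ j) (h2 : k ≠ i) (h3 : k ≠ j) (a b : V3 K) :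
    a ⬝ᵥ b = a i * b i + a j * b j + a k * b k := by
  fin_cases i <;> fin_cases j <;> fin_cases k <;>
    first | exact absurd rfl h1 | exact absurd rfl h2 | exact absurd rfl h3 |
      (simp [dotProduct, Fin.sum_univ_three]; try ring)

theorem eq_of_three {i j k : Fin 3} (h1 : i ≠ j) (h2 : k ≠ i) (h3 : k ≠ j) (m : Fin 3) :
    m = i ∨ m = j ∨ m = k := by
  revert i j k m; decide

/-- The root group in position `(i, j)`. -/
def Rt (ρ : Γ →* M3 K) (i j : Fin 3) (a : K) : Prop := T ρ (ee i) (a • ee j)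

theorem Rt.mul {i j k : Fin 3} (hik : k ≠ i) {a b : K} (ha : Rt ρ i j a) (hb : Rt ρ j k b) :
    Rt ρ i k (a * b) := by
  have := T.comm hb ha (by simp [hik])
  simpa [Rt, smul_smul] using this

theorem exists_rt (hA : AdjP ρ) (hm : ∀ i, Multi ρ (ee i)) {i j : Fin 3} (h : i ≠ j) :
    ∃ a, a ≠ 0 ∧ Rt ρ i j a := by
  obtain ⟨k, h1, h2⟩ := third i j h
  obtain ⟨χ, c1, c2, c0⟩ := hA.adj (hm i) (hm k)
    (not_smul_of_dot (ψ := ee i) (by simp [h1]) (by simp))
  have e : χ = χ j • ee j := by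
    ext m
    rcases eq_of_three h h1 h2 m with rfl | rfl | rfl
    · simpa [h] using c1.1
    · simp
    · simpa [h2] using c2
  exact ⟨χ j, fun e0 => c0 (by rw [e, e0, zero_smul]), by rw [Rt, ← e]; exact c1⟩

/-- The multiplier field of an additive subgroup of a finite field. -/
def mulField [Finite K] (P : K → Prop) (h0 : P 0) (ha : ∀ a b, P a → P b → P (a + b))
    (hn : ∀ a, P a → P (-a)) : Subfield K where
  carrier := {r | ∀ x, P x → P (r * x)}
  mul_mem' := fun {a b} ha hb x hx => by rw [mul_assoc]; exact ha _ (hb _ hx)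
  one_mem' := fun x hx => by rwa [one_mul]
  add_mem' := fun {a b} h1 h2 x hx => by rw [add_mul]; exact ha _ _ (h1 _ hx) (h2 _ hx)
  zero_mem' := fun x _ => by rwa [zero_mul]
  neg_mem' := fun {a} h1 x hx => by rw [neg_mul]; exact hn _ (h1 _ hx)
  inv_mem' := fun a h1 => by
    by_cases h : a = 0
    · intro x _; rwa [h, _root_.inv_zero, zero_mul]
    have hp : ∀ n : ℕ, ∀ x, P x → P (a ^ n * x) := fun n => by
      induction n with
      | zero => intro x hx; rwa [pow_zero, one_mul]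
      | succ n ih => intro x hx; rw [pow_succ', mul_assoc]; exact h1 _ (ih _ hx)
    have hfin : IsOfFinOrder (Units.mk0 a h) := isOfFinOrder_of_finite _
    obtain ⟨n, hn0, hn⟩ := isOfFinOrder_iff_pow_eq_one.1 hfin
    have e : a ^ n = 1 := by simpa using congrArg Units.val hn
    have : a⁻¹ = a ^ (n - 1) := inv_eq_of_mul_eq_one_right (by
      rw [← pow_succ', Nat.sub_add_cancel hn0, e])
    rw [this]
    exact hp _

theorem exists_root_field [Finite K] (hA : AdjP ρ) (hm : ∀ i, Multi ρ (ee i))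
    (h01 : T ρ (ee 0) (ee 1)) (h12 : T ρ (ee 1) (ee 2)) :
    ∃ K0 : Subfield K, ∀ i j, i ≠ j → ∀ a, Rt ρ i j a ↔ a ∈ K0 := by
  let K0 : Subfield K := mulField (Rt ρ 0 2) (by simpa [Rt] using T.zero ρ _)
    (fun a b ha hb => by simpa [Rt, add_smul] using T.add ha hb)
    (fun a ha => by simpa [Rt] using T.neg ha)
  have hK : ∀ r, r ∈ K0 ↔ ∀ x, Rt ρ 0 2 x → Rt ρ 0 2 (r * x) := fun r => Iff.rfl
  have r01 : Rt ρ 0 1 1 := by simpa [Rt] using h01
  have r12 : Rt ρ 1 2 1 := by simpa [Rt] using h12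
  have r02 : Rt ρ 0 2 1 := by simpa using r01.mul (by decide) r12
  obtain ⟨b, b0, hb⟩ := exists_rt hA hm (i := 1) (j := 0) (by decide)
  obtain ⟨c, c0, hc⟩ := exists_rt hA hm (i := 2) (j := 1) (by decide)
  obtain ⟨e, e0, he⟩ := exists_rt hA hm (i := 2) (j := 0) (by decide)
  have m1 : ∀ a b, Rt ρ 0 1 a → Rt ρ 1 0 b → a * b ∈ K0 := fun a b ha hb => (hK _).2 fun x hx =>
    by rw [mul_assoc]; exact ha.mul (by decide) (hb.mul (by decide) hx)
  have m2 : ∀ a b, Rt ρ 2 1 a → Rt ρ 1 2 b → a * b ∈ K0 := fun a b ha hb => (hK _).2 fun x hx =>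
    by rw [mul_comm, ← mul_assoc]; exact (hx.mul (by decide) ha).mul (by decide) hb
  have dv : ∀ a b : K, b ≠ 0 → b ∈ K0 → a * b ∈ K0 → a ∈ K0 := fun a b h0 h1 h2 => by
    simpa [h0] using K0.div_mem h2 h1
  have f10 : ∀ a, Rt ρ 1 0 a → a ∈ K0 := fun a ha => by simpa using m1 _ _ r01 ha
  have f01 : ∀ a, Rt ρ 0 1 a → a ∈ K0 := fun a ha => dv _ _ b0 (f10 _ hb) (m1 _ _ ha hb)
  have f21 : ∀ a, Rt ρ 2 1 a → a ∈ K0 := fun a ha => by simpa using m2 _ _ ha r12
  have f12 : ∀ a, Rt ρ 1 2 a → a ∈ K0 := fun a ha =>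
    dv _ _ c0 (f21 _ hc) (mul_comm c a ▸ m2 _ _ hc ha)
  have f02 : ∀ a, Rt ρ 0 2 a → a ∈ K0 := fun a ha =>
    dv _ _ c0 (f21 _ hc) (f01 _ (ha.mul (by decide) hc))
  have f20 : ∀ a, Rt ρ 2 0 a → a ∈ K0 := fun a ha => by
    simpa using f10 _ (r12.mul (by decide) ha)
  have g02 : ∀ a ∈ K0, Rt ρ 0 2 a := fun a ha => by simpa using (hK a).1 ha _ r02
  have g01 : ∀ a ∈ K0, Rt ρ 0 1 a := fun a ha => by
    simpa [c0] using (g02 _ (K0.div_mem ha (f21 _ hc))).mul (by decide) hc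
  have g12 : ∀ a ∈ K0, Rt ρ 1 2 a := fun a ha => by
    simpa [b0, mul_div_cancel₀] using hb.mul (by decide) (g02 _ (K0.div_mem ha (f10 _ hb)))
  have g10 : ∀ a ∈ K0, Rt ρ 1 0 a := fun a ha => by
    simpa [e0] using (g12 _ (K0.div_mem ha (f20 _ he))).mul (by decide) he
  have g21 : ∀ a ∈ K0, Rt ρ 2 1 a := fun a ha => by
    simpa [e0, mul_div_cancel₀] using he.mul (by decide) (g01 _ (K0.div_mem ha (f20 _ he)))
  have g20 : ∀ a ∈ K0, Rt ρ 2 0 a := fun a ha => by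
    simpa using (g21 _ ha).mul (by decide) (g10 _ K0.one_mem)
  refine ⟨K0, fun i j hij a => ?_⟩
  fin_cases i <;> fin_cases j <;> first | exact absurd rfl hij | skip
  exacts [⟨f01 a, g01 a⟩, ⟨f02 a, g02 a⟩, ⟨f10 a, g10 a⟩, ⟨f12 a, g12 a⟩, ⟨f20 a, g20 a⟩,
    ⟨f21 a, g21 a⟩]

section Rat

variable {K0 : Subfield K} (hK : ∀ i j, i ≠ j → ∀ a, Rt ρ i j a ↔ a ∈ K0)
include hK

theorem rat_ee {i : Fin 3} (h : T ρ (ee i) φ) (j : Fin 3) : φ j ∈ K0 := by
  by_cases hij : i = j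
  · subst hij
    have : φ i = 0 := by simpa using h.1
    exact this ▸ K0.zero_mem
  obtain ⟨k, h1, h2⟩ := third i j hij
  have := T.comm ((hK j k h2.symm 1).2 K0.one_mem) h (by simp [h1])
  exact (hK i k h1.symm _).1 (by simpa [Rt] using this)

theorem rat_norm {m : Fin 3} (hv : ∀ j, v j ∈ K0) (hm : v m = 1) (h : T ρ v φ) (j : Fin 3) :
    φ j ∈ K0 := by
  obtain ⟨i, him⟩ := exists_ne m
  obtain ⟨k, h1, h2⟩ := third i m him
  have t1 := T.act ((hK i m him _).2 (K0.neg_mem (hv i))) h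
  have t2 := T.act ((hK k m h2 _).2 (K0.neg_mem (hv k))) t1
  have e : v + ((-v i • ee m : V3 K) ⬝ᵥ v) • ee i + ((-v k • ee m : V3 K) ⬝ᵥ
      (v + ((-v i • ee m : V3 K) ⬝ᵥ v) • ee i)) • ee k = ee m := by
    ext n
    rcases eq_of_three him h1 h2 n with rfl | rfl | rfl <;>
      simp [hm, him, him.symm, h1, h1.symm, h2, h2.symm]
  rw [e] at t2
  have a1 : φ i ∈ K0 := by simpa [him] using rat_ee hK t2 i
  have a2 : φ k ∈ K0 := by simpa [h2] using rat_ee hK t2 k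
  rcases eq_of_three him h1 h2 j with rfl | rfl | rfl
  · exact a1
  · have := h.1
    rw [dot_three him h1 h2, hm] at this
    rw [show φ j = -(φ i * v i + φ k * v k) by linear_combination this]
    exact K0.neg_mem (K0.add_mem (K0.mul_mem a1 (hv i)) (K0.mul_mem a2 (hv k)))
  · exact a2

theorem rat_tv (hA : AdjP ρ) (hm : ∀ i, Multi ρ (ee i)) (h : T ρ v φ) (i j : Fin 3) :
    v i * φ j ∈ K0 := by
  by_cases hv : v = 0
  · simp [hv]
  by_cases hφ : φ = 0
  · simp [hφ]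
  obtain ⟨n, hn⟩ := Function.ne_iff.1 hφ
  obtain ⟨m, hm0⟩ := Function.ne_iff.1 hv
  have hm0 : v m ≠ 0 := hm0
  have mv : Multi ρ v := hA.multi (hm n) h hv (by simpa using hn)
  have key : ∀ j, v j / v m ∈ K0 := by
    intro j
    by_cases hj : j = m
    · rw [hj, div_self hm0]; exact K0.one_mem
    obtain ⟨k, h1, h2⟩ := third j m hj
    obtain ⟨χ, c1, c2, c0⟩ := hA.adj (hm k) mv (not_smul_symm (by simp)
      (not_smul_of_dot (ψ := ee m) (by simp [h2.symm]) (by simpa using hm0)))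
    have ck : χ k = 0 := by simpa using c1.1
    rw [dot_three hj h1 h2, ck, zero_mul, add_zero] at c2
    have cj : χ j ≠ 0 := fun e => c0 (by
      have cm : χ m = 0 := by simpa [e, hm0] using c2
      ext n
      rcases eq_of_three hj h1 h2 n with rfl | rfl | rfl <;> assumption)
    rw [show v j / v m = -(χ m / χ j) by field_simp; linear_combination c2]
    exact K0.neg_mem (K0.div_mem (rat_ee hK c1 m) (rat_ee hK c1 j))
  have h' : T ρ ((v m)⁻¹ • v) (v m • φ) := by rwa [T.smul_iff, inv_smul_smul₀ hm0]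
  have := rat_norm hK (m := m) (fun j => by simpa [div_eq_inv_mul] using key j) (by simp [hm0]) h' j
  convert K0.mul_mem (key i) this using 1
  simp only [Pi.smul_apply, smul_eq_mul]
  field_simp

theorem exists_sl (g0 : SL(3, K0)) : ∃ g, ρ g = (g0 : M3 K0).map K0.subtype := by
  refine H9.sl_transvection_induction (fun g0 : SL(3, K0) => ∃ g, ρ g = (g0 : M3 K0).map K0.subtype)
    ⟨1, by simp⟩ (fun i j hij c => ?_) (fun a b ⟨g, hg⟩ ⟨g', hg'⟩ => ⟨g * g', ?_⟩) g0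
  · obtain ⟨-, g, hg⟩ := (hK i j hij c).2 c.2
    refine ⟨g, ?_⟩
    rw [hg, SpecialLinearGroup.transvection_coe]
    ext a b
    simp only [Matrix.add_apply, vecMulVec_apply, one_apply, Pi.single_apply, single_apply,
      map_apply, Pi.smul_apply, smul_eq_mul, map_add, eq_comm (a := i), eq_comm (a := j)]
    split_ifs <;> simp_all
  · rw [map_mul, hg, hg', ← Matrix.map_mul]; rfl

end Rat

/-- The conclusion: the group is a conjugate of `SL₃(K₀)`. -/
def IsSL (ρ : Γ →* M3 K) : Prop :=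
  ∃ (K0 : Subfield K) (B : (M3 K)ˣ), (∀ g i j, cnj ρ B g i j ∈ K0) ∧
    ∀ g0 : SL(3, K0), ∃ g, cnj ρ B g = (g0 : M3 K0).map K0.subtype

theorem isSL_of_adj [Finite K] (h : Hyp ρ π) (hA : AdjP ρ) (hv : Multi ρ v) : IsSL ρ := by
  obtain ⟨B, hm, h01, h12⟩ := exists_triangle h hA hv
  obtain ⟨K0, hK⟩ := exists_root_field (hA.cnj B) hm h01 h12
  refine ⟨K0, B, fun g => ?_, exists_sl hK⟩
  refine (h.cnj B).tv_induction h01 (by simp) (by simp) (fun M => ∀ i j, M i j ∈ K0) ?_ ?_ ?_ g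
  · intro i j
    rw [one_apply]
    split_ifs
    exacts [K0.one_mem, K0.zero_mem]
  · intro a b ha hb i j
    rw [Matrix.mul_apply]
    exact K0.sum_mem fun k _ => K0.mul_mem (ha i k) (hb k j)
  · intro w ψ hT i j
    rw [Matrix.add_apply, vecMulVec_apply, one_apply]
    refine K0.add_mem ?_ (rat_tv hK (hA.cnj B) hm hT i j)
    split_ifs
    exacts [K0.one_mem, K0.zero_mem]

theorem IsSL.of_dual (h : IsSL (dual ρ)) : IsSL ρ := by
  obtain ⟨K0, B, h1, h2⟩ := h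
  let B' : (M3 K)ˣ := ⟨B⁻¹.valᵀ, B.valᵀ, by rw [← transpose_mul, Units.mul_inv, transpose_one],
    by rw [← transpose_mul, Units.inv_mul, transpose_one]⟩
  have e : ∀ g, cnj ρ B' g = (cnj (dual ρ) B g⁻¹)ᵀ := fun g => by
    simp only [cnj_apply, dual_apply, inv_inv, transpose_mul, transpose_transpose, mul_assoc]
    rfl
  refine ⟨K0, B', fun g i j => by rw [e]; exact h1 _ _ _, fun g0 => ?_⟩
  obtain ⟨g, hg⟩ := h2 g0.transpose
  exact ⟨g⁻¹, by rw [e, inv_inv, hg]; rfl⟩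

end Cfsg.Agent.H10.P3
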