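import Cfsg.Agent.H10.P3U2
import Cfsg.Agent.H10.P3SL2

/-!
Irreducible quasisimple subgroups of `SL₃(K)` containing a transvection.
-/

set_option autoImplicit false

open Matrix
open scoped MatrixGroups

namespace Cfsg.Agent.H10.P3

variable {K : Type*} [Field K] {Γ X : Type*} [Group Γ] [Group X]
variable {ρ : Γ →* M3 K} {π : Γ →* X} {v φ : V3 K}

/-- The conclusion: the group is a conjugate of `SU₃(q)`. -/
def IsSU (ρ : Γ →* M3 K) : Prop :=
  ∃ (K1 : Subfield K) (q : ℕ) (B : (M3 K)ˣ), Nat.card K1 = q ^ 2 ∧ 2 < q ∧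
    (∀ g, ∃ a : SU 3 K1 q, cnj ρ B g = (sm a).map K1.subtype) ∧
    ∀ a : SU 3 K1 q, ∃ g, cnj ρ B g = (sm a).map K1.subtype

theorem cnj_mul (ρ : Γ →* M3 K) (B C : (M3 K)ˣ) : cnj ρ (B * C) = cnj (cnj ρ B) C := by
  ext1 g
  simp [cnj_apply, mul_assoc]

theorem ut_conj {F : Type*} [Field F] [Fintype F] {q : ℕ} [Fact (Fintype.card F = q ^ 2)]
    {M : M3 F} {d : F} (hd : d ≠ 0) {P : (M3 F)ˣ} (h : d • M = (P.val.map (cj F q))ᵀ * P.val)
    (z : V3 F) (a : F) :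
    P.val * (1 + a • vecMulVec z ((fun i => cj F q (z i)) ᵥ* M)) * P⁻¹.val =
      unitaryTransvection 3 q (P.val *ᵥ z) (a / d) := by
  have e : M * P⁻¹.val = d⁻¹ • (P.val.map (cj F q))ᵀ := by
    rw [← inv_smul_smul₀ hd M, h, smul_mul_assoc, mul_assoc, Units.mul_inv, mul_one]
  rw [mul_add, add_mul, mul_one, Units.mul_inv, mul_smul_comm, smul_mul_assoc, mul_vecMulVec,
    vecMulVec_mul, vecMul_vecMul, e, vecMul_smul, vecMulVec_smul, smul_smul, unitaryTransvection,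
    div_eq_mul_inv, vecMul_transpose]
  congr 3
  ext i
  exact (RingHom.map_mulVec (cj F q) P.val z i).symm

theorem isSU_of_opp [Finite K] [Finite X] (h : Hyp ρ π) (hO : Opp ρ) (hv : Fl ρ v φ) : IsSU ρ := by
  obtain ⟨K0, hU⟩ := exists_uf h hO hv
  obtain ⟨σ, hσ⟩ := exists_frob K0
  obtain ⟨B, m, hm, hm2, f0, f1, f2⟩ := exists_coord hσ hO hU h hv
  have hc := card_quad hσ hm hm2
  have hA := fun w ψ => coordA (w := w) (ψ := ψ) hσ (hO.cnj B) (hU.cnj B) hm hm2 f0 f1 f2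
  have hq := hU.card
  have hR := (hU.cnj B).root
  have hK : ∀ x, x ∈ (σ.comp σ).eqLocusField (RingHom.id K) ↔ σ (σ x) = x := fun x => Iff.rfl
  have hf := fun x => mem_iff_frob hσ (x := x)
  generalize (σ.comp σ).eqLocusField (RingHom.id K) = K1 at hc hK
  generalize Nat.card K0 = q at hσ hc hq
  have h' := h.cnj B
  refine ⟨K1, q, ?_⟩
  suffices H : ∃ C : (M3 K)ˣ,
      (∀ g, ∃ a : SU 3 K1 q, cnj (cnj ρ B) C g = (sm a).map K1.subtype) ∧
      ∀ a : SU 3 K1 q, ∃ g, cnj (cnj ρ B) C g = (sm a).map K1.subtype by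
    obtain ⟨C, h1, h2⟩ := H
    exact ⟨B * C, hc, hq, by rwa [cnj_mul], by rwa [cnj_mul]⟩
  generalize cnj ρ B = τ at *
  haveI := Fintype.ofFinite K1
  haveI : Fact (Fintype.card K1 = q ^ 2) := ⟨by rw [← hc, Nat.card_eq_fintype_card]⟩
  have hcj : ∀ x : K1, ((cj K1 q x : K1) : K) = σ x := fun x => by rw [hσ, cj_apply]; simp
  let m1 : K1 := ⟨m, (hK _).2 hm2⟩
  let M1 : M3 K1 := !![0, 1, 1; -1, 0, m1; -1, -cj K1 q m1, 0]
  have hd : m1 - cj K1 q m1 ≠ 0 := fun e => hm ((hf _).2 (by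
    rw [← show ((cj K1 q m1 : K1) : K) = σ m from hcj m1, ← sub_eq_zero.1 e]))
  obtain ⟨P, hP⟩ := exists_herm_factor (q := q) (G := (m1 - cj K1 q m1) • M1)
    (by ext i j : 1; fin_cases i <;> fin_cases j <;> simp [M1, cj_cj] <;> ring)
    (by rw [det_smul]
        refine mul_ne_zero (pow_ne_zero _ hd) fun e => hd ?_
        simp [M1, det_fin_three] at e
        linear_combination -e)
  let ι : M3 K1 →* M3 K := (K1.subtype.mapMatrix : M3 K1 →+* M3 K).toMonoidHom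
  have key : ∀ (z : V3 K1) (a : K1),
      ((Units.map ι P⁻¹)⁻¹).val * (1 + (a : K) • vecMulVec (fun i => (z i : K))
        ((fun i => σ (z i)) ᵥ* !![0, 1, 1; -1, 0, m; -1, -σ m, 0])) * (Units.map ι P⁻¹).val =
      (unitaryTransvection 3 q (P.val *ᵥ z) (a / (m1 - cj K1 q m1))).map K1.subtype := by
    intro z a
    rw [← ut_conj hd hP, Matrix.map_mul, Matrix.map_mul, ← map_inv, inv_inv]
    congr 2
    ext i j
    fin_cases j <;>
      simp [M1, m1, hcj, vecMulVec_apply, vecMul, dotProduct, Fin.sum_univ_three, one_apply,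
        apply_ite, vecHead, vecTail]
  generalize Units.map ι P⁻¹ = C at key
  have skw : ∀ a : K1, (a : K) ∈ K0 ↔
      cj K1 q (a / (m1 - cj K1 q m1)) = -(a / (m1 - cj K1 q m1)) := fun a => by
    rw [hf, ← hcj, Subtype.coe_inj, map_div₀, map_sub, cj_cj, ← neg_sub m1, div_neg, neg_inj,
      div_left_inj' hd]
  let S : Subgroup (SU 3 K1 q) :=
    { carrier := {a | ∃ g, cnj τ C g = (sm a).map K1.subtype}
      one_mem' := ⟨1, by simp [sm_one]⟩
      mul_mem' := by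
        rintro a b ⟨g, hg⟩ ⟨k, hk⟩
        exact ⟨g * k, by rw [map_mul, hg, hk, sm_mul, Matrix.map_mul]⟩
      inv_mem' := by
        rintro a ⟨g, hg⟩
        exact ⟨g⁻¹, rho_inv_eq (by rw [hg, ← Matrix.map_mul, sm_mul_inv]; simp)⟩ }
  have iso : ∀ z : V3 K1, ((fun i => σ (z i)) ᵥ* !![0, 1, 1; -1, 0, m; -1, -σ m, 0]) ⬝ᵥ
      (fun i => (z i : K)) = 0 → hermForm 3 K1 q (P.val *ᵥ z) (P.val *ᵥ z) = 0 := by
    intro z hz
    have e : (fun i => cj K1 q ((P.val *ᵥ z) i)) = P.val.map (cj K1 q) *ᵥ fun i => cj K1 q (z i) :=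
      funext fun i => RingHom.map_mulVec (cj K1 q) P.val z i
    rw [herm_dot, e, ← vecMul_transpose, dotProduct_mulVec, vecMul_vecMul, ← hP, vecMul_smul,
      smul_dotProduct, smul_eq_zero]
    right
    apply Subtype.ext
    simpa [M1, m1, hcj, vecMul, dotProduct, Fin.sum_univ_three, vecHead, vecTail] using hz
  refine ⟨C, fun g => ?_, fun a => ?_⟩
  · refine h'.tv_induction f0.1 f0.2.1 f0.2.2 (fun M => ∃ a : SU 3 K1 q,
      C⁻¹.val * M * C.val = (sm a).map K1.subtype)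
      ⟨1, by simp [sm_one]⟩ ?_ ?_ g
    · rintro M N ⟨a, ha⟩ ⟨b, hb⟩
      exact ⟨a * b, by rw [sm_mul, Matrix.map_mul, ← ha, ← hb]; simp [mul_assoc]⟩
    · intro w ψ t
      by_cases w0 : w = 0
      · exact ⟨1, by simp [w0, sm_one]⟩
      by_cases p0 : ψ = 0
      · exact ⟨1, by simp [p0, sm_one]⟩
      obtain ⟨z, a, ha, hz, hi, e⟩ := hA w ψ ⟨t, w0, p0⟩
      have ha' : a ∈ K1 := (hK _).2 (by rw [(hf _).1 ha, (hf _).1 ha])
      refine ⟨utSU (iso (fun i => ⟨z i, (hK _).2 (hz i)⟩) hi) ((skw ⟨a, ha'⟩).1 ha), ?_⟩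
      rw [e, sm_utSU, ← key]
  · have cen : ∀ (i : Fin 3) (φ : V3 K), Fl τ (ee i) φ →
        φ = (fun j => σ ((ee i : V3 K1) j)) ᵥ* !![0, 1, 1; -1, 0, m; -1, -σ m, 0] →
        Cen S (P.val *ᵥ ee i) := by
      intro i φ hφ e
      have ei : (fun j => (((ee i : V3 K1) j : K1) : K)) = ee i := by
        ext j; simp [Pi.single_apply, apply_ite]
      have hi := iso (ee i) (by rw [← e, ei]; exact hφ.1.1)
      refine ⟨fun e => by simpa using units_mulVec_inj P (e.trans (mulVec_zero _).symm), hi,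
        fun c hc => ⟨utSU hi hc, ?_, rfl⟩⟩
      obtain ⟨-, g, hg⟩ := (hR _ _ hφ _).2 ((skw (c * (m1 - cj K1 q m1))).2 (by
        rwa [mul_div_cancel_right₀ _ hd]))
      refine ⟨g, ?_⟩
      rw [cnj_apply, hg, vecMulVec_smul, e, ← ei, key, mul_div_cancel_right₀ _ hd, sm_utSU]
    have top : S = ⊤ := su_top (by omega) (χ := ee 2 ᵥ* P⁻¹.val)
      (cen 0 _ f0 (by ext i; fin_cases i <;> simp [vecMul, dotProduct, Fin.sum_univ_three]))
      (cen 1 _ f1 (by ext i; fin_cases i <;> simp [vecMul, dotProduct, Fin.sum_univ_three]))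
      (cen 2 _ f2 (by ext i; fin_cases i <;> simp [vecMul, dotProduct, Fin.sum_univ_three]))
      (fun c e => by
        rw [← mulVec_smul] at e
        simpa using congrFun (units_mulVec_inj P e) 1)
      (by rw [dot_cnj]; simp) (by rw [dot_cnj]; simp) (by rw [dot_cnj]; simp)
    exact (top ▸ Subgroup.mem_top a : a ∈ S)

/-- **Groups containing a transvection.** -/
theorem tv_cases [Finite K] [Finite X] (h : Hyp ρ π) (hv : Fl ρ v φ) :
    IsSL ρ ∨ IsSU ρ ∨ ((2 : K) = 0 ∧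
      (Nonempty (X ≃* SL(3, ZMod 2)) ∨ Nonempty (X ≃* alternatingGroup (Fin 6)))) := by
  by_cases h1 : ∃ v, Multi ρ v
  · obtain ⟨v, h1⟩ := h1
    by_cases hA : AdjP ρ
    · exact Or.inl (isSL_of_adj h hA h1)
    · have h2 : (2 : K) = 0 := by_contra fun h2 => hA (adjP_of_odd h2)
      exact Or.inr (Or.inr ⟨h2, of_not_adj h h2 hA⟩)
  by_cases h2 : ∃ v, Multi (dual ρ) v
  · obtain ⟨v, h2⟩ := h2
    by_cases hA : AdjP (dual ρ)
    · exact Or.inl (isSL_of_adj h.dual hA h2).of_dual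
    · have h2 : (2 : K) = 0 := by_contra fun h2 => hA (adjP_of_odd h2)
      exact Or.inr (Or.inr ⟨h2, of_not_adj h.dual h2 hA⟩)
  push Not at h1 h2
  exact Or.inr (Or.inl (isSU_of_opp h (opp_of h1 h2) hv))

end Cfsg.Agent.H10.P3
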