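import Cfsg.Agent.H10.P3L2
import Cfsg.Agent.H10.P3U3
import Cfsg.Agent.H10.P3Alt
import Cfsg.Agent.H9.Transport
import Cfsg.Agent.S0254
import Cfsg.Agent.S0255

/-!
The classification of the quasisimple irreducible subgroups of `SL₃(q)` and their traces.
-/

set_option autoImplicit false

open Matrix Subgroup
open scoped MatrixGroups

namespace Cfsg.Agent.H10.P3

open H28

variable {K : Type*} [Field K] {Γ X : Type*} [Group Γ] [Group X] {ρ : Γ →* M3 K} {π : Γ →* X}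

/-- The character is self-dual. -/
def Real (ρ : Γ →* M3 K) : Prop := ∀ g, (ρ g⁻¹).trace = (ρ g).trace

/-- `X` is `PSL₂(7)`. -/
abbrev IsL7 (X : Type*) [Group X] : Prop := Nonempty (X ≃* PSL(2, ZMod 7))

/-- `X` is an alternating group. -/
abbrev IsAlt (n : ℕ) (X : Type*) [Group X] : Prop := Nonempty (X ≃* alternatingGroup (Fin n))

instance instFactPrime7 : Fact (Nat.Prime 7) := ⟨by norm_num⟩

theorem pow_mod_eq {G : Type*} [Group G] {g : G} {n m : ℕ} (h : g ^ n = 1) :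
    g ^ m = g ^ (m % n) := by
  conv_lhs => rw [← Nat.div_add_mod m n, pow_add, pow_mul, h, one_pow, one_mul]

theorem pow_eq_inv {G : Type*} [Group G] {g : G} {n : ℕ} (h : g ^ (n + 1) = 1) : g ^ n = g⁻¹ :=
  eq_inv_of_mul_eq_one_left (pow_succ g n ▸ h)

theorem l7_cls {θ : X →* PGL(2, ZMod 7)} (l : L2 θ) (x : X) :
    (x ^ 7 = 1 ∧ IsConj x (x ^ 2)) ∨ (IsConj x x⁻¹ ∧ (x ^ 3 = 1 ∨ x ^ 4 = 1)) := by
  by_cases h : x ^ 7 = 1
  · exact Or.inl ⟨h, l.isConj_pow 7 h (a := Units.mk0 3 (by decide)) (by decide)⟩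
  obtain ⟨h1, n, h2, h3⟩ := l.real 7 h
  have := l.card (by rw [Nat.card_zmod]; decide)
  rw [Nat.card_zmod] at h3 this
  refine Or.inr ⟨h1, h3.imp (fun e => ?_) fun e => ?_⟩
  · rwa [show 3 = n by omega]
  · rwa [show 4 = n by omega]

theorem a6_cls (e : IsAlt 6 X) (x : X) : IsConj x x⁻¹ ∧ (x ^ 3 = 1 ∨ x ^ 4 = 1 ∨ x ^ 5 = 1) := by
  haveI : Fact (Nat.Prime 3) := ⟨Nat.prime_three⟩
  letI := Fintype.ofFinite (GaloisField 3 2)
  have hF : Nat.card (GaloisField 3 2) = 9 := GaloisField.card 3 2 (by norm_num)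
  obtain ⟨e⟩ := e
  obtain ⟨e'⟩ := S0254.result (F := GaloisField 3 2) (by rwa [← Nat.card_eq_fintype_card])
  obtain ⟨θ, l⟩ := exists_l2 (e.trans e'.symm)
  by_cases h : x ^ 3 = 1
  · obtain ⟨a, ha⟩ := (FiniteField.isSquare_neg_one_iff (F := GaloisField 3 2)).2
      (by rw [← Nat.card_eq_fintype_card, hF]; decide)
    have h3 : (3 : GaloisField 3 2) = 0 := CharP.cast_eq_zero _ 3
    have := l.isConj_pow 3 h (a := Units.mk0 a (by rintro rfl; simp at ha)) (m := 2)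
      (by simp only [Units.val_mk0, Nat.cast_ofNat]; linear_combination -ha - h3)
    exact ⟨by rwa [pow_eq_inv h] at this, Or.inl h⟩
  obtain ⟨h1, n, h2, h3⟩ := l.real 3 h
  have := l.card (by rw [hF]; decide)
  rw [hF] at h3 this
  refine ⟨h1, Or.inr (h3.imp (fun e => ?_) fun e => ?_)⟩
  · rwa [show 4 = n by omega]
  · rwa [show 5 = n by omega]

theorem trace_pow_p (ρ : Γ →* M3 K) (p : ℕ) [Fact p.Prime] [CharP K p] (g : Γ) :
    (ρ g).trace ^ p = (ρ (g ^ p)).trace := by rw [map_pow, trace_pow_char]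

theorem three_pow (p : ℕ) [Fact p.Prime] [CharP K p] : (3 : K) ^ p = 3 :=
  (frobenius_def p 3).symm.trans (map_ofNat _ 3)

namespace Hyp

theorem trace_of_isConj' (h : Hyp ρ π) (hk : ∀ z, π z = 1 → z = 1) {a b : Γ}
    (e : IsConj (π a) (π b)) : (ρ b).trace = (ρ a).trace := by
  obtain ⟨x, hx⟩ := isConj_iff.1 e
  obtain ⟨k, rfl⟩ := h.surj x
  rw [← trace_conj ρ a k, (injective_iff_map_eq_one π).2 hk (a₁ := k * a * k⁻¹) (a₂ := b)
    (by simpa using hx)]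

theorem split (h : Hyp ρ π) {g : Γ} {n : ℕ} (hn : Nat.Coprime n 3) (e : π g ^ n = 1) :
    ∃ (a : Γ) (c : K), a ^ n = 1 ∧ π a = π g ∧ c ^ 3 = 1 ∧ (ρ g).trace = c * (ρ a).trace ∧
      (ρ g⁻¹).trace = c ^ 2 * (ρ a⁻¹).trace := by
  obtain ⟨a, e1, ha⟩ := h.exists_lift hn e
  obtain ⟨z, hz, rfl⟩ := h.exists_ker_of_eq e1.symm
  obtain ⟨c, hc⟩ := (h.ker z).1 hz
  refine ⟨a, c, ha, e1, h.cube hc, by simp [hc], ?_⟩
  rw [_root_.mul_inv_rev, ← pow_eq_inv (n := 2) (h.ker_cube hz), map_mul, map_pow, hc]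
  simp [smul_pow]

theorem frob34 (p : ℕ) [hp : Fact p.Prime] [CharP K p] {g : Γ} (hg : g ^ 3 = 1 ∨ g ^ 4 = 1)
    (hr : (ρ g⁻¹).trace = (ρ g).trace) : (ρ g).trace ^ p = (ρ g).trace := by
  rcases hg with hg | hg
  · by_cases h3 : p = 3
    · subst h3
      rw [trace_of_pow_char (ρ := ρ) 3 hg, three_pow]
    have : ¬ 3 ∣ p := fun e => h3 ((Nat.prime_dvd_prime_iff_eq Nat.prime_three hp.out).1 e).symm
    rw [trace_pow_p, pow_mod_eq hg]
    rcases (by omega : p % 3 = 1 ∨ p % 3 = 2) with e | e <;> rw [e]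
    exacts [by rw [pow_one], by rw [pow_eq_inv hg, hr]]
  · rcases hp.out.eq_two_or_odd with rfl | h2
    · have e := trace_of_pow_char (ρ := ρ) 2 (g := g ^ 2) (by rwa [← pow_mul])
      rw [← trace_pow_p, ← three_pow 2] at e
      rw [show (ρ g).trace = 3 from frobenius_inj K 2 e, three_pow]
    rw [trace_pow_p, pow_mod_eq hg]
    rcases (by omega : p % 4 = 1 ∨ p % 4 = 3) with e | e <;> rw [e]
    exacts [by rw [pow_one], by rw [pow_eq_inv hg, hr]]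

theorem l7_ker [Finite X] (h : Hyp ρ π) (e : IsL7 X) {z : Γ} (hz : π z = 1) : z = 1 :=
  let ⟨e⟩ := e
  h.ker_of_psl e (by simp) (by simp) hz

theorem l7_seven [Finite X] (h : Hyp ρ π) (e : IsL7 X) {g : Γ} (hg : g ^ 7 = 1) {m : ℕ} :
    (m % 7 = 1 ∨ m % 7 = 2 ∨ m % 7 = 4 → (ρ (g ^ m)).trace = (ρ g).trace) ∧
    (m % 7 = 3 ∨ m % 7 = 5 ∨ m % 7 = 6 → (ρ (g ^ m)).trace = (ρ g⁻¹).trace) := by
  obtain ⟨θ, l⟩ := exists_l2 e.some
  have k : ∀ g : Γ, g ^ 7 = 1 → (ρ (g ^ 2)).trace = (ρ g).trace := fun g hg =>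
    h.trace_of_isConj' (fun _ => h.l7_ker e) (map_pow π g 2 ▸
      l.isConj_pow 7 (by rw [← map_pow, hg, map_one]) (a := Units.mk0 3 (by decide)) (by decide))
  have p7 : ∀ n, (g ^ n) ^ 7 = 1 := fun n => by rw [← pow_mul, mul_comm, pow_mul, hg, one_pow]
  have k' : ∀ n, (ρ (g ^ (n * 2 % 7))).trace = (ρ (g ^ n)).trace := fun n => by
    rw [← pow_mod_eq hg, pow_mul, k _ (p7 n)]
  have k1 := k' 1; have k2 := k' 2; have k3 := k' 3; have k6 := k' 6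
  rw [← pow_eq_inv hg, pow_mod_eq hg (m := m)]
  norm_num only [pow_one] at k1 k2 k3 k6
  constructor <;> rintro (e | e | e) <;> rw [e]
  exacts [by rw [pow_one], k1, k2.trans k1, k3.symm, k6]

theorem l7_frob [Finite X] (h : Hyp ρ π) (e : IsL7 X) (p : ℕ) [Fact p.Prime] [CharP K p] (g : Γ) :
    (p % 7 = 1 ∨ p % 7 = 2 ∨ p % 7 = 4 → (ρ g).trace ^ p = (ρ g).trace) ∧
    (p % 7 = 3 ∨ p % 7 = 5 ∨ p % 7 = 6 → (ρ g).trace ^ p = (ρ g⁻¹).trace) := by
  obtain ⟨θ, l⟩ := exists_l2 e.some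
  rcases l7_cls l (π g) with ⟨h1, -⟩ | ⟨h1, h2⟩
  · rw [trace_pow_p]
    exact h.l7_seven e (h.l7_ker e (by rwa [map_pow]))
  have h3 := h.trace_of_isConj' (fun _ => h.l7_ker e) (a := g) (b := g⁻¹) (by rwa [map_inv])
  have h4 := frob34 (ρ := ρ) p (h2.imp (fun h2 => h.l7_ker e (by rwa [map_pow]))
    fun h2 => h.l7_ker e (by rwa [map_pow])) h3
  exact ⟨fun _ => h4, fun _ => h4.trans h3.symm⟩

theorem l7_ne [Finite X] (h : Hyp ρ π) (e : IsL7 X) (h7 : (7 : K) ≠ 0) {g : Γ} (hg : g ^ 7 = 1)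
    (h1 : g ≠ 1) : (ρ g⁻¹).trace ≠ (ρ g).trace := fun e1 => by
  have := h.trace_of_rat e1 ((h.l7_seven e hg).1 (by norm_num))
    (((h.l7_seven e hg).2 (by norm_num)).trans e1)
  exact h1 (h.eq_one_of_trace this (e1.trans this) (n := 7) (by exact_mod_cast h7) hg)

theorem a6_tr (h : Hyp ρ π) (e : IsAlt 6 X) (p : ℕ) [hp : Fact p.Prime] [CharP K p] (g : Γ) :
    ∃ c t : K, c ^ 3 = 1 ∧ (ρ g).trace = c * t ∧ (ρ g⁻¹).trace = c ^ 2 * t ∧ t ^ p ^ 2 = t ∧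
      (¬ (p % 5 = 2 ∨ p % 5 = 3) → t ^ p = t) := by
  obtain ⟨h1, h2⟩ := a6_cls e (π g)
  have key : ∀ n, Nat.Coprime n 3 → π g ^ n = 1 → (∀ a : Γ, a ^ n = 1 →
      (ρ a⁻¹).trace = (ρ a).trace → (ρ a).trace ^ p ^ 2 = (ρ a).trace ∧
      (¬ (p % 5 = 2 ∨ p % 5 = 3) → (ρ a).trace ^ p = (ρ a).trace)) → ∃ c t : K, c ^ 3 = 1 ∧
      (ρ g).trace = c * t ∧ (ρ g⁻¹).trace = c ^ 2 * t ∧ t ^ p ^ 2 = t ∧
      (¬ (p % 5 = 2 ∨ p % 5 = 3) → t ^ p = t) := fun n hn e k => by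
    obtain ⟨a, c, h3, h4, h5, h6, h7⟩ := h.split hn e
    have h8 := h.trace_of_isConj hn h3 (b := a⁻¹) (by rw [inv_pow, h3, inv_one])
      (by rwa [map_inv, h4])
    exact ⟨c, _, h5, h6, h8 ▸ h7, k a h3 h8⟩
  have sq : ∀ t : K, t ^ p = t → t ^ p ^ 2 = t ∧ (¬ (p % 5 = 2 ∨ p % 5 = 3) → t ^ p = t) :=
    fun t e => ⟨by rw [sq, pow_mul, e, e], fun _ => e⟩
  rcases h2 with h2 | h2 | h2
  · by_cases h3 : π g = 1
    · exact key 4 (by norm_num) (by simp [h3]) fun a h4 h5 => sq _ (frob34 p (Or.inr h4) h5)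
    have h4 := h.cube_of_real h2 h1
    refine ⟨1, 0, by simp, by simp [h.trace_of_cube h4 h3], ?_, sq _ (zero_pow hp.out.ne_zero)⟩
    rw [h.trace_of_cube (by rw [inv_pow, h4, inv_one]) (by simpa using h3), mul_zero]
  · exact key 4 (by norm_num) h2 fun a h4 h5 => sq _ (frob34 p (Or.inr h4) h5)
  refine key 5 (by norm_num) h2 fun a h4 h5 => ?_
  by_cases h6 : p = 5
  · subst h6
    exact sq _ (by rw [trace_of_pow_char (ρ := ρ) 5 h4, three_pow])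
  have h7 : ¬ 5 ∣ p := fun e => h6 ((Nat.prime_dvd_prime_iff_eq Nat.prime_five hp.out).1 e).symm
  by_cases h8 : p % 5 = 2 ∨ p % 5 = 3
  · refine ⟨?_, fun e => (e h8).elim⟩
    rw [pow_two, pow_mul, trace_pow_p, trace_pow_p, ← pow_mul, pow_mod_eq h4, Nat.mul_mod]
    rcases h8 with e | e <;> rw [e] <;> exact (pow_eq_inv (n := 4) h4).symm ▸ h5
  refine sq _ ?_
  rw [trace_pow_p, pow_mod_eq h4]
  rcases (by omega : p % 5 = 1 ∨ p % 5 = 4) with e | e <;> rw [e]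
  exacts [by rw [pow_one], by rw [pow_eq_inv h4, h5]]

theorem a6_ne (h : Hyp ρ π) (e : IsAlt 6 X) (h5 : (5 : K) ≠ 0) {g : Γ} (hg : g ^ 5 = 1)
    (h1 : g ≠ 1) : (ρ g⁻¹).trace = (ρ g).trace ∧
      ∀ m, m % 5 = 2 ∨ m % 5 = 3 → (ρ (g ^ m)).trace ≠ (ρ g).trace := by
  have k : ∀ a : Γ, a ^ 5 = 1 → (ρ a⁻¹).trace = (ρ a).trace := fun a ha =>
    h.trace_of_isConj (by norm_num) ha (by rw [inv_pow, ha, inv_one])
      (map_inv π a ▸ (a6_cls e _).1)
  have k2 : (ρ (g ^ 3)).trace = (ρ (g ^ 2)).trace := by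
    rw [← k (g ^ 2) (by rw [← pow_mul, mul_comm, pow_mul, hg, one_pow])]
    congr 2
    exact eq_inv_of_mul_eq_one_left (by rw [← pow_add, hg])
  refine ⟨k g hg, fun m hm e1 => ?_⟩
  have e2 : (ρ (g ^ 2)).trace = (ρ g).trace := by
    rw [pow_mod_eq hg] at e1
    rcases hm with e | e <;> rw [e] at e1
    exacts [e1, k2 ▸ e1]
  have := h.trace_of_rat (k g hg) e2 (k2.trans e2)
  exact h1 (h.eq_one_of_trace this ((k g hg).trans this) (n := 5) (by exact_mod_cast h5) hg)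

theorem a7_five (h : Hyp ρ π) (e : IsAlt 7 X) : (5 : K) = 0 := by
  by_contra h5
  obtain ⟨e⟩ := e
  obtain ⟨x, h1, h2, h3, h4, h6⟩ := P3.a7_five
  obtain ⟨g, eg, hg⟩ := h.exists_lift (x := e.symm x) (n := 5) (by norm_num)
    (by rw [← map_pow, h2, map_one])
  have k : ∀ (a : Γ) (y), a ^ 5 = 1 → π a = e.symm y → IsConj x y → (ρ a).trace = (ρ g).trace :=
    fun a y ha ea c => h.trace_of_isConj (by norm_num) hg ha
      (by rw [eg, ea]; exact e.symm.toMonoidHom.map_isConj c)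
  have p5 : ∀ n, (g ^ n) ^ 5 = 1 := fun n => by rw [← pow_mul, mul_comm, pow_mul, hg, one_pow]
  have k1 := k g⁻¹ _ (by rw [inv_pow, hg, inv_one]) (by simp [eg]) h3
  have := h.trace_of_rat k1 (k _ _ (p5 2) (by simp [eg]) h4) (k _ _ (p5 3) (by simp [eg]) h6)
  rw [h.eq_one_of_trace this (k1.trans this) (n := 5) (by exact_mod_cast h5) hg, map_one] at eg
  exact h1 (by simpa using eg.symm)

theorem a7_frob (h : Hyp ρ π) (e : IsAlt 7 X) [CharP K 5] (g : Γ) :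
    (ρ g).trace ^ 5 = (ρ g⁻¹).trace := by
  haveI : Fact (Nat.Prime 5) := ⟨Nat.prime_five⟩
  obtain ⟨e⟩ := e
  have pw : ∀ n, e (π g) ^ n = 1 → π g ^ n = 1 := fun n h => e.injective (by simpa using h)
  have cj : ∀ a b : X, IsConj (e a) (e b) → IsConj a b := fun a b => H56.isConj_of_equiv e
  have key : ∀ n, Nat.Coprime n 3 → π g ^ n = 1 → (∀ a : Γ, a ^ n = 1 → π a = π g →
      (ρ a).trace ^ 5 = (ρ a⁻¹).trace) → (ρ g).trace ^ 5 = (ρ g⁻¹).trace := fun n hn e k => by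
    obtain ⟨a, c, h3, h4, h5, h6, h7⟩ := h.split hn e
    rw [h6, h7, mul_pow, k a h3 h4, show c ^ 5 = c ^ 2 by rw [pow_add c 3 2, h5, one_mul]]
  rcases a7_cls (e (π g)) with ⟨h1, h2⟩ | h1 | ⟨h1, h2⟩ | ⟨h1, h2⟩
  · refine key 4 (by norm_num) (pw 4 h1) fun a ha ea => ?_
    have := h.trace_of_isConj (by norm_num) ha (b := a⁻¹) (by rw [inv_pow, ha, inv_one])
      (cj _ _ (by simpa [ea] using h2))
    rw [frob34 5 (Or.inr ha) this, this]
  · refine key 5 (by norm_num) (pw 5 h1) fun a ha ea => ?_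
    rw [trace_of_pow_char (ρ := ρ) 5 ha, three_pow,
      trace_of_pow_char (ρ := ρ) 5 (g := a⁻¹) (by rw [inv_pow, ha, inv_one])]
  · have := h.cube_of_real (g := g ^ 2) (by rw [map_pow, ← pow_mul, pw 6 h1])
      (cj _ _ (by simpa using h2))
    rw [trace_pow_p, pow_eq_inv (by rwa [← pow_mul] at this)]
  · refine key 7 (by norm_num) (pw 7 h1) fun a ha ea => ?_
    rw [trace_pow_p]
    exact (h.trace_of_isConj (n := 7) (by norm_num)
      (by rw [← pow_mul, mul_comm, pow_mul, ha, one_pow]) (by rw [inv_pow, ha, inv_one])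
      (cj _ _ (by simpa [ea] using h2))).symm

theorem not_noTv [Finite X] (h : Hyp ρ π) (h2 : (2 : K) = 0) : ¬ NoTv ρ := fun hn => by
  haveI := h.simple
  haveI : Fact (Nat.Prime 2) := ⟨Nat.prime_two⟩
  obtain ⟨x, hx⟩ := exists_prime_orderOf_dvd_card' (G := X) 2 (by
    by_contra h3
    have := S0205.result (G := X) (Nat.odd_iff.2 (by omega))
    exact h.nonab ⟨⟨IsSimpleGroup.comm_iff_isSolvable.2 this⟩⟩)
  obtain ⟨t, rfl, ht⟩ := h.exists_lift (n := 2) (by norm_num) (hx ▸ pow_orderOf_eq_one x)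
  have := hn t (by
    rw [mul_sub, sub_mul, sub_mul, ← map_mul, ← sq, ht, map_one, mul_one, one_mul, mul_one]
    calc 1 - ρ t - (ρ t - 1) = (2 : K) • (1 - ρ t) := by rw [two_smul]; abel
      _ = 0 := by rw [h2, zero_smul])
  simp [this] at hx

theorem classify [Finite K] [Finite X] (h : Hyp ρ π) :
    IsSL ρ ∨ IsSU ρ ∨ ((2 : K) ≠ 0 ∧ Real ρ) ∨ ((7 : K) ≠ 0 ∧ IsL7 X) ∨
      ((3 : K) ≠ 0 ∧ IsAlt 6 X) ∨ IsAlt 7 X := by
  by_cases hn : NoTv ρ
  swap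
  · obtain ⟨v, φ, hv⟩ := h.exists_fl hn
    rcases tv_cases h hv with h1 | h1 | ⟨h2, ⟨⟨e⟩⟩ | h3⟩
    · exact Or.inl h1
    · exact Or.inr (Or.inl h1)
    · obtain ⟨e'⟩ := S0255.result (F := ZMod 7) (K := ZMod 2) (by simp) (by simp)
      have hc : center SL(3, ZMod 2) = ⊥ := eq_bot_iff.2 fun z hz => e.symm.injective
        ((h.center_eq fun g => e.injective (by simpa using mem_center_iff.1 hz (e g))).trans
          (map_one _).symm)
      exact Or.inr (Or.inr (Or.inr (Or.inl ⟨fun h7 => one_ne_zero (α := K)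
        (by linear_combination h7 - 3 * h2),
        ⟨(e.trans (H9.quotCenterEquivOfBot hc).symm).trans e'.symm⟩⟩)))
    · exact Or.inr (Or.inr (Or.inr (Or.inr (Or.inl ⟨fun h7 => one_ne_zero (α := K)
        (by linear_combination h7 - h2), h3⟩))))
  have h2 : (2 : K) ≠ 0 := fun e => h.not_noTv e hn
  rcases h.psl_or_alt h2 hn with ⟨F, _, _, ho, h3, ⟨e⟩⟩ | h1
  swap
  · tauto
  obtain ⟨θ, l⟩ := exists_l2 e
  obtain ⟨s, hs⟩ := CharP.exists F
  obtain ⟨n, hp, hc⟩ := FiniteField.card F s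
  haveI := Fact.mk hp
  have h4 : 4 < Fintype.card F := by obtain ⟨k, hk⟩ := ho; omega
  have re : (∀ z, π z = 1 → z = 1) → (∀ g, π g ^ s = 1 → g ^ s = 1 → (ρ g⁻¹).trace = (ρ g).trace) →
      Real ρ := fun hk h5 g => by
    by_cases h6 : π g ^ s = 1
    · exact h5 g h6 (hk _ (by rwa [map_pow]))
    · exact h.trace_of_isConj' hk (map_inv π g ▸ (l.real s h6).1)
  by_cases h5 : (s : K) = 0
  · haveI : CharP K s := (CharP.charP_iff_prime_eq_zero hp).2 h5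
    refine Or.inr (Or.inr (Or.inl ⟨h2, re (fun z hz => ?_) fun g _ hg => ?_⟩))
    · by_cases h9 : Fintype.card F = 9
      · obtain rfl : s = 3 := (Nat.prime_dvd_prime_iff_eq hp Nat.prime_three).1
          (hp.dvd_of_dvd_pow (n := 2) (h9.symm.trans hc ▸ dvd_pow_self s n.ne_zero :))
        exact h.ker_of_three h5 hz
      · exact h.ker_of_psl e h4 h9 hz
    · rw [trace_of_pow_char (ρ := ρ) s hg,
        trace_of_pow_char (ρ := ρ) s (g := g⁻¹) (by rw [inv_pow, hg, inv_one])]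
  have h9 := (h.ext (algebraMap K (AlgebraicClosure K))).card_le_nine l s
    (by rwa [← map_natCast (algebraMap K _), map_ne_zero])
  rw [Nat.card_eq_fintype_card] at h9
  have hs' : ∀ r : ℕ, r.Prime → ∀ k, Fintype.card F = r ^ k → s = r := fun r hr k e =>
    (Nat.prime_dvd_prime_iff_eq hp hr).1 (hp.dvd_of_dvd_pow (n := k)
      (e.symm.trans hc ▸ dvd_pow_self s n.ne_zero))
  obtain h6 | h6 | h6 : Fintype.card F = 5 ∨ Fintype.card F = 7 ∨ Fintype.card F = 9 := by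
    obtain ⟨k, hk⟩ := ho; omega
  · obtain rfl := hs' 5 Nat.prime_five 1 h6
    have hk : ∀ z, π z = 1 → z = 1 := fun z => h.ker_of_psl e h4 (by omega)
    refine Or.inr (Or.inr (Or.inl ⟨h2, re hk fun g h7 hg => ?_⟩))
    have h8 : (2 : F) ≠ 0 := fun e => by
      have h5 : (5 : F) = 0 := CharP.cast_eq_zero F 5
      exact one_ne_zero (α := F) (by linear_combination h5 - 2 * e)
    rw [← pow_eq_inv hg]
    exact h.trace_of_isConj' hk (map_pow π g 4 ▸ l.isConj_pow 5 h7 (a := Units.mk0 2 h8)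
      (by norm_num))
  · obtain rfl := hs' 7 (by norm_num) 1 h6
    exact Or.inr (Or.inr (Or.inr (Or.inl ⟨h5, ⟨e.trans (H9.pslMapEquiv
      (FiniteField.ringEquivOfCardEq (by simpa using h6)))⟩⟩)))
  · obtain rfl := hs' 3 Nat.prime_three 2 h6
    exact Or.inr (Or.inr (Or.inr (Or.inr (Or.inl ⟨h5, ⟨e.trans (S0254.result h6).some⟩⟩))))

end Hyp

end Cfsg.Agent.H10.P3
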