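import Cfsg.Agent.H10.P3Two
import Cfsg.Agent.H93.GenES
import Cfsg.Agent.H22.GWSimple
import Cfsg.Agent.S3035

/-!
Characteristic two: the configuration with a dihedral involution centraliser of order eight.
-/

set_option autoImplicit false

open Matrix
open scoped MatrixGroups

namespace Cfsg.Agent.H10.P3

variable {K : Type*} [Field K] {Γ X : Type*} [Group Γ] [Group X]
variable {ρ : Γ →* M3 K} {π : Γ →* X} {v w x φ ψ χ ξ : V3 K}

theorem vv_eq {a b c d : V3 K} (h : vecMulVec a b = vecMulVec c d) (hc : c ≠ 0) (hd : d ≠ 0) :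
    ∃ l : K, l ≠ 0 ∧ a = l • c ∧ b = l⁻¹ • d := by
  obtain ⟨y, hy⟩ := exists_dot_ne_zero hd
  rw [dotProduct_comm] at hy
  have h1 := congrArg (· *ᵥ y) h
  simp only [vv_mulVec] at h1
  have hb : b ⬝ᵥ y ≠ 0 := fun e => by
    rw [e, zero_smul, eq_comm, smul_eq_zero] at h1
    exact h1.elim hy hc
  have ha : a = (d ⬝ᵥ y / b ⬝ᵥ y) • c := by
    rw [div_eq_inv_mul, mul_smul, ← h1, inv_smul_smul₀ hb]
  refine ⟨_, div_ne_zero hy hb, ha, ?_⟩
  generalize d ⬝ᵥ y / b ⬝ᵥ y = l at ha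
  subst ha
  rw [smul_vecMulVec, ← vecMulVec_smul, ← sub_eq_zero, ← vecMulVec_sub] at h
  have e := sub_eq_zero.1 ((vv_eq_zero h).resolve_left hc)
  have hl : l ≠ 0 := by rintro rfl; simp [eq_comm, hd] at e
  rw [← e, inv_smul_smul₀ hl]

theorem eq_vv_of_kill {M : M3 K} (hv : v ≠ 0) (hi : ∀ c : K, x ≠ c • v) (c0 : χ ≠ 0)
    (c1 : χ ⬝ᵥ x = 0) (c2 : χ ⬝ᵥ v = 0) (h1 : M *ᵥ x = 0) (h2 : M *ᵥ v = 0) :
    ∃ u, M = vecMulVec u χ := by
  choose u hu using fun i => exists_smul_of_dot (ψ := M i) hv hi c0 c1 c2 (congrFun h1 i)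
    (congrFun h2 i)
  exact ⟨u, by ext i j; rw [hu]; simp [vecMulVec_apply]⟩

theorem tv_sq (h2 : (2 : K) = 0) (h0 : φ ⬝ᵥ v = 0) :
    (1 + vecMulVec v φ) * (1 + vecMulVec v φ) = 1 := by
  have : (1 + vecMulVec v φ) * (1 + vecMulVec v φ) = 1 + (2 : K) • vecMulVec v φ := by
    rw [mul_add, add_mul, add_mul, vv_mul, h0]; simp [two_smul, add_assoc]
  rw [this, h2, zero_smul, add_zero]

namespace D8

theorem indep (d : D8 ρ v x χ ξ) (c : K) : x ≠ c • v :=
  not_smul_of_dot d.t2.1 (by rw [d.one]; exact one_ne_zero) c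

theorem indep' (d : D8 ρ v x χ ξ) (c : K) : ξ ≠ c • χ := by
  rintro rfl
  simpa [d.t3.1] using d.one

theorem axes (d : D8 ρ v x χ ξ) (h : T ρ v φ) : φ = 0 ∨ φ = χ ∨ φ = ξ ∨ φ = ξ + χ := by
  have key : ∀ φ, T ρ v φ → φ ⬝ᵥ x = 0 → φ = 0 ∨ φ = χ := fun φ h e => by
    obtain ⟨c, rfl⟩ := exists_smul_of_dot d.v0 d.indep d.c0 d.t3.1 d.t1.1 e h.1
    rcases d.small _ _ d.t1 d.c0 h with rfl | rfl <;> simp
  rcases d.small _ _ d.t1 d.c0 (d.t3.comm h d.t1.1) with e | e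
  · exact (key _ h e).imp_right Or.inl
  · rcases key _ (h.sub d.t2) (by rw [sub_dotProduct, e, d.one, sub_self]) with e | e
    · exact Or.inr (Or.inr (Or.inl (sub_eq_zero.1 e)))
    · exact Or.inr (Or.inr (Or.inr (by rw [← e]; simp)))

theorem centres (d : D8 ρ v x χ ξ) (h : T ρ w χ) : w = 0 ∨ w = v ∨ w = x ∨ w = x + v := by
  have key : ∀ w, T ρ w χ → ξ ⬝ᵥ w = 0 → w = 0 ∨ w = v := fun w h e => by
    obtain ⟨c, rfl⟩ := exists_smul_of_dot (φ := v) (ψ := w) d.c0 d.indep' d.v0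
      (by rw [dotProduct_comm, d.t2.1]) (by rw [dotProduct_comm, d.t1.1])
      (by rw [dotProduct_comm, e]) (by rw [dotProduct_comm, h.1])
    rcases d.small _ _ d.t1 d.c0 ((T.smul_iff _).1 h) with rfl | rfl <;> simp
  rcases d.small _ _ d.t1 d.c0 ((T.smul_iff _).1 (d.t2.comm' h d.t1.1)) with e | e
  · exact (key _ h e).imp_right Or.inl
  · rcases key _ (h.sub' d.t3) (by rw [dotProduct_sub, e, d.one, sub_self]) with e | e
    · exact Or.inr (Or.inr (Or.inl (sub_eq_zero.1 e)))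
    · exact Or.inr (Or.inr (Or.inr (by rw [← e]; simp)))

theorem base (d : D8 ρ v x χ ξ) (h : Hyp ρ π) (h2 : (2 : K) = 0) {z g : Γ}
    (hz : ρ z = 1 + vecMulVec v χ) {l : K} (e1 : ρ g *ᵥ v = l • v) (e2 : ρ g *ᵥ x = l • x)
    (e3 : χ ᵥ* ρ g = l • χ) (e4 : ξ ᵥ* ρ g = l • ξ) : π g = 1 ∨ π g = π z := by
  obtain ⟨u, hu⟩ := eq_vv_of_kill (M := ρ g - l • 1) d.v0 d.indep d.c0 d.t3.1 d.t1.1
    (by simp [sub_mulVec, e2, smul_mulVec]) (by simp [sub_mulVec, e1, smul_mulVec])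
  have k : ∀ η : V3 K, η ᵥ* ρ g = l • η → u ⬝ᵥ η = 0 := fun η e => by
    have := congrArg (η ᵥ* ·) hu
    simp only [vecMul_sub, e, vecMul_vv, vecMul_smul, vecMul_one, sub_self] at this
    rw [dotProduct_comm]
    exact (smul_eq_zero.1 this.symm).resolve_right d.c0
  obtain ⟨m, rfl⟩ := exists_smul_of_dot (φ := v) (ψ := u) d.c0 d.indep' d.v0
    (by rw [dotProduct_comm, d.t2.1]) (by rw [dotProduct_comm, d.t1.1]) (k _ e4) (k _ e3)
  have hl : l ≠ 0 := fun e => rho_mulVec_ne ρ g d.v0 (by rw [e1, e, zero_smul])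
  have hg : ρ g = l • (1 + vecMulVec v ((m / l) • χ)) := by
    rw [sub_eq_iff_eq_add.1 hu, smul_add, vecMulVec_smul, smul_vecMulVec, smul_smul,
      mul_div_cancel₀ _ hl, add_comm]
  have h0 : ((m / l) • χ) ⬝ᵥ v = 0 := by simp [d.t1.1]
  have g2 : ρ (g * g) = (l * l) • 1 := by
    rw [map_mul, hg, smul_mul_smul_comm, tv_sq h2 h0]
  have l3 : l ^ 3 = 1 := by
    have := h.cube g2
    have e : (l ^ 3 - 1) ^ 2 = 0 := by linear_combination this + (1 - l ^ 3) * h2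
    exact sub_eq_zero.1 (pow_eq_zero_iff (by norm_num) |>.1 e)
  have g3 : ρ (g * g * g) = 1 + vecMulVec v ((m / l) • χ) := by
    rw [map_mul, g2, hg, smul_mul_assoc, one_mul, smul_smul, show l * l * l = 1 by
      linear_combination l3, one_smul]
  have p3 : π (g * g * g) = π g := by rw [map_mul, (h.ker _).2 ⟨_, g2⟩, one_mul]
  rw [← p3]
  rcases d.small _ _ d.t1 d.c0 ⟨h0, _, g3⟩ with e | e
  · left
    rw [e, zero_smul, vecMulVec_zero, add_zero, ← map_one ρ] at g3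
    rw [h.inj g3, map_one]
  · right
    rw [e, one_smul, ← hz] at g3
    rw [h.inj g3]

theorem cent (d : D8 ρ v x χ ξ) (h : Hyp ρ π) (h2 : (2 : K) = 0) {z a b : Γ}
    (hz : ρ z = 1 + vecMulVec v χ) (ha : ρ a = 1 + vecMulVec v ξ) (hb : ρ b = 1 + vecMulVec x χ)
    (D : Subgroup X) (zD : π z ∈ D) (aD : π a ∈ D) (bD : π b ∈ D) {g : Γ}
    (hg : π g * π z = π z * π g) : π g ∈ D := by
  have two : ∀ y : V3 K, y + y = 0 := fun y => by rw [← two_smul K, h2, zero_smul]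
  have s0 : ∀ g (l : K), ρ g *ᵥ v = l • v → ρ g *ᵥ x = l • x → χ ᵥ* ρ g = l • χ →
      ξ ᵥ* ρ g = l • ξ → π g ∈ D := fun g l e1 e2 e3 e4 => by
    rcases d.base h h2 hz e1 e2 e3 e4 with e | e <;> rw [e]
    exacts [D.one_mem, zD]
  have s1 : ∀ g (l : K), ρ g *ᵥ v = l • v → ρ g *ᵥ x = l • x → χ ᵥ* ρ g = l • χ →
      (ξ ᵥ* ρ g = l • ξ ∨ ξ ᵥ* ρ g = l • (ξ + χ)) → π g ∈ D := fun g l e1 e2 e3 e4 => by
    rcases e4 with e4 | e4
    · exact s0 g l e1 e2 e3 e4
    · rw [← D.mul_mem_cancel_right bD, ← map_mul]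
      refine s0 _ l ?_ ?_ ?_ ?_
      · simp [← mulVec_mulVec, hb, add_mulVec, vv_mulVec, d.t1.1, e1]
      · simp [← mulVec_mulVec, hb, add_mulVec, vv_mulVec, d.t3.1, e2]
      · simp [← vecMul_vecMul, hb, vecMul_add, vecMul_vv, d.t3.1, e3, smul_vecMul]
      · rw [map_mul, ← vecMul_vecMul, e4, smul_vecMul, hb, vecMul_add, vecMul_one, vecMul_vv,
          add_dotProduct, d.one, d.t3.1, add_zero, one_smul, add_assoc, two, add_zero]
  obtain ⟨y, hy, e⟩ := h.exists_ker_of_eq (a := g * z * g⁻¹) (b := z) (by simp [hg])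
  have z2 : z * z = 1 := h.inj (by rw [map_mul, hz, tv_sq h2 d.t1.1, map_one])
  have y1 : y = 1 := h.ker_eq_one hy (n := 2) (by norm_num) (by
    have : (y * z) * (y * z) = 1 := by
      rw [← e, conj_mul, z2, mul_one, mul_inv_cancel]
    rw [← this, mul_assoc, ← mul_assoc z, ← h.ker_comm hy z, mul_assoc, z2, mul_one, sq])
  rw [y1, one_mul] at e
  have e' := congrArg ρ e
  rw [map_mul, map_mul, hz, mul_add, add_mul, mul_one, mul_inv_rho, mul_vecMulVec,
    vecMulVec_mul, add_right_inj] at e'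
  obtain ⟨l, hl, e1, e3⟩ := vv_eq e' d.v0 d.c0
  have back : ∀ η η' : V3 K, l • η ᵥ* ρ g⁻¹ = η' → η' ᵥ* ρ g = l • η := by
    rintro η _ rfl
    rw [smul_vecMul, vecMul_vecMul, inv_mul_rho, vecMul_one]
  have e3' : χ ᵥ* ρ g = l • χ := back _ _ (by rw [e3, smul_inv_smul₀ hl])
  have e4 : ξ ᵥ* ρ g = l • ξ ∨ ξ ᵥ* ρ g = l • (ξ + χ) := by
    have := d.t2.conj g
    rw [e1, T.smul_iff] at this
    rcases d.axes this with e | e | e | e
    · have := back _ _ e
      rw [zero_vecMul, eq_comm, smul_eq_zero] at this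
      exact absurd (by simpa using this.resolve_left hl) (d.indep' 0)
    · exact absurd (by simpa using smul_right_injective _ hl ((back _ _ e).symm.trans e3'))
        (d.indep' 1)
    · exact Or.inl (back _ _ e)
    · right
      have := back _ _ e
      rw [add_vecMul, e3'] at this
      rw [smul_add, ← this, add_assoc, two, add_zero]
  have t := d.t3.conj g
  rw [e3, ← T.smul_iff] at t
  have fw : ∀ y : V3 K, l⁻¹ • ρ g *ᵥ x = y → ρ g *ᵥ x = l • y := by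
    rintro _ rfl; rw [smul_inv_smul₀ hl]
  rcases d.centres t with e | e | e | e
  · exact absurd (by simpa using fw _ e) (rho_mulVec_ne ρ g (by simpa using d.indep 0))
  · have := congrArg (ρ g⁻¹ *ᵥ ·) ((fw _ e).trans e1.symm)
    simp only [mulVec_mulVec, inv_mul_rho, one_mulVec] at this
    exact absurd (by simpa using this) (d.indep 1)
  · exact s1 g l e1 (fw _ e) e3' e4
  · rw [← D.mul_mem_cancel_right aD, ← map_mul]
    refine s1 _ l ?_ ?_ ?_ ?_
    · simp [← mulVec_mulVec, ha, add_mulVec, vv_mulVec, d.t2.1, e1]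
    · rw [map_mul, ← mulVec_mulVec, ha, add_mulVec, one_mulVec, vv_mulVec, d.one, one_smul,
        mulVec_add, fw _ e, e1, ← smul_add, add_assoc, two, add_zero]
    · simp [← vecMul_vecMul, ha, vecMul_add, vecMul_vv, d.t1.1, e3', smul_vecMul]
    · rcases e4 with e4 | e4
      · left
        simp [← vecMul_vecMul, ha, vecMul_add, vecMul_vv, d.t2.1, e4, smul_vecMul]
      · right
        rw [map_mul, ← vecMul_vecMul, e4, smul_vecMul, ha, vecMul_add, vecMul_one, vecMul_vv,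
          add_dotProduct, d.t1.1, d.t2.1, add_zero, zero_smul, add_zero]

theorem equiv (d : D8 ρ v x χ ξ) (h : Hyp ρ π) (h2 : (2 : K) = 0) :
    ∃ z : X, orderOf z = 2 ∧
      Nonempty (Subgroup.centralizer ({z} : Set X) ≃* DihedralGroup 4) := by
  obtain ⟨z, hz⟩ := d.t1.2
  obtain ⟨a, ha⟩ := d.t2.2
  obtain ⟨b, hb⟩ := d.t3.2
  have sq : ∀ (g : Γ) (v φ : V3 K), φ ⬝ᵥ v = 0 → ρ g = 1 + vecMulVec v φ → π g ^ 2 = 1 :=
    fun g v φ h0 hg => by
      rw [← map_pow, h.inj (a₁ := g ^ 2) (a₂ := 1) (by rw [sq, map_mul, hg, tv_sq h2 h0, map_one]),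
        map_one]
  have z1 := h.tv_ker d.t1.1 hz d.v0 d.c0
  have e1 : π a * π z = π z * π a := by
    rw [← map_mul, ← map_mul]
    congr 1
    apply h.inj
    simp only [map_mul, hz, ha, mul_add, add_mul, vv_mul, d.t1.1, d.t2.1]
    simp [add_right_comm]
  have e2 : π b * π z = π z * π b := by
    rw [← map_mul, ← map_mul]
    congr 1
    apply h.inj
    simp only [map_mul, hz, hb, mul_add, add_mul, vv_mul, d.t1.1, d.t3.1]
    simp [add_right_comm]
  have e3 : π b * π a * (π b)⁻¹ = π a * π z := by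
    rw [mul_inv_eq_iff_eq_mul, ← map_mul, ← map_mul, ← map_mul]
    congr 1
    apply h.inj
    have : ρ a * ρ z * ρ b = ρ b * ρ a + (2 : K) • vecMulVec v χ := by
      simp only [hz, ha, hb, mul_add, add_mul, vv_mul, d.t1.1, d.t2.1, d.t3.1, d.one,
        one_mul, mul_one, zero_smul, zero_mul]
      module
    rw [map_mul, map_mul, map_mul, this, h2, zero_smul, add_zero]
  have hD := H93.dihedral_of_two (sq a _ _ d.t2.1 ha) (sq b _ _ d.t3.1 hb) (sq z _ _ d.t1.1 hz) z1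
    e3 e1
  haveI : Fact (Nat.Prime 2) := ⟨Nat.prime_two⟩
  refine ⟨π z, orderOf_eq_prime (sq z _ _ d.t1.1 hz) z1, ?_⟩
  suffices e : Subgroup.centralizer ({π z} : Set X) = _ by rw [e]; exact hD
  refine le_antisymm (fun g hg => ?_) ?_
  · obtain ⟨g, rfl⟩ := h.surj g
    exact d.cent h h2 hz ha hb _
      (Subgroup.mem_sup_left (Subgroup.mem_sup_right (Subgroup.mem_zpowers _)))
      (Subgroup.mem_sup_left (Subgroup.mem_sup_left (Subgroup.mem_zpowers _)))
      (Subgroup.mem_sup_right (Subgroup.mem_zpowers _))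
      (Subgroup.mem_centralizer_singleton_iff.1 hg)
  · simp only [sup_le_iff, Subgroup.zpowers_le, Subgroup.mem_centralizer_singleton_iff]
    exact ⟨⟨e1, trivial⟩, e2⟩

end D8

theorem Hyp.center_eq (h : Hyp ρ π) {z : X} (hz : ∀ g, g * z = z * g) : z = 1 := by
  rcases h.simple.eq_bot_or_eq_top_of_normal (Subgroup.center X) inferInstance with e | e
  · exact Subgroup.mem_bot.1 (e ▸ Subgroup.mem_center_iff.2 hz)
  · exact absurd ⟨⟨fun a b => Subgroup.mem_center_iff.1 (e ▸ Subgroup.mem_top b) a⟩⟩ h.nonab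

theorem Hyp.not_perm (h : Hyp ρ π) {n : ℕ} (e : X ≃* Equiv.Perm (Fin (n + 2))) : False := by
  obtain ⟨g, hg⟩ := h.surj (e.symm (Equiv.swap 0 1))
  have := hom_eq_one h.perfect (Equiv.Perm.sign.comp (e.toMonoidHom.comp π)) g
  simp [hg] at this

theorem of_not_adj [Finite K] [Finite X] (h : Hyp ρ π) (h2 : (2 : K) = 0) (hA : ¬ AdjP ρ) :
    Nonempty (X ≃* SL(3, ZMod 2)) ∨ Nonempty (X ≃* alternatingGroup (Fin 6)) := by
  obtain ⟨v, h1, h3, h4⟩ := exists_small_adj h h2 hA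
  obtain ⟨x, χ, ξ, d⟩ := exists_d8 h1 h3 h4
  obtain ⟨z, hz, e⟩ := d.equiv h h2
  rcases S3035.result z hz e with e | ⟨⟨e⟩⟩ | ⟨⟨e⟩⟩ | e
  · rw [oddCore, H22.core_eq_bot_of_simple h.simple h.nonab, sup_bot_eq] at e
    rw [h.center_eq (z := z) fun g => Subgroup.mem_centralizer_singleton_iff.1
      (e ▸ Subgroup.mem_top g), orderOf_one] at hz
    omega
  · exact (h.not_perm e).elim
  · exact (h.not_perm e).elim
  · exact e

end Cfsg.Agent.H10.P3
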