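import Cfsg.Agent.H10.P3Inv
import Cfsg.Agent.NG.Wr
import Cfsg.Agent.H76.SDStruct
import Cfsg.Agent.H22.GWSimple
import Cfsg.Agent.S0516

/-!
Odd characteristic without transvections: the Sylow 2-subgroups are dihedral.
-/

set_option autoImplicit false

open Matrix Subgroup
open scoped MatrixGroups

namespace Cfsg.Agent.H10.P3

section
open Cfsg.Agent.H42 Cfsg.Agent.H78 Cfsg.Agent.NG

theorem wr_hs {G : Type*} [Group G] [Finite G] [IsSimpleGroup G] (S : Sylow 2 G)
    (hS : Cfsg.IsWreathed (S : Subgroup G)) {k : ℕ} {x y s : G} (h : Wr (S : Subgroup G) k x y s)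
    (hsol : Group.IsSolvable (centralizer ({wc k x y} : Set G))) :
    k = 0 ∧ HS S x y s ∧ Nat.card G = 6048 := by
  have hG : ∀ H : Subgroup G, H.index ≠ 2 := fun H hH => by
    have h1 := (normal_of_index_eq_two hH).eq_bot_or_eq_top
    rcases h1 with rfl | rfl
    · have h2 := card_le_card_group (S : Subgroup G)
      rw [index_bot] at hH
      rw [h.card, hH] at h2
      have : 2 ^ 2 ≤ 2 ^ (2 * (k + 2) + 1) := Nat.pow_le_pow_right (by norm_num) (by omega)
      omega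
    · simp at hH
  obtain ⟨rfl, hcard, hL⟩ := wr_quotient h hG hsol
  have hTU : wT 0 x y (wa 0 x y) ≤ wU x y := fun g hg => (h.mem_T0_iff.1 hg).1
  obtain ⟨ε, hε, hord, χ, ⟨n, ρ, -, rfl⟩, h1, h2, h3⟩ := H53.wr_export hG S hS (wc 0 x y) h.ord_c
    h.c_mem (fun t ht => h.c_comm ht) (wT 0 x y (wa 0 x y)) (hTU.trans h.U_le)
    (h.T_klein h.a_mem h.aa h.a_notMem_Z)
    (fun t ht u hu => h.mem_T0_iff.2 ⟨h.conj_mem_U ht (hTU hu), by
      calc _ = t * (u * u) * t⁻¹ := by group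
        _ = 1 := by rw [(h.mem_T0_iff.1 hu).2]; group⟩)
    (p := 3) (by norm_num) 1 le_rfl (ZMod 3) (by simp) hL
  have hd1 : 32 ∣ Nat.card G := by
    have := card_subgroup_dvd_card (S : Subgroup G)
    rwa [h.card] at this
  have hd2 : 16 ∣ Nat.card (centralizer (wT 0 x y (wa 0 x y) : Set G)) := by
    have := card_dvd_of_le (h.U_le_centralizer.trans (centralizer_le hTU))
    rwa [h.card_U] at this
  obtain rfl : ε = 1 := by
    refine hε.resolve_right ?_
    rintro rfl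
    obtain ⟨a, ha⟩ := hd1
    obtain ⟨b, hb⟩ := hd2
    obtain ⟨c, hc⟩ : Odd (Nat.card (oddCore (centralizer ({wc 0 x y} : Set G)))) :=
      Nat.coprime_two_right.1 H22.coprime_card_pPrimeCore
    rw [ha, hb, hcard, hc] at hord
    push_cast at hord
    have : (4 : ℤ) * (a * b ^ 2) = 2 * (351 * (4 * c ^ 3 + 6 * c ^ 2 + 3 * c) + 175) + 1 := by
      nlinarith
    omega
  have hO : oddCore (centralizer ({wc 0 x y} : Set G)) = ⊥ := by
    have hker : ρ.ker = ⊥ := by
      refine (MonoidHom.normal_ker ρ).eq_bot_or_eq_top.resolve_right fun e => ?_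
      have e1 : ρ (wc 0 x y) = 1 := (e ▸ mem_top _ : wc 0 x y ∈ ρ.ker)
      have e2 := h2 1 (one_mem _)
      rw [mul_one, Representation.character, e1, ← map_one ρ] at e2
      have e3 := h1.symm.trans e2
      norm_num at e3
    have hn : ∀ v ∈ wU x y, v ∉ wZ x y → ∃ t ∈ (S : Subgroup G), t * v ≠ v * t := fun v hv hZ =>
      ⟨s, h.hz, fun e => hZ (h.mem_Z_of_comm hv h.hz h.z_notMem e.symm)⟩
    have h4 := h3 _ (h.U_le h.v_mem_U) h.vv (fun t ht => h.U_comm h.v_mem_U (hTU ht))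
      (hn _ h.v_mem_U h.v_notMem_Z)
    have hcv := mul_mem (h.Z_le_U h.c_mem_Z) h.v_mem_U
    have h5 := h3 _ (h.U_le hcv) (by simp only [wc_zero, wv_zero, wr_nf h])
      (fun t ht => h.U_comm hcv (hTU ht))
      (hn _ hcv fun e => h.v_notMem_Z ((mul_mem_cancel_left h.c_mem_Z).1 e))
    rw [eq_bot_iff]
    intro u hu
    have hu' : (u : G) ∈ centralizerPPrimeCore 2 (wc 0 x y) := ⟨u, hu, rfl⟩
    have h6 := char_four ρ h.cc h.vv (by
      have e2 := h2 1 (one_mem _)
      have e4 := h4 1 (one_mem _)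
      have e5 := h5 1 (one_mem _)
      rw [mul_one] at e2 e4 e5
      rw [h1, e2, e4, e5]; norm_num) u
    rw [h2 _ hu', h4 _ hu', h5 _ hu'] at h6
    have h7 : ρ.character u = ρ.character 1 := by
      rw [h1]; push_cast at h6 ⊢; linear_combination h6
    rw [ρ.char_one, H5.character_eq_finrank_iff] at h7
    have h8 : (u : G) ∈ ρ.ker := h7
    rw [hker, mem_bot] at h8
    exact Subtype.ext h8
  have hs := wr_HS h hG hsol hO
  have hcG : Nat.card G = 6048 := by
    rw [hO, card_bot] at hcard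
    have hle : centralizer (wT 0 x y (wa 0 x y) : Set G) ≤ centralizer ({x * x * y * y} : Set G) :=
      fun g hg => mem_centralizer_singleton_iff.2
        (hg _ (wc_zero x y ▸ mem_sup_left (mem_zpowers _))).symm
    have hd3 := card_dvd_of_le hle
    rw [hs.card] at hd3
    have hd4 : ¬ 3 ∣ Nat.card (centralizer (wT 0 x y (wa 0 x y) : Set G)) := fun e => by
      obtain ⟨w, hw⟩ := exists_prime_orderOf_dvd_card' 3 e
      rw [← orderOf_coe] at hw
      have := hs.eq_one_of_comm (hle w.2) (hw ▸ by decide) (hs.S_le h.a_mem) h.aa h.a_notMem_Z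
        (w.2 _ (mem_sup_right (mem_zpowers _))).symm
      simp [this] at hw
    rw [hcard] at hord
    generalize Nat.card (centralizer (wT 0 x y (wa 0 x y) : Set G)) = m at hord hd2 hd3 hd4
    obtain ⟨b, rfl⟩ := hd2
    have hb : b ≤ 6 := by have := Nat.le_of_dvd (by norm_num) hd3; omega
    interval_cases b <;> push_cast at hord <;> omega
  exact ⟨rfl, hs, hcG⟩

end

theorem nine_dvd {G : Type*} [Group G] [Finite G] (h9 : 9 ∣ Nat.card G) {u : G}
    (hu : orderOf u = 3) : 9 ∣ Nat.card (centralizer ({u} : Set G)) := by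
  haveI : Fact (Nat.Prime 3) := ⟨Nat.prime_three⟩
  have hc : Nat.card (zpowers u) = 3 := by rw [Nat.card_zpowers, hu]
  obtain ⟨Q, hQ⟩ := (IsPGroup.of_card (p := 3) (n := 1) hc).exists_le_sylow
  have h1 : 3 ^ 2 ∣ Nat.card Q := Q.pow_dvd_card_of_pow_dvd_card h9
  by_contra h2
  obtain ⟨n, hn⟩ := IsPGroup.iff_card.1 (Q.isPGroup'.to_inf_left (K := centralizer {u}))
  have h3 : zpowers u = (Q : Subgroup G) ⊓ centralizer {u} := by
    refine eq_of_le_of_card_ge (le_inf hQ (zpowers_le.2 (mem_centralizer_singleton_iff.2 rfl))) ?_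
    rw [hc, hn]
    have : n ≤ 1 := by
      by_contra h4
      exact h2 ((pow_dvd_pow 3 (by omega : 2 ≤ n)).trans (hn ▸ card_dvd_of_le inf_le_right))
    exact Nat.pow_le_pow_right (by norm_num) this
  haveI : Nontrivial Q := Finite.one_lt_card_iff_nontrivial.1
    (lt_of_lt_of_le (by norm_num) (Nat.le_of_dvd Nat.card_pos h1))
  haveI := Q.isPGroup'.center_nontrivial
  obtain ⟨⟨w, hw⟩, w1⟩ := exists_ne (1 : center Q)
  have h4 : (w : G) ∈ zpowers u := h3 ▸ ⟨w.2, mem_centralizer_singleton_iff.2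
    (congrArg Subtype.val (mem_center_iff.1 hw ⟨u, hQ (mem_zpowers u)⟩)).symm⟩
  obtain ⟨k, hk⟩ := mem_zpowers_of_prime_card (G := zpowers u) hc (g := ⟨w, h4⟩)
    (fun e => w1 (Subtype.ext (Subtype.ext (congrArg Subtype.val e :)))) (g' := ⟨u, mem_zpowers u⟩)
  refine h2 (h1.trans (card_dvd_of_le fun g hg => mem_centralizer_singleton_iff.2 ?_))
  rw [← show (w : G) ^ k = u from congrArg Subtype.val hk]
  exact (Commute.zpow_right (congrArg Subtype.val (mem_center_iff.1 hw ⟨g, hg⟩)) k).eq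

variable {K : Type*} [Field K] {Γ X : Type*} [Group Γ] [Group X] {ρ : Γ →* M3 K} {π : Γ →* X}

namespace Hyp

theorem nine_dvd_cent [Finite X] (h : Hyp ρ π) (h3 : (3 : K) ≠ 0) {z u : X} (hz : orderOf z = 2)
    (hu : orderOf u = 3) (e : u * z = z * u) (hr : IsConj u u⁻¹)
    (hi : ∀ p, p * p = 1 → p ≠ 1 → p * z = z * p → u * p = p * u → p = z)
    (h9 : 9 ∣ Nat.card X) : 9 ∣ Nat.card (centralizer ({z} : Set X)) := by
  refine (nine_dvd h9 hu).trans (card_dvd_of_le fun g hg => mem_centralizer_singleton_iff.2 ?_)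
  obtain ⟨t, rfl, ht⟩ := h.exists_lift (n := 2) (by norm_num) (hz ▸ pow_orderOf_eq_one z)
  obtain ⟨u, rfl⟩ := h.surj u
  obtain ⟨g, rfl⟩ := h.surj g
  have u3 := h.cube_of_real (hu ▸ pow_orderOf_eq_one _) hr
  have e1 := mem_centralizer_singleton_iff.1 hg
  have e2 : π u * π (g * t * g⁻¹) = π (g * t * g⁻¹) * π u := by
    simp only [map_mul, map_inv]
    rw [← mul_assoc, ← mul_assoc, ← e1, mul_assoc (π g), e, mul_assoc, mul_assoc, mul_assoc,
      mul_assoc, mul_right_inj, mul_right_inj, eq_inv_mul_iff_mul_eq, ← mul_assoc, e1,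
      mul_inv_cancel_right]
  have t2 : (g * t * g⁻¹) ^ 2 = 1 := by rw [conj_pow, ht]; simp
  have e3 := h.comm_of_cube h3 u3 (by rintro e; simp [e] at hu)
    (h.comm_of_lift (by norm_num) t2 e2).symm (h.comm_of_lift (by norm_num) ht e).symm
  have := hi (π (g * t * g⁻¹)) (by rw [← map_mul, ← sq, t2, map_one])
    (by
      rw [map_mul, map_mul, map_inv, Ne, conj_eq_one_iff]
      rintro e; simp [e] at hz)
    (by rw [← map_mul, e3, map_mul]) e2
  rwa [map_mul, map_mul, map_inv, mul_inv_eq_iff_eq_mul] at this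

theorem not_suz [Finite X] (h : Hyp ρ π) (h2 : (2 : K) ≠ 0) {S : Subgroup X}
    (hS : H42.SuzLike S) : False := by
  haveI := hS.klein
  have h4 := hS.klein.card_four
  obtain ⟨a, a1⟩ : ∃ a : center S, a ≠ 1 := by
    haveI : Nontrivial (center S) := Finite.one_lt_card_iff_nontrivial.1 (by omega)
    exact exists_ne 1
  obtain ⟨b, b1, ba⟩ : ∃ b : center S, b ≠ 1 ∧ b ≠ a := by
    exact ENat.exists_ne_ne_of_three_le (by
      rw [ENat.card_eq_coe_natCard, h4]; norm_num) _ _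
  have sq' : ∀ c : center S, ((c : S) : X) ^ 2 = 1 := fun c => by
    rw [← coe_pow, ← coe_pow, sq, IsKleinFour.mul_self]; rfl
  obtain ⟨a', ea, ha⟩ := h.exists_lift (by norm_num) (sq' a)
  obtain ⟨b', eb, hb⟩ := h.exists_lift (by norm_num) (sq' b)
  have cm : ∀ (c : center S) (c' g : Γ), π c' = c → c' ^ 2 = 1 → π g ∈ S → g * c' = c' * g :=
    fun c c' g e hc hg => h.comm_of_lift (by norm_num) hc
      (e ▸ congrArg Subtype.val (mem_center_iff.1 c.2 ⟨_, hg⟩))
  have : center S = ⊤ := by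
    rw [eq_top_iff]
    rintro ⟨x, hx⟩ -
    refine mem_center_iff.2 fun ⟨y, hy⟩ => Subtype.ext ?_
    obtain ⟨x, rfl⟩ := h.surj x
    obtain ⟨y, rfl⟩ := h.surj y
    have := h.comm_of_four h2 ha hb
      (fun e => a1 (Subtype.ext (Subtype.ext (by rw [← ea, e, map_one]; rfl))))
      (fun e => b1 (Subtype.ext (Subtype.ext (by rw [← eb, e, map_one]; rfl))))
      (fun e => ba (Subtype.ext (Subtype.ext (by
        rw [← ea, ← eb, ← mul_eq_one_iff_inv_eq.1 e, inv_eq_iff_mul_eq_one.2 (sq a' ▸ ha)]))))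
      (cm b b' a' eb hb (ea ▸ a.1.2)) (cm a a' y ea ha hy) (cm b b' y eb hb hy)
      (cm a a' x ea ha hx) (cm b b' x eb hb hx)
    simpa using congrArg π this
  rw [this, card_top, hS.card] at h4
  omega

theorem not_qd [Finite K] [Finite X] (h : Hyp ρ π) (h2 : (2 : K) ≠ 0) (hn : NoTv ρ)
    (S : Sylow 2 X) (hS : IsQuasiDihedral (S : Subgroup X)) : False := by
  haveI := h.simple
  obtain ⟨k, x, y, q⟩ := H42.QD.of_isQuasiDihedral hS
  obtain ⟨h3, hs⟩ := h.solvable_cent h2 hn q.ord_z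
  have le : ∀ s ∈ (S : Subgroup X), s ∈ centralizer ({H42.qz k x} : Set X) := fun s hs =>
    mem_centralizer_singleton_iff.2 (q.z_comm hs)
  obtain ⟨e⟩ := H76.exists_equiv_of_QD q (hs x (le x q.hx) y (le y q.hy) (k + 3)
    (q.ordx ▸ pow_orderOf_eq_one x) fun e => by
      have h4 := q.conj_of_mem_sq q.hy q.y_notMem (mem_zpowers _)
      rw [e, mul_inv_cancel_right, eq_inv_iff_mul_eq_one, ← pow_add,
        ← orderOf_dvd_iff_pow_eq_one, q.ordx] at h4
      have := (Nat.pow_dvd_pow_iff_le_right (by norm_num : 1 < 2) (l := 2)).1 h4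
      omega)
  have h9 : 9 ∣ Nat.card X := by
    rcases (H76.card_of_equiv q.ord_z e).2 with e | e <;> rw [e] <;> norm_num
  let u := e.symm H76.GL23.dd
  have hu : orderOf (u : X) = 3 := by
    rw [orderOf_coe, MulEquiv.orderOf_eq]
    exact orderOf_eq_prime (by decide) (by decide)
  have := h.nine_dvd_cent (h3 _ u.2 hu) q.ord_z hu (mem_centralizer_singleton_iff.1 u.2)
    (isConj_iff.2 ⟨(e.symm H76.GL23.u : X), by
      rw [← coe_mul, ← coe_inv, ← coe_mul, ← map_inv, ← map_mul, ← map_mul, H76.GL23.u_dd, map_inv]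
      rfl⟩)
    (fun p hp p1 pz pu => ?_) h9
  · rw [Nat.card_congr e.toEquiv, H76.GL23.natCard_eq] at this
    omega
  have key : ∀ p : H76.GL23, p * p = 1 → p ≠ 1 → H76.GL23.dd * p = p * H76.GL23.dd →
      p = H76.GL23.z := by decide +kernel
  have key' : ∀ p : centralizer ({H42.qz k x} : Set X), p * p = 1 → p ≠ 1 → u * p = p * u →
      e p = H76.GL23.z := fun p a b c => key _ (by rw [← map_mul, a, map_one]) (by simpa using b)
        (by simpa [u] using congrArg e c)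
  have e1 := key' ⟨p, mem_centralizer_singleton_iff.2 pz⟩ (Subtype.ext hp)
    (fun e => p1 (congrArg Subtype.val e)) (Subtype.ext pu)
  have e2 := key' ⟨_, mem_centralizer_singleton_iff.2 rfl⟩
    (Subtype.ext q.zz) (fun e => q.z_ne_one (congrArg Subtype.val e))
    (Subtype.ext (mem_centralizer_singleton_iff.1 u.2))
  exact congrArg Subtype.val (e.injective (e1.trans e2.symm))

theorem not_wr [Finite K] [Finite X] (h : Hyp ρ π) (h2 : (2 : K) ≠ 0) (hn : NoTv ρ)
    (S : Sylow 2 X) (hS : IsWreathed (S : Subgroup X)) : False := by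
  haveI := h.simple
  obtain ⟨k, x, y, s, q⟩ := H42.Wr.of_isWreathed hS
  obtain ⟨h3, hs⟩ := h.solvable_cent h2 hn q.ord_c
  have le : ∀ s ∈ (S : Subgroup X), s ∈ centralizer ({H42.wc k x y} : Set X) := fun s hs =>
    mem_centralizer_singleton_iff.2 (q.c_comm hs)
  obtain ⟨rfl, q', hc⟩ := wr_hs S hS q (hs x (le x q.hx) s (le s q.hz) (k + 2)
    (q.ordx ▸ pow_orderOf_eq_one x) fun e => by
      have h1 : x ^ 2 = y ^ 2 := by rw [← q.rel, conj_pow, e, mul_inv_cancel_right]
      have h4 : x ^ 2 ∈ zpowers x ⊓ zpowers y :=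
        ⟨pow_mem (mem_zpowers x) 2, h1 ▸ pow_mem (mem_zpowers y) 2⟩
      rw [q.disj, mem_bot, ← orderOf_dvd_iff_pow_eq_one, q.ordx] at h4
      have := (Nat.pow_dvd_pow_iff_le_right (by norm_num : 1 < 2) (l := 1)).1 h4
      omega)
  rw [H78.wc_zero] at h3
  obtain ⟨a, ha, a3, e⟩ := q'.exists_a
  have a1 : a ≠ 1 := by
    rintro rfl
    have := e.1
    rw [one_mul, inv_one, mul_one] at this
    exact q.az_notMem (by rw [H78.wa_zero, ← this, ← H78.wv_zero]; exact q.v_mem_U)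
  haveI : Fact (Nat.Prime 3) := ⟨Nat.prime_three⟩
  have hu := orderOf_eq_prime a3 a1
  have := h.nine_dvd_cent (h3 _ ha hu) q'.ord_z hu (mem_centralizer_singleton_iff.1 ha)
    (isConj_iff.2 ⟨_, q'.ea ha a3 e⟩) (fun p hp p1 pz pu => ?_) (by rw [hc]; norm_num)
  · rw [q'.card] at this
    omega
  by_cases hZ : p ∈ zpowers (x * y)
  · exact H78.wc_zero x y ▸ (q.Z_sq_eq_one hZ hp).resolve_left p1
  · exact (a1 (q'.eq_one_of_comm ha (by rw [hu]; decide) (mem_centralizer_singleton_iff.2 pz) hp hZ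
      pu)).elim

theorem psl_or_alt [Finite K] [Finite X] (h : Hyp ρ π) (h2 : (2 : K) ≠ 0) (hn : NoTv ρ) :
    (∃ (F : Type) (_ : Field F) (_ : Fintype F), Odd (Fintype.card F) ∧ 3 < Fintype.card F ∧
      Nonempty (X ≃* PSL(2, F))) ∨ Nonempty (X ≃* alternatingGroup (Fin 7)) := by
  haveI := h.simple
  obtain ⟨S⟩ : Nonempty (Sylow 2 X) := inferInstance
  haveI : Fact (Nat.Prime 2) := ⟨Nat.prime_two⟩
  letI : Fintype (GaloisField 2 4) := Fintype.ofFinite _
  have hF : Fintype.card (GaloisField 2 4) = 16 := by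
    rw [← Nat.card_eq_fintype_card, GaloisField.card 2 4 (by norm_num)]; norm_num
  obtain ⟨P⟩ : Nonempty (Sylow 2 (Cfsg.PSU 3 (GaloisField 2 4) 4)) := inferInstance
  rcases S0516.result h.nonab (h.prank h2) S hF P with ⟨n, -, ⟨e⟩⟩ | hS | hS | ⟨⟨e⟩⟩
  · exact (H22.gw_simple h.simple h.nonab S e).2
  · exact (h.not_qd h2 hn S hS).elim
  · exact (h.not_wr h2 hn S hS).elim
  · exact (h.not_suz h2 ((H42.suzLike_sylow hF P).of_equiv e)).elim

end Hyp

end Cfsg.Agent.H10.P3
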