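import Cfsg.Agent.H10.P3Nrm
import Cfsg.Agent.H10.P3Core
import Cfsg.Agent.H10.P3U35

/-!
`L₂(7)` is not maximal in `U₃(5)`.
-/

set_option autoImplicit false

open Matrix Subgroup
open scoped MatrixGroups

namespace Cfsg.Agent.H10.P3

open Cfsg.Geo U35

variable {K : Type*} [Field K] {Γ X : Type*} [Group Γ] [Group X] {ρ : Γ →* M3 K} {π : Γ →* X}

theorem l7_gen : ∃ a b : PSL(2, ZMod 7), a ^ 2 = 1 ∧ a ≠ 1 ∧ b ^ 3 = 1 ∧ b ≠ 1 ∧ (a * b) ^ 7 = 1 ∧
    a * b ≠ 1 ∧ ∀ N : Subgroup PSL(2, ZMod 7), a ∈ N → b ∈ N → N = ⊤ := by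
  let S : SL(2, ZMod 7) := ⟨!![0, -1; 1, 0], by decide⟩
  let U : SL(2, ZMod 7) := ⟨!![0, 1; -1, -1], by decide⟩
  let f := QuotientGroup.mk' (center SL(2, ZMod 7))
  have one : ∀ g, f g = 1 ↔ ∃ r : ZMod 7, r ^ 2 = 1 ∧ diagonal (fun _ => r) = g.1 := fun g => by
    rw [QuotientGroup.mk'_apply, QuotientGroup.eq_one_iff, Matrix.SpecialLinearGroup.mem_center_iff]
    rfl
  refine ⟨f S, f U, ?_, ?_, ?_, ?_, ?_, ?_, fun N ha hb => ?_⟩
  iterate 6
    simp only [← map_mul, ← map_pow, Ne, one]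
    decide +kernel
  rw [eq_top_iff]
  rintro x -
  obtain ⟨x, rfl⟩ := QuotientGroup.mk'_surjective _ x
  have e1 : ∀ c : ZMod 7, ((S * U) ^ c.val).1 = 1 + single 0 1 c := by decide +kernel
  have e2 : ∀ c : ZMod 7, (S * ((S * U) ^ c.val)⁻¹ * S⁻¹).1 = 1 + single 1 0 c := by
    decide +kernel
  have h1 : ∀ n : ℕ, f ((S * U) ^ n) ∈ N := fun n => by
    rw [map_pow, map_mul]; exact pow_mem (mul_mem ha hb) _
  refine H9.sl_transvection_induction (fun x => f x ∈ N) (by simp) (fun i j hij c => ?_)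
    (fun a b ha hb => by rw [map_mul]; exact N.mul_mem ha hb) x
  fin_cases i <;> fin_cases j
  · exact absurd rfl hij
  · exact (show _ = SpecialLinearGroup.transvection hij c from Subtype.ext (e1 c)) ▸ h1 _
  · rw [← show _ = SpecialLinearGroup.transvection hij c from Subtype.ext (e2 c), map_mul, map_mul,
      map_inv, map_inv]
    exact mul_mem (mul_mem ha (inv_mem (h1 _))) (inv_mem ha)
  · exact absurd rfl hij

theorem Hyp.l7_trace [Finite X] (h : Hyp ρ π) (e : IsL7 X) (h7 : (7 : K) ≠ 0) {g : Γ}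
    (hg : g ^ 7 = 1) (h1 : g ≠ 1) : (ρ g).trace ^ 2 + (ρ g).trace + 2 = 0 ∧
      (ρ g⁻¹).trace = -1 - (ρ g).trace := by
  have e1 := h.trace_sq g
  have e2 := h.trace_sq g⁻¹
  rw [(h.l7_seven e hg).1 (by norm_num)] at e1
  rw [(h.l7_seven e (by rw [inv_pow, hg, inv_one])).1 (by norm_num), inv_inv] at e2
  have e3 : (ρ g⁻¹).trace = -1 - (ρ g).trace :=
    mul_left_cancel₀ (sub_ne_zero.2 (h.l7_ne e h7 hg h1)) (by linear_combination e1 - e2)
  exact ⟨by rw [e3] at e1; linear_combination -e1, e3⟩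

theorem Hyp.gram_eq (h : Hyp ρ π) {G J I : M3 K} {τ : Γ → M3 K} (hI : J * I = 1)
    (h1 : ∀ g, (ρ g)ᵀ * G * τ g = G) (h2 : ∀ g, (ρ g)ᵀ * J * τ g = J) : ∃ c : K, G = c • J := by
  have hI' := mul_eq_one_comm.1 hI
  obtain ⟨c, hc⟩ := h.dual.scalar_of_comm (M := G * I) fun g => by
    have e : J * τ g⁻¹ * I * (ρ g⁻¹)ᵀ = 1 := mul_eq_one_comm.1 (by
      rw [← mul_assoc, ← mul_assoc, h2, hI])
    have e' : τ g⁻¹ * I * (ρ g⁻¹)ᵀ = I := by
      rw [← one_mul (τ g⁻¹), ← hI', mul_assoc I, mul_assoc I, mul_assoc I, e, mul_one]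
    rw [dual_apply]
    conv_lhs => rw [← h1 g⁻¹]
    rw [mul_assoc, mul_assoc, ← mul_assoc (τ _), e', mul_assoc]
  exact ⟨c, by rw [← mul_one G, ← hI', ← mul_assoc, hc, smul_mul_assoc, one_mul]⟩

/-- The matrices mapping a set of vectors into itself. -/
def stab [Finite K] (T : Set (V3 K)) : Subgroup (GL (Fin 3) K) where
  carrier := {g | ∀ x ∈ T, g.val *ᵥ x ∈ T}
  one_mem' x hx := by simpa using hx
  mul_mem' ha hb x hx := by rw [Units.val_mul, ← mulVec_mulVec]; exact ha _ (hb x hx)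
  inv_mem' {g} hg x hx := by
    obtain ⟨y, hy, rfl⟩ := ((Set.toFinite T).injOn_iff_bijOn_of_mapsTo (f := (g.val *ᵥ ·)) hg).1
      (fun a _ b _ e => units_mulVec_inj g e) |>.surjOn hx
    simpa using hy

/-- The isometries of a sesquilinear form with Gram matrix `J`. -/
def fixF (τ : K →+* K) (J : M3 K) : Subgroup (GL (Fin 3) K) where
  carrier := {g | g.valᵀ * J * g.val.map τ = J}
  one_mem' := by simp
  mul_mem' {g k} hg hk := by
    simp only [Set.mem_setOf_eq, Units.val_mul, transpose_mul, Matrix.map_mul] at hg hk ⊢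
    rw [mul_assoc k.valᵀ, ← mul_assoc, mul_assoc k.valᵀ, hg, hk]
  inv_mem' {g} hg := by
    simp only [Set.mem_setOf_eq] at hg ⊢
    conv_lhs => rw [← hg, ← mul_assoc, ← mul_assoc, ← transpose_mul, mul_assoc, ← Matrix.map_mul]
    simp

theorem mem_fixF {τ : K →+* K} {J : M3 K} {g : GL (Fin 3) K} :
    g ∈ fixF τ J ↔ g.valᵀ * J * g.val.map τ = J := Iff.rfl

theorem conj_mem_fixF {τ : K →+* K} {J : M3 K} {g B : GL (Fin 3) K} :
    B⁻¹ * g * B ∈ fixF τ (B.valᵀ * J * B.val.map τ) ↔ g ∈ fixF τ J := by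
  have u1 : IsUnit B.valᵀ := (isUnit_transpose _).2 B.isUnit
  have u2 : IsUnit (B.val.map τ) := B.isUnit.map τ.mapMatrix
  rw [mem_fixF, mem_fixF, ← mul_assoc, ← mul_assoc, ← transpose_mul, mul_assoc, ← Matrix.map_mul,
    ← Units.val_mul, ← mul_assoc B, mul_inv_cancel_left, Units.val_mul, transpose_mul,
    Matrix.map_mul, ← mul_assoc, u2.mul_left_inj, mul_assoc, mul_assoc, u1.mul_right_inj,
    mul_assoc]

theorem map_cross {R S : Type*} [CommRing R] [CommRing S] (f : R →+* S) (u w : V3 R) :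
    (f ∘ u) ⨯₃ (f ∘ w) = f ∘ (u ⨯₃ w) := by
  ext i; fin_cases i <;> simp [cross_apply]

theorem Hyp.l7_normal [Finite X] (h : Hyp ρ π) (e : IsL7 X) [CharP K 5] :
    ∃ (ι : R →+* K) (B : (M3 K)ˣ) (a b : Γ), Function.Injective ι ∧ P3.cnj ρ B a = mA.map ι ∧
      P3.cnj ρ B b = mB.map ι ∧ ∀ N : Subgroup Γ, a ∈ N → b ∈ N → N = ⊤ := by
  have h5 : (5 : K) = 0 := CharP.cast_eq_zero K 5
  have h2 : (2 : K) ≠ 0 := fun e => one_ne_zero (α := K) (by linear_combination h5 - 2 * e)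
  have h7 : (7 : K) ≠ 0 := fun e => h2 (by linear_combination e - h5)
  have h' := h.congr e.some
  generalize e.some.toMonoidHom.comp π = π' at h'
  have hk := fun z => h'.l7_ker ⟨MulEquiv.refl _⟩ (z := z)
  obtain ⟨a, b, a2, a1, b3, b1, u7, u1, gen⟩ := l7_gen
  obtain ⟨a, rfl⟩ := h'.surj a
  obtain ⟨b, rfl⟩ := h'.surj b
  replace a2 := hk (a ^ 2) (by rw [map_pow, a2])
  replace b3 := hk (b ^ 3) (by rw [map_pow, b3])
  obtain ⟨t1, t2⟩ := h.l7_trace e h7 (g := a * b) (hk _ (by rw [map_pow, map_mul, u7]))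
    fun e => u1 (by rw [← map_mul, e, map_one])
  obtain ⟨v, φ, e1, e2⟩ := h.exists_refl h2 a2 (by rintro rfl; exact a1 (map_one _))
  have tb := h'.trace_of_cube b3 b1
  have tb' := h'.trace_of_cube (g := b ^ 2) (by rw [← pow_mul, mul_comm, pow_mul, b3, one_pow])
    (by rw [pow_eq_inv b3, map_inv, Ne, inv_eq_one]; exact b1)
  have ea : ρ a = vecMulVec v φ - 1 := by rw [← e1, add_sub_cancel_right]
  have k : ∀ g, (ρ g).trace = 0 → φ ⬝ᵥ ρ g *ᵥ v = (ρ (a * g)).trace := fun g e => by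
    rw [map_mul, ea, sub_mul, one_mul, trace_sub, e, sub_zero, vecMulVec_mul, trace_vv,
      dotProduct_mulVec]
  have k1 := k b tb
  have k2 := k _ tb'
  rw [pow_eq_inv b3, ← trace_conj ρ _ a⁻¹, inv_inv, ← mul_assoc, inv_mul_cancel, one_mul,
    show b⁻¹ * a = (a * b)⁻¹ by rw [_root_.mul_inv_rev, ← pow_eq_inv a2, pow_one], t2,
    ← pow_eq_inv b3, map_pow, sq, ← mulVec_mulVec] at k2
  have b3' : ∀ x, ρ b *ᵥ ρ b *ᵥ ρ b *ᵥ x = x := fun x => by
    rw [mulVec_mulVec, mulVec_mulVec, ← pow_three', ← map_pow, b3, map_one, one_mulVec]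
  generalize (ρ (a * b)).trace = α at t1 k1 k2
  letI := ZMod.algebra K 5
  let ι : R →+* K := (QuadraticAlgebra.lift ⟨α, by
    rw [Algebra.smul_def, Algebra.smul_def, map_ofNat, map_ofNat]
    linear_combination t1 - (1 + α) * h5⟩).toRingHom
  have hι : ∀ x y : ℕ, ι ⟨x, y⟩ = x + y * α := fun x y => by
    change (x : ZMod 5) • (1 : K) + (y : ZMod 5) • α = _
    simp [Algebra.smul_def]
  have i1 : ι ⟨1, 0⟩ = 1 := map_one ι
  have i2 : ι ⟨2, 0⟩ = 2 := by simpa using hι 2 0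
  have i3 : ι ⟨0, 1⟩ = α := by simpa using hι 0 1
  have i4 : ι ⟨4, 0⟩ = -1 := (hι 4 0).trans (by push_cast; linear_combination h5)
  have i5 : ι ⟨4, 4⟩ = -1 - α := (hι 4 4).trans (by push_cast; linear_combination (1 + α) * h5)
  have hd : of ![φ, φ ᵥ* ρ b ᵥ* ρ b, φ ᵥ* ρ b] * cols3 v (ρ b *ᵥ v) (ρ b *ᵥ ρ b *ᵥ v) =
      (mJ.map ι)ᵀ := by
    ext1 i
    rw [mul_apply_eq_vecMul, vecMul_cols3,
      show of _ i = ![φ, φ ᵥ* ρ b ᵥ* ρ b, φ ᵥ* ρ b] i from rfl]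
    fin_cases i <;> intro j <;> fin_cases j <;>
      simp [-vecMul_vecMul, -mulVec_mulVec, ← dotProduct_mulVec, b3', e2, k1, k2, mJ, i2, i3, i5]
  obtain ⟨B, hB⟩ : IsUnit (cols3 v (ρ b *ᵥ v) (ρ b *ᵥ ρ b *ᵥ v)) := by
    have := congrArg Matrix.det hd
    rw [det_mul, det_transpose, ← RingHom.mapMatrix_apply, ← RingHom.map_det, facts.2.2.2,
      map_one] at this
    exact (isUnit_iff_isUnit_det _).2 (IsUnit.of_mul_eq_one_right _ this)
  refine ⟨ι, B, a, b, (injective_iff_map_eq_zero ι).2 fun x hx => ?_, ?_, ?_, fun N ha hb => ?_⟩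
  · by_contra h0
    simpa [hx] using congrArg ι (pow_24 x h0)
  · rw [cnj_apply, mul_assoc, Units.inv_mul_eq_iff_eq_mul, hB, ea]
    refine Matrix.ext_of_mulVec_single fun j => ?_
    rw [← mulVec_mulVec, ← mulVec_mulVec, cols3_mulVec, cols3_mulVec, sub_mulVec, vv_mulVec]
    fin_cases j <;> simp [-mulVec_mulVec, e2, k1, k2, mA, i1, i3, i4, i5, two_smul] <;> abel
  · rw [cnj_apply, mul_assoc, Units.inv_mul_eq_iff_eq_mul, hB]
    refine Matrix.ext_of_mulVec_single fun j => ?_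
    rw [← mulVec_mulVec, ← mulVec_mulVec, cols3_mulVec, cols3_mulVec]
    fin_cases j <;> simp [-mulVec_mulVec, b3', mB]
  · rw [eq_top_iff]
    rintro g -
    obtain ⟨g', h1, h3⟩ := (gen (N.map _) ⟨a, ha, rfl⟩ ⟨b, hb, rfl⟩).ge
      (mem_top (π' g))
    rwa [← (injective_iff_map_eq_one _).2 hk h3]

theorem l7_not_max {F : Type*} [Field F] [Fintype F] (hF : Fintype.card F = 5 ^ 2)
    {H P : Subgroup (GL (Fin 3) F)} (h : IsResidualCore H P)
    (e : IsL7 (P ⧸ (scalars (Fin 3) F).subgroupOf P)) : ¬ IsMaximalIn (SUG 3 F 5) H := by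
  rintro ⟨hlt, hmax⟩
  haveI := Fact.mk hF
  haveI : Fact (Nat.Prime 5) := ⟨Nat.prime_five⟩
  haveI : CharP F 5 := charP_of_card_eq_prime_pow hF
  have hy := hyp_of_core h
  obtain ⟨ι, B, a, b, hι, ha, hb, gen⟩ := hy.l7_normal e
  have all : ∀ N : Subgroup (GL (Fin 3) F), B⁻¹ * a * B ∈ N → B⁻¹ * b * B ∈ N →
      ∀ g : P, B⁻¹ * g * B ∈ N := fun N h1 h2 g => by
    simpa using (gen (N.comap ((MulAut.conj B⁻¹).toMonoidHom.comp P.subtype))
      (by simpa using h1) (by simpa using h2)).ge (mem_top g)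
  have iso : ∀ g ∈ [mA, mB, mS, mR], (g.map ι)ᵀ * mJ.map ι * (g.map ι).map (cj F 5) = mJ.map ι ∧
      (g.map ι).det = 1 := fun g hg => by
    refine ⟨?_, by rw [← RingHom.mapMatrix_apply, ← RingHom.map_det, (isom g hg).2, map_one]⟩
    conv_rhs => rw [← (isom g hg).1, Matrix.map_mul, Matrix.map_mul]
    congr 1
    ext i j
    simp [cj_apply]
  have gu : ∀ g : GL (Fin 3) F, B⁻¹ * g * B ∈ fixF (cj F 5) (B.valᵀ * B.val.map (cj F 5)) ↔
      g ∈ GU 3 F 5 := fun g => by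
    rw [mem_GU_iff, isIsom_iff, ← mul_one B.valᵀ, conj_mem_fixF, mem_fixF, mul_one]
  obtain ⟨c, hc⟩ := (hy.cnj B).gram_eq (G := B.valᵀ * B.val.map (cj F 5)) (J := mJ.map ι)
    (I := mI.map ι) (τ := fun g => (cnj (rhoP P) B g).map (cj F 5))
    (by rw [← Matrix.map_mul, facts.1]; simp)
    (fun g => (gu g).2 (hlt.le (h.le g.2)).1) (all (fixF (cj F 5) (mJ.map ι))
      (by rw [mem_fixF, show (B⁻¹ * a * B).val = _ from ha]; exact (iso _ (by simp)).1)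
      (by rw [mem_fixF, show (B⁻¹ * b * B).val = _ from hb]; exact (iso _ (by simp)).1))
  have su : ∀ g ∈ [mA, mB, mS, mR], ∃ m ∈ SUG 3 F 5, (B⁻¹ * m * B).val = g.map ι := fun g hg => by
    obtain ⟨m, hm⟩ := (isUnit_iff_isUnit_det _).2 ((iso g hg).2 ▸ isUnit_one)
    refine ⟨B * m * B⁻¹, ⟨(gu _).1 ?_, H99.mem_sl.2 ?_⟩, by simp [mul_assoc, hm]⟩
    · rw [show B⁻¹ * (B * m * B⁻¹) * B = m by group, mem_fixF, hm, hc, mul_smul_comm,
        smul_mul_assoc, (iso g hg).1]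
    · rw [Units.val_mul, Units.val_mul, det_mul, det_mul, hm, (iso g hg).2, mul_one, ← det_mul,
        Units.mul_inv, det_one]
  let T : Set (V3 F) := {x | ∃ n ∈ pts, ∃ c : F, x = c • (ι ∘ dec n)}
  have mv : ∀ (g : M3 R) v, g.map ι *ᵥ (ι ∘ v) = ι ∘ (g *ᵥ v) := fun g v =>
    funext fun i => (RingHom.map_mulVec ι g v i).symm
  have st : ∀ g ∈ [mA, mB, mS], ∀ m : GL (Fin 3) F, m.val = g.map ι → m ∈ stab T := by
    rintro g hg m hm _ ⟨n, hn, c, rfl⟩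
    obtain ⟨k, hk, e⟩ := pts_inv g hg n hn
    obtain ⟨d, hd⟩ := exists_smul_of_cross (a := ι ∘ (g *ᵥ dec n)) (b := ι ∘ dec k)
      (fun e => (pts_out.2 k hk).2 (funext fun i => hι (by simpa using congrFun e i)))
      (by rw [map_cross, e]; ext; simp)
    exact ⟨k, hk, c * d, by rw [mulVec_smul, hm, mv, hd, smul_smul]⟩
  have inn : ∀ m ∈ H, Inn (rhoP P) m := fun m hm => hy.l7_inn e
    (by rw [show (7 : F) = (7 : ℕ) by norm_num, Ne, CharP.cast_eq_zero_iff F 5]; decide)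
    fun g => ⟨⟨_, h.normal m hm g g.2⟩, rfl⟩
  have hle : H ≤ (stab T).comap (MulAut.conj B⁻¹).toMonoidHom := fun m hm => by
    obtain ⟨c, k, h3⟩ := inn m hm
    rintro _ ⟨n, hn, d, rfl⟩
    obtain ⟨n', hn', d', e⟩ := all (stab T) (st mA (by simp) _ ha) (st mB (by simp) _ hb) k _
      ⟨n, hn, d, rfl⟩
    refine ⟨n', hn', c * d', ?_⟩
    rw [mul_smul, ← e, ← smul_mulVec]
    simp [h3, rhoP]
  rcases hmax _ (le_inf hle hlt.le) inf_le_right with e1 | e1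
  · obtain ⟨m, h1, h2⟩ := su mS (by simp)
    obtain ⟨c, k, h3⟩ := inn m (e1.le ⟨st mS (by simp) _ h2, h1⟩)
    have h4 : c ^ 3 = 1 := by
      simpa [h3, hy.det] using (mem_SUG.1 h1).2
    obtain ⟨θ, l⟩ := exists_l2 e.some
    have h5 : k ^ 84 = 1 := hy.l7_ker e (by
      rcases l7_cls l (piP P k) with ⟨e, -⟩ | ⟨-, e | e⟩ <;> rw [map_pow, pow_mod_eq e, pow_zero])
    have h6 : m ^ 84 = 1 := Units.ext (by
      rw [Units.val_pow_eq_pow_val, h3, smul_pow, ← map_pow, h5, pow_mul c 3 28, h4]; simp)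
    have h7 : (B⁻¹ * m * B) ^ 5 = 1 := Units.ext (by
      rw [Units.val_pow_eq_pow_val, h2, ← RingHom.mapMatrix_apply, ← map_pow, facts.2.1]; simp)
    rw [← MulAut.conj_inv_apply, ← map_pow, map_eq_one_iff _ (MulEquiv.injective _)] at h7
    rw [pow_mod_eq h7, pow_eq_inv h7, inv_eq_one] at h6
    refine facts.2.2.1 (Matrix.map_injective hι ?_)
    simp [← h2, h6]
  · obtain ⟨m, h1, h2⟩ := su mR (by simp)
    obtain ⟨n, hn, c, h3⟩ := (e1.ge h1).1 _ ⟨625, pts_out.1, 1, rfl⟩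
    refine (pts_out.2 n hn).1 (funext fun i => hι ?_)
    rw [one_smul, show ((MulAut.conj B⁻¹).toMonoidHom m).val = _ from h2, mv] at h3
    simpa [h3] using (congrFun (map_cross ι (mR *ᵥ dec 625) (dec n)) i).symm

end Cfsg.Agent.H10.P3
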