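import Cfsg.Agent.H10.P3Eig
import Cfsg.Agent.H85.Swaps
import Cfsg.Agent.H28.Dickson

/-!
Involutions in odd characteristic: four-groups and the centralizer of an involution.
-/

set_option autoImplicit false

open Matrix Subgroup
open scoped MatrixGroups

namespace Cfsg.Agent.H10.P3

variable {K : Type*} [Field K] {Γ X : Type*} [Group Γ] [Group X] {ρ : Γ →* M3 K} {π : Γ →* X}

theorem tame_solvable {F G : Type*} [Field F] [Finite F] [Group G] [Finite G] (p : ℕ)
    [hp : Fact p.Prime] [CharP F p] (θ : G →* PGL(2, F)) (hθ : Function.Injective θ)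
    (hG : ¬ p ∣ Nat.card G) : Group.IsSolvable G ∨ ∀ g : G, g ^ 30 = 1 := by
  classical
  have tame : ∀ g : G, g ^ p = 1 → g = 1 := fun g hg => by
    by_contra h1
    exact hG (orderOf_eq_prime hg h1 ▸ orderOf_dvd_natCard g)
  have sub : ∀ (t : PGL(2, F)) (A : Subgroup PGL(2, F)), H28.aff 1 1 ∈ A →
      θ.range ≠ A.map (MulAut.conj t).toMonoidHom := fun t A hA e => by
    obtain ⟨g, hg⟩ : t * H28.aff 1 1 * t⁻¹ ∈ θ.range := e ▸ ⟨_, hA, rfl⟩
    have := tame g (hθ (by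
      rw [map_pow, hg, conj_pow, (H28.aff_pow_char p 1 1).2 rfl, map_one]; simp))
    rw [this, map_one, eq_comm, mul_inv_eq_one, mul_eq_left, ← H28.aff_one_zero] at hg
    exact one_ne_zero (H28.aff_inj hg).2
  haveI := H85.isSolvable_perm_fin_four
  rcases H28.pgl2_dickson' p θ hθ with ⟨x, hx⟩ | ⟨h, -⟩ | ⟨c, -, hc, -⟩ |
    ⟨-, ⟨⟨e⟩⟩ | ⟨⟨e⟩⟩ | ⟨⟨e⟩⟩⟩ | ⟨rfl, ⟨e⟩⟩ | ⟨t, K, -, e | ⟨-, e⟩⟩
  · obtain ⟨χ, hχ⟩ := H28.pgl_chi p x
    refine Or.inl (Group.isSolvable_of_isSolvable_injective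
      (f := χ.comp (θ.codRestrict _ hx)) ((injective_iff_map_eq_one _).2 fun g hg => ?_))
    exact tame g (hθ (by rw [map_pow, map_one]; exact (hχ _).1 hg))
  · exact Or.inl (Group.isSolvable_of_comm IsCyclic.isMulCommutative.is_comm.comm)
  · haveI := normal_of_index_eq_two hc
    haveI : Fact (Nat.Prime 2) := ⟨Nat.prime_two⟩
    haveI := isCyclic_of_prime_card (α := G ⧸ zpowers c) hc
    exact Or.inl ((Group.isSolvable_iff_subgroup_quotient (zpowers c)).2
      ⟨Group.isSolvable_of_comm IsCyclic.isMulCommutative.is_comm.comm,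
        Group.isSolvable_of_comm IsCyclic.isMulCommutative.is_comm.comm⟩)
  · exact Or.inl (Group.isSolvable_of_isSolvable_injective (f := e.toMonoidHom) e.injective)
  · exact Or.inl (Group.isSolvable_of_isSolvable_injective (f := e.toMonoidHom) e.injective)
  · have : ∀ g : alternatingGroup (Fin 5), g ^ 30 = 1 := by decide +kernel
    exact Or.inr fun g => e.injective (by rw [map_pow, this, map_one])
  · refine (hG ?_).elim
    rw [Nat.card_congr e.toEquiv, Nat.card_eq_fintype_card, card_alternatingGroup]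
    decide
  · exact (sub t (H28.subPGL K) ⟨H28.aff 1 1, by simp [H28.map_aff]⟩ e).elim
  · exact (sub t (H28.subPSL K) ⟨H28.aff 1 1, H28.aff_one_mem_pslIn 1, by simp [H28.map_aff]⟩ e).elim

namespace Hyp

theorem exists_refl (h : Hyp ρ π) (h2 : (2 : K) ≠ 0) {t : Γ} (ht : t ^ 2 = 1) (h1 : t ≠ 1) :
    ∃ v φ, ρ t + 1 = vecMulVec v φ ∧ φ ⬝ᵥ v = 2 := by
  have e1 : (ρ t + 1) * (ρ t + 1) = (2 : K) • (ρ t + 1) := by
    rw [mul_add, add_mul, add_mul, ← map_mul, ← sq, ht, map_one, two_smul]; simp [add_comm]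
  have e2 : (ρ t + 1).trace = 2 := by rw [trace_add, h.trace_of_sq ht h1]; simp; norm_num
  have e3 := P3.trace_sq (ρ t + 1)
  rw [sq, e1, trace_smul, e2, smul_eq_mul] at e3
  have e4 : (ρ t + 1).adjugate.trace = 0 :=
    (mul_eq_zero.1 (by linear_combination e3)).resolve_left h2
  obtain ⟨v, φ, e⟩ := exists_vv_of_adj (N := ρ t + 1) (by rw [adj_eq, e1, e2, e4]; simp)
  exact ⟨v, φ, e, by rw [← trace_vv, ← e, e2]⟩

theorem four_sum (h : Hyp ρ π) (h2 : (2 : K) ≠ 0) {a b : Γ} (ha : a ^ 2 = 1) (hb : b ^ 2 = 1)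
    (a1 : a ≠ 1) (b1 : b ≠ 1) (hab : a * b ≠ 1) (e : a * b = b * a) :
    (ρ a + 1) * (ρ b + 1) = 0 := by
  obtain ⟨v, φ, e1, -⟩ := h.exists_refl h2 ha a1
  have e2 : (ρ a + 1) * (ρ b + 1) = vecMulVec v (φ ᵥ* (ρ b + 1)) := by
    rw [e1, vecMulVec_mul]
  have e3 : ((ρ a + 1) * (ρ b + 1)).trace = 0 := by
    simp only [mul_add, add_mul, ← map_mul, trace_add, mul_one, one_mul, h.trace_of_sq ha a1,
      h.trace_of_sq hb b1, h.trace_of_sq (g := a * b) (by
        rw [Commute.mul_pow e, ha, hb, one_mul]) hab]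
    simp; norm_num
  have e4 : (ρ a + 1) * (ρ b + 1) * ((ρ a + 1) * (ρ b + 1)) = (4 : K) • ((ρ a + 1) * (ρ b + 1)) := by
    have ea : ρ a * ρ a = 1 := by rw [← map_mul, ← sq, ha, map_one]
    have eb : ρ b * ρ b = 1 := by rw [← map_mul, ← sq, hb, map_one]
    have ec : ρ b * ρ a = ρ a * ρ b := by rw [← map_mul, ← e, map_mul]
    have ed : ∀ M, ρ b * (ρ a * M) = ρ a * (ρ b * M) := fun M => by
      rw [← mul_assoc, ec, mul_assoc]
    have ea' : ∀ M, ρ a * (ρ a * M) = M := fun M => by rw [← mul_assoc, ea, one_mul]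
    rw [show (4 : K) = 1 + 1 + 1 + 1 by norm_num]
    simp only [mul_add, add_mul, mul_one, one_mul, mul_assoc, ea, eb, ec, ed, ea', add_smul,
      one_smul]
    abel
  rw [e2, trace_vv] at e3
  rw [e2, vv_mul, e3, zero_smul, eq_comm, smul_eq_zero] at e4
  rw [e2]
  exact e4.resolve_left (by rw [show (4 : K) = 2 * 2 by norm_num]; exact mul_ne_zero h2 h2)

/-- The centralizer of a four-group is abelian. -/
theorem comm_of_four (h : Hyp ρ π) (h2 : (2 : K) ≠ 0) {a b : Γ} (ha : a ^ 2 = 1) (hb : b ^ 2 = 1)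
    (a1 : a ≠ 1) (b1 : b ≠ 1) (hab : a * b ≠ 1) (e : a * b = b * a) {x y : Γ}
    (xa : x * a = a * x) (xb : x * b = b * x) (ya : y * a = a * y) (yb : y * b = b * y) :
    x * y = y * x := by
  have hc : (a * b) ^ 2 = 1 := by rw [Commute.mul_pow e, ha, hb, one_mul]
  have key : ∀ s, s ^ 2 = 1 → s ≠ 1 → ∃ v, v ≠ 0 ∧ ρ s *ᵥ v = v ∧ ∀ r, r ^ 2 = 1 → r ≠ 1 →
      r * s ≠ 1 → r * s = s * r → ρ r *ᵥ v = -v := fun s hs s1 => by
    obtain ⟨v, φ, e1, e2⟩ := h.exists_refl h2 hs s1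
    have e3 : (ρ s + 1) *ᵥ v = (2 : K) • v := by rw [e1, vv_mulVec, e2]
    refine ⟨v, fun e => h2 (by simp [← e2, e]), ?_, fun r hr r1 h3 h4 => ?_⟩
    · rwa [add_mulVec, one_mulVec, two_smul, add_left_inj] at e3
    · have := congrArg (· *ᵥ v) (h.four_sum h2 hr hs r1 s1 h3 h4)
      simp only [← mulVec_mulVec, e3, mulVec_smul, zero_mulVec, smul_eq_zero, h2, false_or] at this
      rwa [add_mulVec, one_mulVec, add_eq_zero_iff_eq_neg] at this
  obtain ⟨u, u0, u1, u2⟩ := key a ha a1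
  obtain ⟨v, v0, v1, v2⟩ := key b hb b1
  obtain ⟨w, w0, -, w2⟩ := key _ hc hab
  have w3 := w2 a ha a1 (by rwa [← mul_assoc, ← sq, ha, one_mul]) (by rw [mul_assoc, ← e])
  have w4 := w2 b hb b1 (by rwa [e, ← mul_assoc, ← sq, hb, one_mul]) (by rw [← mul_assoc, ← e])
  have h4 : (2 : K) ≠ -2 := fun e => h2 (by
    have : (2 : K) * 2 = 0 := by linear_combination e
    simpa using this)
  apply h.inj
  rw [map_mul, map_mul]
  refine comm_of_eig (M := ρ a - ρ b) (v := ![u, v, w]) (a := ![2, -2, 0]) ?_ ?_ ?_ ?_ ?_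
  · intro i j hij
    fin_cases i <;> fin_cases j <;> simp [h2, h2.symm, h4, h4.symm] at hij ⊢
  · intro i; fin_cases i <;> simpa
  · intro i
    fin_cases i <;> simp [sub_mulVec, u1, v1, w3, w4, u2 b hb b1 (e ▸ hab) e.symm,
      v2 a ha a1 hab e, two_smul]
    abel
  · rw [mul_sub, sub_mul, ← map_mul, ← map_mul, xa, xb, map_mul, map_mul]
  · rw [mul_sub, sub_mul, ← map_mul, ← map_mul, ya, yb, map_mul, map_mul]

theorem prank (h : Hyp ρ π) (h2 : (2 : K) ≠ 0) : PRankLE 2 2 X := by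
  classical
  intro A hA hp
  by_contra hc
  have key : ∀ s : Finset X, s.card ≤ 4 → ∃ a : Γ, π a ∈ A ∧ π a ∉ s ∧ a ^ 2 = 1 := fun s hs => by
    by_contra h1
    push Not at h1
    refine hc ((Set.ncard_le_ncard (t := s) (fun x hx => ?_)).trans (by simpa using hs))
    obtain ⟨a, rfl, ha⟩ := h.exists_lift (by norm_num) (hp x hx)
    by_contra h3
    exact h1 a hx h3 ha
  obtain ⟨a, aA, a1, ha⟩ := key {1} (by simp)
  obtain ⟨b, bA, b1, hb⟩ := key {1, π a} (Finset.card_le_two.trans (by norm_num))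
  obtain ⟨c, cA, c1, hc⟩ := key {1, π a, π b, π a * π b} Finset.card_le_four
  have cm : ∀ x y, π x ∈ A → π y ∈ A → y ^ 2 = 1 → x * y = y * x := fun x y hx hy e =>
    h.comm_of_lift (by norm_num) e (congrArg Subtype.val (hA.is_comm.comm ⟨_, hx⟩ ⟨_, hy⟩))
  have ne : ∀ x y, x ^ 2 = 1 → π y ≠ π x → x * y ≠ 1 := fun x y hx e e' =>
    e (by rw [← mul_eq_one_iff_inv_eq.1 e', inv_eq_iff_mul_eq_one.2 (sq x ▸ hx)])
  have tr : ∀ x, π x ∈ A → x ^ 2 = 1 → π c ≠ π x → (ρ (x * c)).trace = -1 := fun x hx e e' =>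
    h.trace_of_sq (by rw [Commute.mul_pow (cm x c hx cA hc), e, hc, one_mul]) (ne x c e e')
  simp only [Finset.mem_insert, Finset.mem_singleton, not_or] at a1 b1 c1
  have e := congrArg (fun M => (M * ρ c).trace) (h.four_sum h2 ha hb (by rintro rfl; simp at a1)
    (by rintro rfl; simp at b1) (ne a b ha b1.2) (cm a b aA bA hb))
  simp only [mul_add, add_mul, mul_one, one_mul, ← map_mul, trace_add, zero_mul, trace_zero] at e
  rw [tr a aA ha c1.2.1, tr b bA hb c1.2.2.1, h.trace_of_sq hc (by rintro rfl; simp at c1),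
    tr (a * b) (map_mul π a b ▸ A.mul_mem aA bA)
      (by rw [Commute.mul_pow (cm a b aA bA hb), ha, hb, one_mul]) (map_mul π a b ▸ c1.2.2.2)] at e
  exact mul_ne_zero h2 h2 (by linear_combination -e)

theorem exists_diag_refl (h : Hyp ρ π) (h2 : (2 : K) ≠ 0) {t : Γ} (ht : t ^ 2 = 1) (h1 : t ≠ 1) :
    ∃ B : (M3 K)ˣ, P3.cnj ρ B t = diagonal ![-1, -1, 1] := by
  obtain ⟨v, φ, e1, e2⟩ := h.exists_refl h2 ht h1
  have φ0 : φ ≠ 0 := fun e => h2 (by simp [← e2, e])
  obtain ⟨u, w, u0, hw, k1, k2⟩ : ∃ u w : V3 K, u ≠ 0 ∧ (∀ c : K, w ≠ c • u) ∧ φ ⬝ᵥ u = 0 ∧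
      φ ⬝ᵥ w = 0 := by
    have k : ∀ (u w : V3 K) (i j : Fin 3), u i ≠ 0 → w i = 0 → w j ≠ 0 →
        u ≠ 0 ∧ ∀ c : K, w ≠ c • u := fun u w i j a b c => ⟨fun e => a (by simp [e]), by
      rintro d rfl
      simp_all⟩
    classical
    by_cases a : φ 0 = 0
    · obtain ⟨b1, b2⟩ := k (ee 0) (φ ⨯₃ ee 0) 0 (if φ 1 = 0 then 1 else 2) (by simp)
        (by simp [cross_apply]) (by
          by_cases b : φ 1 = 0
          · simp only [b, if_true]
            simpa [cross_apply] using fun c => φ0 (by ext i; fin_cases i <;> simp [a, b, c])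
          · simpa [cross_apply, b])
      exact ⟨_, _, b1, b2, by simpa, dot_self_cross _ _⟩
    · obtain ⟨b1, b2⟩ := k (φ ⨯₃ ee 1) (φ ⨯₃ ee 2) 2 1 (by simpa [cross_apply])
        (by simp [cross_apply]) (by simpa [cross_apply])
      exact ⟨_, _, b1, b2, dot_self_cross _ _, dot_self_cross _ _⟩
  obtain ⟨B, hB⟩ := exists_basis u0 hw k1 k2 (w := v) (by rwa [e2])
  refine ⟨B, ?_⟩
  rw [cnj_apply, mul_assoc, Units.inv_mul_eq_iff_eq_mul, eq_sub_iff_add_eq.2 e1, hB, sub_mul,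
    vecMulVec_mul, vecMul_cols3, k1, k2, e2]
  ext i j
  fin_cases j <;> simp [cols3, vecMulVec_apply]
  ring

theorem exists_theta (h : Hyp ρ π) (h2 : (2 : K) ≠ 0) (hn : NoTv ρ) (p : ℕ) [Fact p.Prime]
    [CharP K p] {t : Γ} (ht : ρ t = diagonal ![-1, -1, 1]) :
    (∃ θ : centralizer ({t} : Set Γ) →* PGL(2, K), θ.ker ≤ center _) ∧
      ∀ g ∈ centralizer ({t} : Set Γ), g ^ p = 1 → g = 1 := by
  have z : ∀ g ∈ centralizer ({t} : Set Γ),
      ρ g 0 2 = 0 ∧ ρ g 1 2 = 0 ∧ ρ g 2 0 = 0 ∧ ρ g 2 1 = 0 := fun g hg => by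
    have e := congrArg ρ (mem_centralizer_singleton_iff.1 hg)
    rw [map_mul, map_mul, ht] at e
    have k : ∀ a : K, a = -a → a = 0 := fun a e =>
      (mul_eq_zero.1 (by linear_combination e)).resolve_left h2
    refine ⟨k _ ?_, k _ ?_, k _ ?_, k _ ?_⟩
    · simpa using congrFun (congrFun e 0) 2
    · simpa using congrFun (congrFun e 1) 2
    · simpa using (congrFun (congrFun e 2) 0).symm
    · simpa using (congrFun (congrFun e 2) 1).symm
  let f : centralizer ({t} : Set Γ) →* Matrix (Fin 2) (Fin 2) K :=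
    { toFun := fun g => !![ρ g 0 0, ρ g 0 1; ρ g 1 0, ρ g 1 1]
      map_one' := by simp [one_fin_two]
      map_mul' := fun a b => by
        obtain ⟨a1, a2, -, -⟩ := z a a.2
        simp [Matrix.mul_apply, Fin.sum_univ_three, a1, a2] }
  refine ⟨⟨ProjGenLinGroup.mk.comp f.toHomUnits, fun g hg => mem_center_iff.2 fun k => ?_⟩,
    fun g hg e => hn g ?_⟩
  · obtain ⟨a, ha⟩ := GeneralLinearGroup.mem_center_iff_val_mem_range_scalar.1
      (ProjGenLinGroup.mk_eq_one.1 hg)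
    have e : ∀ i j, scalar (Fin 2) a i j = f g i j := fun i j => congrFun (congrFun ha i) j
    have e1 := e 0 0; have e2 := e 0 1; have e3 := e 1 0; have e4 := e 1 1
    simp [f] at e1 e2 e3 e4
    obtain ⟨a1, a2, a3, a4⟩ := z g g.2
    obtain ⟨b1, b2, b3, b4⟩ := z k k.2
    apply Subtype.ext
    apply h.inj
    rw [coe_mul, coe_mul, map_mul, map_mul]
    ext i j
    fin_cases i <;> fin_cases j <;>
      simp [Matrix.mul_apply, Fin.sum_univ_three, ← e1, ← e2, ← e3, ← e4, a1, a2, a3, a4, b1, b2,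
        b3, b4, mul_comm]
  · have t1 := trace_of_pow_char (ρ := ρ) p e
    have t3 := h.cayley g
    rw [t1, trace_of_pow_char (ρ := ρ) p (g := g⁻¹) (by rw [inv_pow, e, inv_one])] at t3
    have t2 := h.det g
    obtain ⟨a1, a2, a3, a4⟩ := z g hg
    have t4 := congrFun (congrFun t3 2) 2
    simp [pow_succ, Matrix.mul_apply, Fin.sum_univ_three, a1, a2, a3, a4] at t4
    have t5 : ρ g 2 2 = 1 := by
      have : (ρ g 2 2 - 1) ^ 3 = 0 := by linear_combination t4
      exact sub_eq_zero.1 (pow_eq_zero_iff (by norm_num) |>.1 this)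
    simp [det_fin_three, trace_fin_three, a1, a2, a3, a4, t5] at t1 t2
    ext i j
    fin_cases i <;> fin_cases j <;>
      simp [Matrix.mul_apply, Fin.sum_univ_three, a1, a2, a3, a4, t5] <;> grind

theorem solvable_cent [Finite K] [Finite X] (h : Hyp ρ π) (h2 : (2 : K) ≠ 0) (hn : NoTv ρ)
    {z : X} (hz : orderOf z = 2) :
    (∀ g ∈ centralizer ({z} : Set X), orderOf g = 3 → (3 : K) ≠ 0) ∧
    ∀ x ∈ centralizer ({z} : Set X), ∀ s ∈ centralizer ({z} : Set X), ∀ m, x ^ 2 ^ m = 1 →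
      s * x ^ 2 ≠ x ^ 2 * s → Group.IsSolvable (centralizer ({z} : Set X)) := by
  obtain ⟨p, hp⟩ := CharP.exists K
  haveI : Fact p.Prime := ⟨CharP.char_is_prime K p⟩
  haveI := h.finite
  obtain ⟨t, rfl, ht⟩ := h.exists_lift (n := 2) (by norm_num) (hz ▸ pow_orderOf_eq_one z)
  obtain ⟨B, hB⟩ := h.exists_diag_refl h2 ht (by rintro rfl; simp at hz)
  obtain ⟨⟨θ, hθ⟩, hp'⟩ := (h.cnj B).exists_theta h2 (hn.cnj B) p hB
  have mem : ∀ g, π g ∈ centralizer ({π t} : Set X) → g ∈ centralizer ({t} : Set Γ) := fun g hg =>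
    mem_centralizer_singleton_iff.2
      (h.comm_of_lift (by norm_num) ht (mem_centralizer_singleton_iff.1 hg))
  refine ⟨fun g hg h3 e => ?_, fun x hx s hs m hm hne => ?_⟩
  · obtain ⟨g, rfl⟩ := h.surj g
    obtain rfl : p = 3 := (Nat.prime_dvd_prime_iff_eq Fact.out Nat.prime_three).1
      ((CharP.cast_eq_zero_iff K p 3).1 e)
    have := hp' g (mem g hg) (h.ker_of_three e (by rw [map_pow, ← h3, pow_orderOf_eq_one]))
    simp [this] at h3
  obtain ⟨x, rfl, hx'⟩ := h.exists_lift (Nat.Coprime.pow_left m (by norm_num)) hm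
  obtain ⟨s, rfl⟩ := h.surj s
  have hC : ¬ p ∣ Nat.card θ.range := fun e => by
    obtain ⟨g, hg⟩ := exists_prime_orderOf_dvd_card' p (e.trans (card_range_dvd θ))
    have := hp' g g.2 (by rw [← hg, ← coe_pow, pow_orderOf_eq_one, coe_one])
    rw [show g = 1 from Subtype.ext this, orderOf_one] at hg
    exact (Fact.out : p.Prime).one_lt.ne hg
  haveI : Finite θ.range := Finite.of_surjective _ θ.rangeRestrict_surjective
  rcases tame_solvable p θ.range.subtype (subtype_injective _) hC with h3 | h3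
  · haveI : Group.IsSolvable (center (centralizer ({t} : Set Γ))) :=
      Group.isSolvable_of_comm fun a b => Subtype.ext (mem_center_iff.1 b.2 a)
    haveI : Group.IsSolvable (centralizer ({t} : Set Γ)) :=
      Group.isSolvable_of_ker_le_range (center _).subtype θ.rangeRestrict (by simpa using hθ)
    refine Group.isSolvable_of_surjective (f := (π.comp (centralizer ({t} : Set Γ)).subtype).codRestrict _
      fun g => mem_centralizer_singleton_iff.2 ?_) fun ⟨y, hy⟩ => ?_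
    · simpa using congrArg π (mem_centralizer_singleton_iff.1 g.2)
    · obtain ⟨y, rfl⟩ := h.surj y
      exact ⟨⟨y, mem y hy⟩, rfl⟩
  · let x' : centralizer ({t} : Set Γ) := ⟨x, mem x hx⟩
    have e1 : θ x' ^ 30 = 1 := congrArg Subtype.val (h3 ⟨_, x', rfl⟩)
    have e2 : θ x' ^ 2 ^ m = 1 := by rw [← map_pow, show x' ^ 2 ^ m = 1 from Subtype.ext hx', map_one]
    have e3 : θ (x' ^ 2) = 1 := by
      rw [map_pow, ← orderOf_dvd_iff_pow_eq_one]
      exact (Nat.Coprime.of_dvd_left (orderOf_dvd_of_pow_eq_one e2)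
        (Nat.Coprime.pow_left m (by norm_num : Nat.Coprime 2 15))).dvd_of_dvd_mul_right
          (orderOf_dvd_of_pow_eq_one e1)
    have := congrArg (fun g : centralizer ({t} : Set Γ) => π g)
      (mem_center_iff.1 (hθ e3) ⟨s, mem s hs⟩)
    exact (hne (by simpa [x'] using this)).elim

end Hyp

end Cfsg.Agent.H10.P3
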