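import Cfsg.Agent.H10.P3Dih
import Cfsg.Agent.H28.Pgl2Torus
import Cfsg.Agent.S2086

/-!
Three-dimensional projective representations of `PSL₂(r)`.
-/

set_option autoImplicit false

open Matrix Subgroup
open scoped MatrixGroups

namespace Cfsg.Agent.H10.P3

open H28

/-- `θ` identifies `X` with `PSL₂(F)` inside `PGL₂(F)`. -/
structure L2 {X F : Type*} [Group X] [Field F] (θ : X →* PGL(2, F)) : Prop where
  inj : Function.Injective θ
  range : θ.range = pslIn F

variable {K : Type*} [Field K] {Γ X : Type*} [Group Γ] [Group X] {ρ : Γ →* M3 K} {π : Γ →* X}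
variable {F : Type*} [Field F] {θ : X →* PGL(2, F)}

theorem exists_l2 (e : X ≃* PSL(2, F)) : ∃ θ : X →* PGL(2, F), L2 θ :=
  ⟨(pslIn F).subtype.comp (e.trans (pslEquiv F)).toMonoidHom,
    (subtype_injective _).comp (e.trans (pslEquiv F)).injective, by
      rw [← MonoidHom.map_range, MonoidHom.range_eq_top.2 (e.trans (pslEquiv F)).surjective,
        ← MonoidHom.range_eq_map, range_subtype]⟩

theorem aff_sq_mem (a : Fˣ) (b : F) : aff (a ^ 2) b ∈ pslIn F := by
  rw [aff, mem_pslIn_iff, gdet_gl2]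
  exact ⟨a, by simp [sq]⟩

theorem aff_conj (a : Fˣ) (b : F) : aff a 0 * aff 1 b * (aff a 0)⁻¹ = aff 1 (a * b) := by
  rw [mul_inv_eq_iff_eq_mul, aff_mul, aff_mul]; simp

namespace L2

theorem exists_eq (l : L2 θ) {g : PGL(2, F)} (hg : g ∈ pslIn F) : ∃ x, θ x = g := by
  rwa [← l.range] at hg

theorem card [Finite F] (l : L2 θ) (ho : Odd (Nat.card F)) :
    2 * Nat.card X = Nat.card F * (Nat.card F ^ 2 - 1) := by
  rw [← gcd_mul_card_pslIn, ← l.range, ← Nat.card_congr (MonoidHom.ofInjective l.inj).toEquiv,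
    Nat.gcd_eq_left (Nat.Odd.sub_odd ho odd_one).two_dvd]

theorem real [Finite F] (l : L2 θ) (s : ℕ) [Fact s.Prime] [CharP F s] {c : X} (hc : c ^ s ≠ 1) :
    IsConj c c⁻¹ ∧ ∃ n, c ^ n = 1 ∧ (n * (Nat.card F * (Nat.card F + 1)) = Nat.card X ∨
      n * (Nat.card F * (Nat.card F - 1)) = Nat.card X) := by
  classical
  obtain ⟨n, ⟨e⟩, h1, h2⟩ := torN_structure θ l.inj l.range.ge s hc
  refine ⟨?_, n, orderOf_dvd_iff_pow_eq_one.1 h1, h2.imp And.right And.right⟩
  have : ∀ x : DihedralGroup n, IsConj x x⁻¹ := by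
    rintro (i | i)
    · exact isConj_iff.2 ⟨DihedralGroup.sr 0, by simp⟩
    · exact isConj_iff.2 ⟨1, by simp⟩
  simpa using ((torN c).subtype.comp e.symm.toMonoidHom).map_isConj
    (this (e ⟨c, Or.inl (by simp)⟩))

theorem conj_aff [Finite F] (l : L2 θ) (s : ℕ) [Fact s.Prime] [CharP F s] {c : X}
    (hc : c ^ s = 1) : ∃ k b, θ (k * c * k⁻¹) = aff 1 b := by
  classical
  have h1 : θ c ^ s = 1 := by rw [← map_pow, hc, map_one]
  obtain ⟨x, hx⟩ := exists_fix_of_pow_char s h1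
  haveI : Nontrivial (OnePoint F) := ⟨⟨OnePoint.infty, (0 : F), OnePoint.infty_ne_coe _⟩⟩
  obtain ⟨y, hy⟩ := exists_ne x
  obtain ⟨t, ht, rfl, -⟩ := exists_psl_frame_two hy.symm
  obtain ⟨k, rfl⟩ := l.exists_eq ht
  obtain ⟨a, b, e⟩ := exists_aff (g := θ (k⁻¹ * c * k⁻¹⁻¹)) (by simp [mul_smul, hx])
  obtain rfl : a = 1 := by
    rw [← aff_pow_char s a b, ← e, ← map_pow, conj_pow, hc]; simp
  exact ⟨_, b, e⟩

theorem isConj_pow [Finite F] (l : L2 θ) (s : ℕ) [Fact s.Prime] [CharP F s] {c : X}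
    (hc : c ^ s = 1) {a : Fˣ} {m : ℕ} (h : (a : F) ^ 2 = m) : IsConj c (c ^ m) := by
  obtain ⟨k, b, e⟩ := l.conj_aff s hc
  obtain ⟨x, hx⟩ := l.exists_eq (aff_sq_mem a 0)
  have : x * (k * c * k⁻¹) * x⁻¹ = k * c ^ m * k⁻¹ := l.inj (by
    rw [← conj_pow, map_pow, map_mul, map_mul, map_inv, hx, e, aff_conj, aff_pow]; simp [h])
  exact isConj_iff.2 ⟨k⁻¹ * x * k, by
    rw [show c ^ m = k⁻¹ * (k * c ^ m * k⁻¹) * k by group, ← this]; group⟩

end L2

namespace Hyp

theorem card_le_nine [IsAlgClosed K] [Finite F] (h : Hyp ρ π) (l : L2 θ) (s : ℕ) [Fact s.Prime]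
    [CharP F s] (hs : (s : K) ≠ 0) : Nat.card F ≤ 9 := by
  classical
  have lift : ∀ g ∈ pslIn F, ∃ x, θ (π x) = g := fun g hg => by
    obtain ⟨x, rfl⟩ := l.exists_eq hg
    obtain ⟨x, rfl⟩ := h.surj x
    exact ⟨x, rfl⟩
  choose u hu using fun b => lift _ (aff_one_mem_pslIn b)
  choose k hk using fun a => lift _ (aff_sq_mem a 0)
  have one : ∀ g, θ (π g) = aff 1 0 → π g = 1 := fun g e => l.inj (by rw [e, aff_one_zero, map_one])
  have uu : ∀ g g' b b', θ (π g) = aff 1 b → θ (π g') = aff 1 b' → π (g * g' * g⁻¹ * g'⁻¹) = 1 :=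
    fun g g' b b' e e' => one _ (by simp [e, e', aff_inv, aff_mul])
  by_cases hc : ∀ b b', u b * u b' = u b' * u b
  swap
  · push Not at hc
    obtain ⟨b1, b2, hc⟩ := hc
    obtain ⟨ω, hω⟩ := (h.ker _).1 (uu _ _ _ _ (hu b1) (hu b2))
    haveI := h.card_ker_le.1
    let f : F → π.ker × π.ker := fun b =>
      (⟨_, uu _ _ _ _ (hu b1) (hu b)⟩, ⟨_, uu _ _ _ _ (hu b2) (hu b)⟩)
    have hf : Function.Injective f := fun b b' e => by
      have key : ∀ x, x * u b * x⁻¹ * (u b)⁻¹ = x * u b' * x⁻¹ * (u b')⁻¹ →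
          ρ ((u b')⁻¹ * u b) * ρ x = ρ x * ρ ((u b')⁻¹ * u b) := fun x e => by
        rw [← map_mul, ← map_mul]
        congr 1
        calc _ = x * (u b')⁻¹ * x⁻¹ * (x * u b' * x⁻¹ * (u b')⁻¹) * u b * x := by group
          _ = _ := by rw [← e]; group
      obtain ⟨c, hc⟩ := scalar_of_heis (h.cube hω) (fun e => hc (by
          rw [e, one_smul, ← map_one ρ] at hω
          simpa [mul_inv_eq_iff_eq_mul] using h.inj hω))
        (isUnit_rho ρ (u b1)) (isUnit_rho ρ (u b2))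
        (by rw [← one_mul (ρ (u b2) * _), ← smul_mul_assoc, ← hω, ← map_mul, ← map_mul, ← map_mul]
            congr 1; group)
        (key _ (congrArg (fun p => p.1.1) e)) (key _ (congrArg (fun p => p.2.1) e))
      have := congrArg θ ((h.ker _).2 ⟨c, hc⟩)
      rw [map_mul, map_inv, map_mul, map_inv, hu, hu, map_one, inv_mul_eq_one] at this
      exact (aff_inj this).2.symm
    have := Nat.card_le_card_of_injective f hf
    have h3 := h.card_ker_le.2
    rw [Nat.card_prod] at this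
    nlinarith
  by_contra hF
  haveI := Fintype.ofFinite F
  have hsq : 3 < (Finset.univ.image fun a : Fˣ => a ^ 2).card := by
    have := Finset.card_le_mul_card_image (f := fun a : Fˣ => a ^ 2) Finset.univ 2 (by
      intro b hb
      obtain ⟨a, -, rfl⟩ := Finset.mem_image.1 hb
      refine (Finset.card_le_card (t := {a, -a}) fun x hx => ?_).trans Finset.card_le_two
      simpa [Units.ext_iff, sq_eq_sq_iff_eq_or_eq_neg] using hx)
    rw [Finset.card_univ, Fintype.card_units, ← Nat.card_eq_fintype_card] at this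
    omega
  obtain ⟨_, h0, a1⟩ := Finset.exists_mem_ne (by omega : 1 < _) (1 : Fˣ)
    (s := Finset.univ.image fun a : Fˣ => a ^ 2)
  obtain ⟨a0, -, rfl⟩ := Finset.mem_image.1 h0
  have d0 : ((a0 : F) ^ 2 - 1) ≠ 0 := fun e => a1 (Units.ext (by simpa [sub_eq_zero] using e))
  have cm : ∀ g g' b b', θ (π g) = aff 1 b → θ (π g') = aff 1 b' → g * g' = g' * g := by
    intro g g' b b' e e'
    obtain ⟨z, hz, rfl⟩ := h.exists_ker_of_eq (l.inj (e.trans (hu b).symm))
    obtain ⟨w, hw, rfl⟩ := h.exists_ker_of_eq (l.inj (e'.trans (hu b').symm))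
    rw [mul_assoc, ← mul_assoc (u b), ← h.ker_comm hw, mul_assoc, hc, mul_assoc w, ← mul_assoc z,
      h.ker_comm hz w, mul_assoc, ← mul_assoc z, h.ker_comm hz, mul_assoc]
  let φ : Γ → Γ := fun g => k a0 * g * (k a0)⁻¹ * g⁻¹
  have φ1 : ∀ g g', π g = π g' → φ g = φ g' := fun g g' e => by
    obtain ⟨z, hz, rfl⟩ := h.exists_ker_of_eq e
    calc _ = k a0 * z * g' * (k a0)⁻¹ * g'⁻¹ * z⁻¹ := by simp only [φ]; group
      _ = z * φ g' * z⁻¹ := by rw [← h.ker_comm hz]; simp only [φ]; group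
      _ = _ := by rw [h.ker_comm hz, mul_inv_cancel_right]
  have cj : ∀ a g b, θ (π g) = aff 1 b → θ (π (k a * g * (k a)⁻¹)) = aff 1 (a ^ 2 * b) :=
    fun a g b e => by simp only [map_mul, map_inv, hk, e, aff_conj, Units.val_pow_eq_pow_val]
  let w : F → Γ := fun b => φ (u (b / (a0 ^ 2 - 1)))
  have hw : ∀ b, θ (π (w b)) = aff 1 b := fun b => by
    simp only [w, φ]
    rw [map_mul, map_mul, cj _ _ _ (hu _), map_inv, map_inv, hu, aff_inv, aff_mul]
    congr 1
    · simp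
    · simp; field_simp; ring
  have w1 : ∀ b b', w (b + b') = w b * w b' := fun b b' => by
    have e := cm _ _ _ _ (cj a0 _ _ (hu (b' / (a0 ^ 2 - 1)))) (hu (b / (a0 ^ 2 - 1)))
    have e' := hc (b / (a0 ^ 2 - 1)) (b' / (a0 ^ 2 - 1))
    rw [show w (b + b') = φ (u (b / (a0 ^ 2 - 1)) * u (b' / (a0 ^ 2 - 1))) from
      φ1 _ _ (l.inj (by simp [hu, aff_mul, add_div, add_comm]))]
    simp only [w, φ]
    generalize u (b / (a0 ^ 2 - 1)) = x at e e' ⊢
    generalize u (b' / (a0 ^ 2 - 1)) = y at e e' ⊢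
    calc _ = k a0 * x * (k a0)⁻¹ * x⁻¹ * (x * (k a0 * y * (k a0)⁻¹)) * (x * y)⁻¹ := by group
      _ = _ := by rw [← e, e']; group
  have w2 : ∀ a b, k a * w b * (k a)⁻¹ = w (a ^ 2 * b) := fun a b => by
    have hz : π ((k a0)⁻¹ * k a * k a0 * (k a)⁻¹) = 1 := one _ (by simp [hk, aff_inv, aff_mul])
    rw [show w (a ^ 2 * b) = φ (k a * u (b / (a0 ^ 2 - 1)) * (k a)⁻¹) from
      φ1 _ _ (l.inj (by rw [cj _ _ _ (hu _), hu, mul_div_assoc]))]
    simp only [w, φ]
    generalize u (b / (a0 ^ 2 - 1)) = x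
    have := h.ker_comm hz (k a * x * (k a)⁻¹)
    calc _ = k a0 * ((k a0)⁻¹ * k a * k a0 * (k a)⁻¹ * (k a * x * (k a)⁻¹)) *
          ((k a0)⁻¹ * k a * k a0 * (k a)⁻¹)⁻¹ * (k a0)⁻¹ * (k a * x * (k a)⁻¹)⁻¹ := by group
      _ = _ := by rw [this]; group
  obtain ⟨n, hn, e⟩ := h.exists_pow (g := w 1) hs (l.inj (by
    rw [map_pow, hw, map_one, aff_pow_char]))
  obtain ⟨v, v1, hv⟩ := exists_eig_ne (fun b => ρ (w b))
    (fun b b' => by rw [← map_mul, ← map_mul, ← w1, ← w1, add_comm]) (M := ρ (w 1))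
    (fun b => by rw [← map_mul, ← map_mul, ← w1, ← w1, add_comm]) hn
    (by rw [← map_pow, e, map_one]) fun e => by
      have := hw 1
      rw [h.inj (e.trans (map_one ρ).symm), map_one, map_one, ← aff_one_zero] at this
      exact zero_ne_one (aff_inj this).2
  have v0 : v ≠ 0 := by rintro rfl; simp at v1
  choose c hcv using hv
  have c1 : ∀ b b', c (b + b') = c b * c b' := fun b b' => smul_left_injective K v0 (by
    simp only
    rw [← hcv, w1, map_mul, ← mulVec_mulVec, hcv, mulVec_smul, hcv, smul_smul, mul_comm])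
  have c0 : ∀ b, c b ≠ 0 := fun b e => rho_mulVec_ne ρ (w b) v0 (by rw [hcv, e, zero_smul])
  let S := Finset.univ.image fun a : Fˣ => a ^ 2
  choose r hr using fun x : S => Finset.mem_image.1 x.2
  let lam : S → Multiplicative F →* K := fun x =>
    { toFun := fun b => c (r x ^ 2 * b.toAdd)
      map_one' := mul_left_cancel₀ (c0 0) (by simp [← c1])
      map_mul' := fun b b' => by simp [← c1, mul_add] }
  have := card_le_three (fun b : Multiplicative F => ρ (w b.toAdd)) lam (fun x y e => ?_)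
    (fun x => ρ (k (r x))⁻¹ *ᵥ v) (fun x => rho_mulVec_ne ρ _ v0) fun x b => by
      rw [mulVec_mulVec, ← map_mul, show w b.toAdd * (k (r x))⁻¹ =
        (k (r x))⁻¹ * w (r x ^ 2 * b.toAdd) by rw [← w2]; group, map_mul, ← mulVec_mulVec, hcv,
        mulVec_smul]
      rfl
  · rw [Fintype.card_coe] at this
    exact absurd hsq (not_lt.2 this)
  by_contra hxy
  have d1 : ((r x : F) ^ 2 - r y ^ 2) ≠ 0 := fun e => hxy (Subtype.ext (by
    rw [← (hr x).2, ← (hr y).2]; exact Units.ext (by simpa [sub_eq_zero] using e)))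
  have e1 : c (r x ^ 2 * (r x ^ 2 - r y ^ 2 : F)⁻¹) = c (r y ^ 2 * (r x ^ 2 - r y ^ 2 : F)⁻¹) :=
    DFunLike.congr_fun e (Multiplicative.ofAdd _)
  rw [show r x ^ 2 * (r x ^ 2 - r y ^ 2 : F)⁻¹ = 1 + r y ^ 2 * (r x ^ 2 - r y ^ 2 : F)⁻¹ by
    field_simp; ring, c1, mul_left_eq_self₀] at e1
  exact v1 (by rw [hcv, e1.resolve_right (c0 _), one_smul])

theorem ker_of_psl [Finite X] (h : Hyp ρ π) {F : Type} [Field F] [Fintype F] (e : X ≃* PSL(2, F))
    (h4 : 4 < Fintype.card F) (h9 : Fintype.card F ≠ 9) {z : Γ} (hz : π z = 1) : z = 1 := by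
  haveI := h.finite
  let s : Shrink.{0} Γ ≃* Γ := Shrink.mulEquiv
  haveI : Finite (Shrink.{0} Γ) := Finite.of_equiv _ s.toEquiv.symm
  obtain ⟨f, hf⟩ := (S2086.result (F := F) rfl 2 le_rfl (fun _ => h4.le)
    (by simp; omega)).2 (Shrink.{0} Γ) (e.toMonoidHom.comp (π.comp s.toMonoidHom))
    ⟨e.surjective.comp (h.surj.comp s.surjective), fun x hx => mem_center_iff.2 fun y =>
      s.injective (by
        rw [map_mul, map_mul, h.ker_comm (z := s x) (e.map_eq_one_iff.1 hx)]), fun x _ => by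
      have := map_commutator_eq _ s.symm.toMonoidHom
      rw [h.perfect, MonoidHom.range_eq_top.2 s.symm.surjective, ← MonoidHom.range_eq_map,
        MonoidHom.range_eq_top.2 s.symm.surjective] at this
      exact this.le (mem_top x)⟩
  obtain ⟨a, ha⟩ := hf ⟨s.symm z, by simp [hz]⟩
  refine h.ker_eq_one hz (n := 2) (by norm_num) (s.symm.injective ?_)
  have : a ^ 2 = 1 := orderOf_dvd_iff_pow_eq_one.1 ((orderOf_dvd_natCard a).trans (by
    rw [Nat.card_congr Multiplicative.toAdd, Nat.card_zmod]; exact Nat.gcd_dvd_left _ _))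
  have e2 := congrArg f this
  rw [map_pow, ha, map_one] at e2
  rw [map_pow, map_one]
  exact congrArg Subtype.val e2

end Hyp

end Cfsg.Agent.H10.P3
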