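import Cfsg.Agent.H10.P3Cls
import Cfsg.Agent.H10.UBase
import Cfsg.Agent.H98.FormTrace
import Cfsg.Agent.H98.FormUnique
import Cfsg.Agent.H98.Descent
import Cfsg.Agent.H11.OTools

/-!
Matrix descriptions of the classical cases, the commutant, invariant forms and normalisers.
-/

set_option autoImplicit false

open Matrix Subgroup
open scoped MatrixGroups

namespace Cfsg.Agent.H10.P3

open Cfsg.Geo H98

variable {K : Type*} [Field K] {Γ X : Type*} [Group Γ] [Group X] {ρ : Γ →* M3 K} {π : Γ →* X}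

theorem exists_of_entries (K0 : Subfield K) {M : M3 K} (h : ∀ i j, M i j ∈ K0) :
    ∃ N : M3 K0, N.map K0.subtype = M ∧ (M.det = 1 → N.det = 1) := by
  refine ⟨of fun i j => ⟨M i j, h i j⟩, rfl, fun e => K0.subtype.injective ?_⟩
  rw [RingHom.map_det, map_one, ← e]; rfl

theorem det_map_subtype (K0 : Subfield K) {N : M3 K0} (h : N.det = 1) :
    (N.map K0.subtype).det = 1 := by
  rw [← RingHom.mapMatrix_apply, ← RingHom.map_det, h, map_one]

theorem isIsom_sub [Finite K] {K1 : Subfield K} {q : ℕ} (hq : Nat.card K1 = q ^ 2) (N : M3 K1) :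
    IsIsom q N ↔ (N.map K1.subtype)ᵀ * (N.map K1.subtype).map (· ^ q) = 1 := by
  letI := Fintype.ofFinite K1
  haveI : Fact (Fintype.card K1 = q ^ 2) := ⟨by rwa [← Nat.card_eq_fintype_card]⟩
  have e : (N.map K1.subtype)ᵀ * (N.map K1.subtype).map (· ^ q) =
      (Nᵀ * N.map (cj K1 q)).map K1.subtype := by
    rw [Matrix.map_mul]; rfl
  rw [isIsom_iff, e, ← Matrix.map_one K1.subtype (map_zero _) (map_one _),
    (Matrix.map_injective K1.subtype.injective).eq_iff]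

/-- The image of the representation in the general linear group. -/
def grp (ρ : Γ →* M3 K) : Subgroup (GL (Fin 3) K) := ρ.toHomUnits.range

theorem mem_matrixSet_grp {M : M3 K} : M ∈ matrixSet (grp ρ) ↔ ∃ g, ρ g = M :=
  ⟨fun ⟨_, ⟨g, e⟩, e'⟩ => ⟨g, by rw [← e', ← e]; rfl⟩, fun ⟨g, e⟩ => ⟨_, ⟨g, rfl⟩, e⟩⟩

/-- The matrix normalises the image of the representation. -/
def Nrm (ρ : Γ →* M3 K) (m : (M3 K)ˣ) : Prop := ∀ g, ∃ g', ρ g' = m.val * ρ g * m⁻¹.val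

/-- The matrix is a scalar multiple of an element of the image. -/
def Inn (ρ : Γ →* M3 K) (m : (M3 K)ˣ) : Prop := ∃ (c : K) (k : Γ), m.val = c • ρ k

theorem Nrm.cnj {m : (M3 K)ˣ} (h : Nrm ρ m) (B : (M3 K)ˣ) : Nrm (cnj ρ B) (B⁻¹ * m * B) :=
  fun g => let ⟨g', e⟩ := h g; ⟨g', by simp [cnj_apply, e, mul_assoc]⟩

theorem inn_cnj {m : (M3 K)ˣ} (B : (M3 K)ˣ) : Inn (cnj ρ B) (B⁻¹ * m * B) ↔ Inn ρ m :=
  exists₂_congr fun c k => by
    rw [cnj_apply, ← smul_mul_assoc, ← mul_smul_comm, Units.val_mul, Units.val_mul,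
      Units.mul_left_inj, Units.mul_right_inj]

namespace Hyp

theorem scalar_of_comm (h : Hyp ρ π) {M : M3 K} (hM : ∀ g, M * ρ g = ρ g * M) :
    ∃ c : K, M = c • 1 := by
  let f := algebraMap K (AlgebraicClosure K)
  obtain ⟨v, -, v0, hv⟩ := exists_common_eig (fun _ : Unit => M.map f) (fun _ _ => rfl) ⊤
    top_ne_bot fun _ _ _ => trivial
  obtain ⟨c, hc⟩ := hv ()
  refine ⟨_, map_eq_smul_one f (c := c) (Matrix.ext fun i j => ?_)⟩
  have := (h.ext f).span1 (S := fun w => M.map f *ᵥ w = c • w) (fun g w hw => by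
    rw [mulVec_mulVec, ext_apply, ← Matrix.map_mul, hM, Matrix.map_mul, ← mulVec_mulVec, hw,
      mulVec_smul]) hc v0 (φ := (M.map f - c • 1) i) fun w hw => by
    change ((M.map f - c • 1) *ᵥ w) i = 0
    rw [sub_mulVec, hw, smul_mulVec, one_mulVec, sub_self]; rfl
  exact sub_eq_zero.1 (congrFun this j)

theorem scalar_of_proj (h : Hyp ρ π) {m : (M3 K)ˣ}
    (hm : ∀ g, ∃ c : K, m.val * ρ g = c • (ρ g * m.val)) : ∃ c : K, m.val = c • 1 := by
  choose c hc using hm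
  have u : ∀ g, ρ g * m.val ≠ 0 := fun g => ((isUnit_rho ρ g).mul m.isUnit).ne_zero
  have hne : ∀ g, c g ≠ 0 := fun g e =>
    (m.isUnit.mul (isUnit_rho ρ g)).ne_zero (by rw [hc, e, zero_smul])
  let f : Γ →* Kˣ := MonoidHom.mk' (fun g => Units.mk0 (c g) (hne g)) fun a b => by
    ext
    apply smul_left_injective K (u (a * b))
    simp only [Units.val_mk0, Units.val_mul]
    rw [← hc, map_mul, ← mul_assoc, hc, smul_mul_assoc, mul_assoc, hc, mul_smul_comm, smul_smul,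
      mul_assoc]
  refine h.scalar_of_comm fun g => ?_
  have : c g = 1 := congrArg Units.val (hom_eq_one h.perfect f g)
  rw [hc, this, one_smul]

theorem ker_eq (h : Hyp ρ π) : π.ker = center Γ := by
  ext z
  refine ⟨fun hz => mem_center_iff.2 fun g => (h.ker_comm hz g).symm, fun hz => ?_⟩
  refine h.center_eq fun x => ?_
  obtain ⟨g, rfl⟩ := h.surj x
  rw [← map_mul, mem_center_iff.1 hz, map_mul]

theorem exists_equiv (h : Hyp ρ π) {G : Type*} [Group G] (σ : G →* M3 K)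
    (hσ : Function.Injective σ) (h1 : ∀ g, ∃ a, ρ g = σ a) (h2 : ∀ a, ∃ g, ρ g = σ a) :
    Nonempty (X ≃* G ⧸ center G) := by
  choose f hf using h1
  let e : Γ ≃* G := MulEquiv.ofBijective (MonoidHom.mk' f fun a b => hσ (by simp [← hf]))
    ⟨fun a b e => h.inj (by rw [hf, hf]; exact congrArg σ e),
      fun a => let ⟨g, e⟩ := h2 a; ⟨g, hσ (by rw [← e, hf]; rfl)⟩⟩
  exact ⟨(H9.quotCenterEquivOfSurj π h.surj h.ker_eq).symm.trans (H9.centerQuotEquiv e)⟩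

theorem sl_mat (h : Hyp ρ π) (e : IsSL ρ) : ∃ (K0 : Subfield K) (B : (M3 K)ˣ),
    (∀ M : M3 K, (∃ g, P3.cnj ρ B g = M) ↔ (∀ i j, M i j ∈ K0) ∧ M.det = 1) ∧
      Nonempty (X ≃* PSL(3, K0)) := by
  obtain ⟨K0, B, h1, h2⟩ := e
  refine ⟨K0, B, fun M => ⟨?_, fun ⟨h3, h4⟩ => ?_⟩, (h.cnj B).exists_equiv
    (P3.ext K0.subtype (SpecialLinearGroup.coeMonoidHom))
    (fun a b e => Subtype.ext (Matrix.map_injective K0.subtype.injective e)) (fun g => ?_) h2⟩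
  · rintro ⟨g, rfl⟩
    exact ⟨h1 g, (h.cnj B).det g⟩
  · obtain ⟨N, rfl, h5⟩ := exists_of_entries K0 h3
    exact h2 ⟨N, h5 h4⟩
  · obtain ⟨N, h4, h5⟩ := exists_of_entries K0 (h1 g)
    exact ⟨⟨N, h5 ((h.cnj B).det g)⟩, h4.symm⟩

theorem su_mat [Finite K] (h : Hyp ρ π) (e : IsSU ρ) : ∃ (K1 : Subfield K) (q : ℕ) (B : (M3 K)ˣ),
    Nat.card K1 = q ^ 2 ∧ 2 < q ∧ (∀ M : M3 K, (∃ g, P3.cnj ρ B g = M) ↔
      (∀ i j, M i j ∈ K1) ∧ M.det = 1 ∧ Mᵀ * M.map (· ^ q) = 1) ∧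
      Nonempty (X ≃* PSU 3 K1 q) := by
  obtain ⟨K1, q, B, hq, hq', h1, h2⟩ := e
  refine ⟨K1, q, B, hq, hq', fun M => ⟨?_, fun ⟨h3, h4, h6⟩ => ?_⟩, (h.cnj B).exists_equiv
    (P3.ext K1.subtype (SpecialLinearGroup.coeMonoidHom.comp (SU 3 K1 q).subtype))
    (fun a b e => sm_injective (Matrix.map_injective K1.subtype.injective e)) h1 h2⟩
  · rintro ⟨g, rfl⟩
    obtain ⟨a, e⟩ := h1 g
    exact ⟨fun i j => e ▸ (sm a i j).2, (h.cnj B).det g, e ▸ (isIsom_sub hq _).1 (sm_isIsom a)⟩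
  · obtain ⟨N, rfl, h5⟩ := exists_of_entries K1 h3
    exact h2 (mkSU N ((isIsom_sub hq N).2 h6) (h5 h4))

theorem grpAlg_top [Finite K] (h : Hyp ρ π) : grpAlg (grp ρ) = ⊤ := by
  refine grpAlg_eq_top_of_absIrr ⟨fun W hW => ?_, fun M hM =>
    h.scalar_of_comm fun g => hM _ (mem_matrixSet_grp.2 ⟨g, rfl⟩)⟩
  by_contra hc
  push Not at hc
  obtain ⟨v, hv, v0⟩ := W.ne_bot_iff.1 hc.1
  obtain ⟨φ, φ0, hφ⟩ := W.exists_le_ker_of_lt_top hc.2.lt_top
  refine φ0 (LinearMap.ext fun x => ?_)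
  have e : ∀ w, φ w = (fun i => φ (Pi.single i 1)) ⬝ᵥ w := fun w => by
    rw [LinearMap.pi_apply_eq_sum_univ]
    exact Finset.sum_congr rfl fun i _ => by
      rw [smul_eq_mul, mul_comm]; congr 2; ext j; simp [Pi.single_apply, eq_comm]
  rw [e, h.span1 (S := (· ∈ W)) (fun g w hw => hW _ (mem_matrixSet_grp.2 ⟨g, rfl⟩) ⟨w, hw, rfl⟩)
    hv v0 fun w hw => (e w).symm.trans (hφ hw)]
  simp

theorem exists_form [Finite K] (h : Hyp ρ π) {σ : K ≃+* K} (hσ : ∀ a, σ (σ a) = a)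
    (ht : ∀ g, (ρ g⁻¹).trace = σ (ρ g).trace) : ∃ ε f, IsSesq σ ε f ∧ Fixes (grp ρ) f ∧
      (σ ≠ RingEquiv.refl K → ε = 1) :=
  exists_form_of_trace hσ h.grpAlg_top (by
    rintro _ ⟨g, rfl⟩
    rw [← map_inv]
    exact ht g)

theorem exists_sym [Finite K] (h : Hyp ρ π) (h2 : (2 : K) ≠ 0) (hr : Real ρ) :
    ∃ f, IsSesq (RingEquiv.refl K) 1 f ∧ Fixes (grp ρ) f := by
  obtain ⟨ε, f, h1, h3, -⟩ := h.exists_form (σ := RingEquiv.refl K) (fun _ => rfl) hr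
  obtain rfl := H11.eps_eq_one h2 (by decide) h1
  exact ⟨f, h1, h3⟩

theorem exists_aut [Finite X] (h : Hyp ρ π) {m : (M3 K)ˣ} (hm : Nrm ρ m) :
    ∃ (c : Γ →* Γ) (α : MulAut X), (∀ g, ρ (c g) = m.val * ρ g * m⁻¹.val) ∧
      ∀ g, π (c g) = α (π g) := by
  choose c hc using hm
  let c' : Γ →* Γ := MonoidHom.mk' c fun a b => h.inj (by simp [hc, mul_assoc])
  have k : ∀ g, π (c g) = 1 ↔ π g = 1 := fun g => by
    rw [h.ker, h.ker, hc]
    refine exists_congr fun a => ⟨fun e => ?_, fun e => by simp [e]⟩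
    simpa [mul_assoc] using congrArg (fun M => m⁻¹.val * M * m.val) e
  let α := π.liftOfSurjective h.surj ⟨π.comp c', fun g hg => (k g).2 hg⟩
  have hα : ∀ g, α (π g) = π (c g) := fun g => π.liftOfRightInverse_comp_apply _ _ _ g
  refine ⟨c', MulEquiv.ofBijective α (Finite.injective_iff_bijective.1
    ((injective_iff_map_eq_one α).2 fun x hx => ?_)), hc, fun g => (hα g).symm⟩
  obtain ⟨g, rfl⟩ := h.surj x
  exact (k g).1 (hα g ▸ hx)

theorem inn_of_aut (h : Hyp ρ π) {m : (M3 K)ˣ} {c : Γ →* Γ}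
    (hc : ∀ g, ρ (c g) = m.val * ρ g * m⁻¹.val) {y : X} (hy : ∀ g, π (c g) = y * π g * y⁻¹) :
    Inn ρ m := by
  obtain ⟨k, rfl⟩ := h.surj y
  obtain ⟨a, ha⟩ := h.scalar_of_proj (m := (ρ.toHomUnits k)⁻¹ * m) fun g => by
    obtain ⟨z, hz, e⟩ := h.exists_ker_of_eq (a := k⁻¹ * c g * k) (b := g) (by simp [hy, mul_assoc])
    obtain ⟨a, ha⟩ := (h.ker z).1 hz
    refine ⟨a, ?_⟩
    rw [← smul_mul_assoc, show a • ρ g = ρ (z * g) by simp [ha], ← e, ← map_inv]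
    simp only [Units.val_mul, MonoidHom.coe_toHomUnits, map_mul, hc, mul_assoc]
    rw [← mul_assoc (ρ k), mul_inv_rho, one_mul m.val, Units.inv_mul, mul_one]
  refine ⟨a, k, ?_⟩
  rw [← map_inv, Units.val_mul, MonoidHom.coe_toHomUnits] at ha
  rw [← one_mul m.val, ← mul_inv_rho ρ k, mul_assoc, ha, mul_smul_comm, mul_one]

end Hyp

end Cfsg.Agent.H10.P3
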