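import Cfsg.Agent.H10.P3Mat
import Cfsg.Agent.H23.PGModel

/-!
Normalisers of the exceptional subgroups `L₂(7)`, `3·A₆`, `3·A₇` of `SL₃(q)`.
-/

set_option autoImplicit false

open Matrix Subgroup
open scoped MatrixGroups

namespace Cfsg.Agent.H10.P3

open H28 H23.Pgl

variable {K : Type*} [Field K] {Γ X : Type*} [Group Γ] [Group X] {ρ : Γ →* M3 K} {π : Γ →* X}

theorem l7_aut (hz : ∀ z : PSL(2, ZMod 7), (∀ g, g * z = z * g) → z = 1)
    (γ : MulAut PSL(2, ZMod 7)) :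
    (∃ y, ∀ x, γ x = y * x * y⁻¹) ∨ ∃ u, u ≠ 1 ∧ u ^ 7 = 1 ∧ IsConj u⁻¹ (γ u) := by
  obtain ⟨g, σ, rfl⟩ := exists_eq_iota γ
  obtain rfl : σ = 1 := RingEquiv.ext fun x => DFunLike.congr_fun
    (Subsingleton.elim (σ : ZMod 7 →+* ZMod 7) (RingHom.id _)) x
  rw [map_one, mul_one]
  have J : ∀ s ∈ pslIn (ZMod 7), ∃ y, MulAut.conj y = iota _ s := fun s hs =>
    (map_pslIn (F := ZMod 7)).le ⟨s, hs, rfl⟩
  have inj : Function.Injective (MulAut.conj : PSL(2, ZMod 7) →* _) :=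
    (injective_iff_map_eq_one _).2 fun z h => hz z fun g => by
      have := DFunLike.congr_fun h g
      rw [MulAut.conj_apply, MulAut.one_apply, mul_inv_eq_iff_eq_mul] at this
      exact this.symm
  by_cases h : g ∈ pslIn (ZMod 7)
  · obtain ⟨y, e⟩ := J g h
    exact Or.inl ⟨y, fun x => by rw [← e]; rfl⟩
  have h1 : g * aff (-1) 0 ∈ pslIn (ZMod 7) := by
    obtain ⟨G, rfl⟩ := ProjGenLinGroup.mk_surjective g
    rw [mem_pslIn_iff] at h
    rw [aff, ← map_mul, mem_pslIn_iff, gdet_mul, gdet_gl2]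
    exact (by decide : ∀ d : ZMod 7, ¬ IsSquare d → IsSquare (d * (-1 * 1 - 0 * 0))) _ h
  obtain ⟨y, e⟩ := J _ h1
  obtain ⟨u, eu⟩ := J _ (aff_one_mem_pslIn 1)
  refine Or.inr ⟨u, fun e1 => ?_, inj ?_, isConj_iff.2 ⟨y, inj ?_⟩⟩
  · rw [e1, map_one, ← map_one (iota (ZMod 7)), ← aff_one_zero] at eu
    exact zero_ne_one (aff_inj (iota_inj eu)).2
  · rw [map_pow, eu, ← map_pow, (aff_pow_char 7 1 1).2 rfl, map_one, map_one]
  · have : ∀ (α : MulAut PSL(2, ZMod 7)) x, MulAut.conj (α x) = α * MulAut.conj x * α⁻¹ :=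
      fun α x => by ext; simp
    rw [this, map_mul, map_mul, map_inv, map_inv, e, eu, ← map_inv, ← map_inv, ← map_inv, ← map_mul,
      ← map_mul, ← map_mul, ← map_mul]
    congr 1
    have := aff_conj (-1 : (ZMod 7)ˣ) (-1)
    rw [aff_inv, show aff (1 : (ZMod 7)ˣ) 1 = _ from (by simpa using this.symm)]
    simp [mul_assoc]

theorem heis_pow {G : Type*} [Group G] {a b z : G} (hz : ∀ g, z * g = g * z)
    (h : a * b = z * (b * a)) (i j : ℕ) : a ^ i * b ^ j = z ^ (i * j) * (b ^ j * a ^ i) := by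
  have c : ∀ n g, z ^ n * g = g * z ^ n := fun n g => (Commute.pow_left (hz g) n).eq
  have h1 : ∀ j, a * b ^ j = z ^ j * (b ^ j * a) := fun j => by
    induction j with
    | zero => simp
    | succ j ih =>
      rw [pow_succ, ← mul_assoc, ih, mul_assoc, mul_assoc, h, ← mul_assoc (b ^ j), ← hz, pow_succ]
      simp only [mul_assoc]
  induction i with
  | zero => simp
  | succ i ih =>
    rw [pow_succ', mul_assoc, ih, ← mul_assoc, ← c, mul_assoc, ← mul_assoc a, h1, add_mul, one_mul,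
      pow_add]
    simp only [mul_assoc]

namespace Hyp

theorem congr (h : Hyp ρ π) {Y : Type*} [Group Y] (e : X ≃* Y) :
    Hyp ρ (e.toMonoidHom.comp π) :=
  ⟨h.inj, h.det, e.surjective.comp h.surj, fun g => e.map_eq_one_iff.trans (h.ker g),
    haveI := h.simple; e.symm.isSimpleGroup, fun c => h.nonab ⟨⟨fun a b => e.injective (by
      rw [map_mul, map_mul, c.is_comm.comm])⟩⟩, h.perfect, h.irr1, h.irr2⟩

theorem trace_aut {m : (M3 K)ˣ} {c : Γ →* Γ} (hc : ∀ g, ρ (c g) = m.val * ρ g * m⁻¹.val) (g : Γ) :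
    (ρ (c g)).trace = (ρ g).trace := by
  rw [hc, trace_mul_cycle, Units.inv_mul, one_mul]

theorem l7_inn [Finite X] (h : Hyp ρ π) (e : IsL7 X) (h7 : (7 : K) ≠ 0) {m : (M3 K)ˣ}
    (hm : Nrm ρ m) : Inn ρ m := by
  obtain ⟨e⟩ := e
  have h' := h.congr e
  haveI := Finite.of_equiv _ e.toEquiv
  obtain ⟨c, α, h1, h2⟩ := h'.exists_aut hm
  rcases l7_aut (fun _ => h'.center_eq) α with ⟨y, hy⟩ | ⟨u, u1, u7, hu⟩
  · exact h'.inn_of_aut h1 (y := y) fun g => by rw [h2, hy]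
  obtain ⟨g, rfl⟩ := h'.surj u
  have hk := fun z => h'.l7_ker ⟨MulEquiv.refl _⟩ (z := z)
  refine (h'.l7_ne ⟨MulEquiv.refl _⟩ h7 (g := g) (hk _ (by rwa [map_pow]))
    (by rintro rfl; exact u1 (map_one _)) ?_).elim
  rw [← trace_aut h1 g, h'.trace_of_isConj' hk (a := g⁻¹) (b := c g) (by rwa [map_inv, h2])]

theorem nine_ne (h : Hyp ρ π) (h2 : (2 : K) ≠ 0) (h3 : (3 : K) ≠ 0) {a b : Γ}
    (hn : Nine (π a) (π b)) : a * b ≠ b * a := fun hc => by
  obtain ⟨c1, x3, y3, x1, y1, xy, xy1, c, cx, cy⟩ := hn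
  have cm : Commute (π a) (π b) := c1
  have tr : ∀ i j : ℕ, π a ^ i * π b ^ j ≠ 1 → (ρ a ^ i * ρ b ^ j).trace = 0 := fun i j e => by
    rw [← map_pow, ← map_pow, ← map_mul]
    refine h.trace_of_cube (h.cube_of_real ?_ (isConj_iff.2 ⟨c, ?_⟩)) (by simpa using e)
    · rw [map_mul, map_pow, map_pow, (cm.pow_pow i j).mul_pow, ← pow_mul, ← pow_mul, mul_comm i,
        mul_comm j, pow_mul, pow_mul, x3, y3, one_pow, one_pow, one_mul]
    · rw [map_mul, map_pow, map_pow, ← conj_mul, ← conj_pow, ← conj_pow, cx, cy, inv_pow, inv_pow,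
        ← _root_.mul_inv_rev, (cm.pow_pow i j).eq]
  have x2 := pow_eq_inv x3
  have y2 := pow_eq_inv y3
  have t10 := tr 1 0 (by simpa using x1)
  have t20 := tr 2 0 (by simpa [x2] using x1)
  have t01 := tr 0 1 (by simpa using y1)
  have t02 := tr 0 2 (by simpa [y2] using y1)
  have t11 := tr 1 1 (by simpa using xy1)
  have t12 := tr 1 2 (by simpa [y2, mul_inv_eq_one] using xy)
  have t21 := tr 2 1 (by simpa [x2, inv_mul_eq_one] using xy)
  have t22 := tr 2 2 (by rwa [x2, y2, ← _root_.mul_inv_rev, ← c1, Ne, inv_eq_one])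
  simp only [pow_zero, pow_one, mul_one, one_mul] at t10 t20 t01 t02 t11 t12 t21
  have sq3 : ∀ g : Γ, π g ^ 3 = 1 → c * π g * c⁻¹ = (π g)⁻¹ →
      (1 + ρ g + ρ g ^ 2) * (1 + ρ g + ρ g ^ 2) = (3 : K) • (1 + ρ g + ρ g ^ 2) := fun g e e' => by
    have e3 : ρ g ^ 3 = 1 := by
      rw [← map_pow, h.cube_of_real e (isConj_iff.2 ⟨c, e'⟩), map_one]
    have : (1 + ρ g + ρ g ^ 2) * (1 + ρ g + ρ g ^ 2) =
      1 + ρ g + ρ g + ρ g ^ 2 + ρ g ^ 2 + ρ g ^ 2 + ρ g ^ 3 + ρ g ^ 3 + ρ g ^ 3 * ρ g := by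
      noncomm_ring
    rw [this, e3, show (3 : K) = 1 + 1 + 1 by norm_num, add_smul, add_smul, one_smul, one_mul]
    abel
  have hA := sq3 a x3 cx
  have hB := sq3 b y3 cy
  have cA : Commute (1 + ρ a + ρ a ^ 2) (1 + ρ b + ρ b ^ 2) := by
    have : Commute (ρ a) (ρ b) := Commute.map hc ρ
    have k : Commute (ρ a) (1 + ρ b + ρ b ^ 2) :=
      ((Commute.one_right _).add_right this).add_right (this.pow_right 2)
    exact ((Commute.one_left _).add_left k).add_left (k.pow_left 2)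
  have tA : (1 + ρ a + ρ a ^ 2).trace = 3 := by simp [t10, t20]
  have tAB : ((1 + ρ a + ρ a ^ 2) * (1 + ρ b + ρ b ^ 2)).trace = 3 := by
    simp [mul_add, add_mul, t10, t20, t01, t02, t11, t12, t21, t22]
  generalize 1 + ρ a + ρ a ^ 2 = A at hA cA tA tAB
  generalize 1 + ρ b + ρ b ^ 2 = B at hB cA tAB
  have e3 := P3.trace_sq A
  rw [sq, hA, trace_smul, tA, smul_eq_mul] at e3
  have e4 : A.adjugate.trace = 0 := (mul_eq_zero.1 (by linear_combination e3)).resolve_left h2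
  obtain ⟨v, φ, e⟩ := exists_vv_of_adj (N := A) (by rw [adj_eq, hA, tA, e4]; simp)
  have e5 : A * B * (A * B) = (9 : K) • (A * B) := by
    rw [cA.symm.mul_mul_mul_comm, hA, hB, smul_mul_smul_comm]; norm_num
  have e6 : A * B * (A * B) = (3 : K) • (A * B) := by
    rw [← tAB, e, vecMulVec_mul, vv_mul, trace_vv]
  have := congrArg trace (e5.symm.trans e6)
  rw [trace_smul, trace_smul, tAB, smul_eq_mul, smul_eq_mul] at this
  exact mul_ne_zero h2 (mul_ne_zero h3 h3) (by linear_combination this)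

theorem nine_omega (h : Hyp ρ π) (h2 : (2 : K) ≠ 0) (h3 : (3 : K) ≠ 0) {x y : X} (hn : Nine x y) :
    ∃ ω : K, ω ^ 3 = 1 ∧ ω ≠ 1 := by
  obtain ⟨a, rfl⟩ := h.surj x
  obtain ⟨b, rfl⟩ := h.surj y
  obtain ⟨z, hz, e⟩ := h.exists_ker_of_eq (a := a * b) (b := b * a) (by simpa using hn.1)
  obtain ⟨ω, hω⟩ := (h.ker z).1 hz
  refine ⟨ω, h.cube hω, fun e1 => h.nine_ne h2 h3 hn ?_⟩
  rw [e, h.inj (a₁ := z) (a₂ := 1) (by simp [hω, e1]), one_mul]

theorem not_flip (h : Hyp ρ π) (h2 : (2 : K) ≠ 0) (h3 : (3 : K) ≠ 0) {x y : X} (hn : Nine x y)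
    {m : (M3 K)ˣ} {c : Γ →* Γ} {α : MulAut X} (hc : ∀ g, ρ (c g) = m.val * ρ g * m⁻¹.val)
    (hα : ∀ g, π (c g) = α (π g)) : ¬ Flip α x y := by
  rintro ⟨d, i, j, k, l, e, ex, ey⟩
  obtain ⟨a, rfl⟩ := h.surj x
  obtain ⟨b, rfl⟩ := h.surj y
  obtain ⟨d, rfl⟩ := h.surj d
  obtain ⟨z, hz, e0⟩ := h.exists_ker_of_eq (a := a * b) (b := b * a) (by simpa using hn.1)
  obtain ⟨ω, hω⟩ := (h.ker z).1 hz
  have cz : c z = z := h.inj (by simp [hc, hω])
  obtain ⟨z1, k1, e1⟩ := h.exists_ker_of_eq (a := d⁻¹ * c a * d) (b := a ^ i * b ^ j)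
    (by simp [hα, ex, mul_assoc])
  obtain ⟨z2, k2, e2⟩ := h.exists_ker_of_eq (a := d⁻¹ * c b * d) (b := a ^ k * b ^ l)
    (by simp [hα, ey, mul_assoc])
  have e3 : d⁻¹ * c a * d * (d⁻¹ * c b * d) = z * (d⁻¹ * c b * d * (d⁻¹ * c a * d)) := by
    have := congrArg c e0
    rw [map_mul, map_mul, map_mul, cz] at this
    calc _ = d⁻¹ * (c a * c b) * d := by group
      _ = d⁻¹ * z * (c b * c a) * d := by rw [this, mul_assoc d⁻¹ z]
      _ = _ := by rw [← h.ker_comm hz]; group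
  have f : ∀ u v w w' : Γ, π w' = 1 → w * u * (w' * v) = w * w' * (u * v) := fun u v w w' e => by
    rw [mul_assoc, ← mul_assoc u, ← h.ker_comm e]; simp only [mul_assoc]
  rw [e1, e2, f _ _ _ _ k2, f _ _ _ _ k1, h.ker_comm k2 z1, ← mul_assoc z, h.ker_comm hz,
    mul_assoc (z1 * z2), mul_right_inj] at e3
  have p := heis_pow (h.ker_comm hz) e0
  have c' : ∀ n g, z ^ n * g = g * z ^ n := fun n g => (Commute.pow_left (h.ker_comm hz g) n).eq
  have q : ∀ i j k l : ℕ, z ^ (k * j) * (a ^ i * b ^ j * (a ^ k * b ^ l)) =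
      a ^ (i + k) * b ^ (j + l) := fun i j k l => by
    calc _ = z ^ (k * j) * a ^ i * (b ^ j * a ^ k) * b ^ l := by simp only [mul_assoc]
      _ = a ^ i * (a ^ k * b ^ j) * b ^ l := by rw [c', p, mul_assoc (a ^ i)]
      _ = _ := by simp only [pow_add, mul_assoc]
  have e4 := (q i j k l).trans ((add_comm i k ▸ add_comm j l ▸ q k l i j).symm)
  rw [e3, ← mul_assoc, mul_left_inj, ← pow_succ, pow_mod_eq (h.ker_cube hz),
    pow_mod_eq (h.ker_cube hz) (m := i * l), e, ← pow_mod_eq (h.ker_cube hz),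
    ← pow_mod_eq (h.ker_cube hz), mul_comm k, pow_succ z (_ + 1), left_eq_mul] at e4
  exact h.nine_ne h2 h3 hn (by rw [e0, e4, one_mul])

theorem a7_inn [Finite X] (h : Hyp ρ π) (e : IsAlt 7 X) :
    (∃ ω : K, ω ^ 3 = 1 ∧ ω ≠ 1) ∧ ∀ m, Nrm ρ m → Inn ρ m := by
  have h5 := h.a7_five e
  have h2 : (2 : K) ≠ 0 := fun e => one_ne_zero (α := K) (by linear_combination h5 - 2 * e)
  have h3 : (3 : K) ≠ 0 := fun e => one_ne_zero (α := K) (by linear_combination 2 * e - h5)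
  obtain ⟨e⟩ := e
  have h' := h.congr e
  obtain ⟨x, y, hn, ha⟩ := a7_aut
  refine ⟨h'.nine_omega h2 h3 hn, fun m hm => ?_⟩
  obtain ⟨c, α, h1, h4⟩ := h'.exists_aut hm
  obtain ⟨y, hy⟩ := (ha α).resolve_right (h'.not_flip h2 h3 hn h1 h4)
  exact h'.inn_of_aut h1 (y := y) fun g => by rw [h4, hy]

theorem a6_inn [Finite X] (h : Hyp ρ π) (e : IsAlt 6 X) (h2 : (2 : K) ≠ 0) (h3 : (3 : K) ≠ 0) :
    (∃ ω : K, ω ^ 3 = 1 ∧ ω ≠ 1) ∧ (∀ m, Nrm ρ m → ¬ Inn ρ m → (5 : K) = 0) ∧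
      ∀ m m', Nrm ρ m → Nrm ρ m' → ¬ Inn ρ m → ¬ Inn ρ m' → Inn ρ (m' * m⁻¹) := by
  obtain ⟨e⟩ := e
  have h' := h.congr e
  generalize e.toMonoidHom.comp π = π' at h'
  haveI := h'.finite
  obtain ⟨x, y, hn, ha⟩ := a6_aut
  have key : ∀ m, Nrm ρ m → ¬ Inn ρ m → ∃ (c : Γ →* Γ) (α : MulAut _), (∀ g, ρ (c g) =
      m.val * ρ g * m⁻¹.val) ∧ (∀ g, π' (c g) = α (π' g)) ∧
      ∃ d, α a6a = d * a6a * d⁻¹ ∧ α a6b = d * a6m * d⁻¹ := fun m hm hi => by
    obtain ⟨c, α, h1, h4⟩ := h'.exists_aut hm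
    exact ⟨c, α, h1, h4, ((ha α).resolve_left fun ⟨y, hy⟩ => hi (h'.inn_of_aut h1 (y := y)
      fun g => by rw [h4, hy])).resolve_left (h'.not_flip h2 h3 hn h1 h4)⟩
  refine ⟨h'.nine_omega h2 h3 hn, fun m hm hi => ?_, fun m m' hm hm' hi hi' => ?_⟩
  · obtain ⟨c, α, h1, h4, d, ea, eb⟩ := key m hm hi
    obtain ⟨g, eg, hg⟩ := h'.exists_lift (n := 5) (by norm_num) a6_five.2.1
    by_contra h5
    refine (h'.a6_ne ⟨MulEquiv.refl _⟩ h5 hg (by
      rintro rfl; exact a6_five.1 (eg.symm.trans (map_one _)))).2 2 (Or.inl rfl) ?_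
    rw [← trace_aut h1 g]
    refine (h'.trace_of_isConj (n := 5) (by norm_num) (by
      rw [← pow_mul, mul_comm, pow_mul, hg, one_pow]) (by rw [← map_pow, hg, map_one]) ?_).symm
    rw [map_pow, h4, eg, map_mul, ea, eb, conj_mul]
    exact a6_five.2.2.trans (isConj_iff.2 ⟨d, rfl⟩)
  · obtain ⟨c, α, h1, h4, d, ea, eb⟩ := key m hm hi
    obtain ⟨c', α', h1', h4', d', ea', eb'⟩ := key m' hm' hi'
    let s := MulEquiv.ofBijective c (Finite.injective_iff_bijective.1 fun a b e => h.inj (by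
      have := congrArg ρ e
      rwa [h1, h1, Units.mul_left_inj, Units.mul_right_inj] at this))
    have hs : ∀ g, c (s.symm g) = g := s.apply_symm_apply
    have := a6_gen (H := α'.toMonoidHom.eqLocus
      ((MulAut.conj (d' * d⁻¹)).toMonoidHom.comp α.toMonoidHom))
      (by change α' _ = _ * α _ * _; rw [ea, ea']; group)
      (by change α' _ = _ * α _ * _; rw [eb, eb']; group)
    refine h'.inn_of_aut (c := c'.comp s.symm.toMonoidHom) (y := d' * d⁻¹) (fun g => ?_) fun g => ?_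
    · conv_rhs => rw [← hs g, h1]
      simp [h1', mul_assoc]
    · conv_rhs => rw [← hs g, h4]
      exact (h4' _).trans (this ▸ mem_top (π' (s.symm g)) : _ ∈ α'.toMonoidHom.eqLocus _)

end Hyp

end Cfsg.Agent.H10.P3
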