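import Cfsg.Agent.H10.UProper
import Cfsg.Agent.H10.SU2
import Cfsg.Agent.H98.Descent
import Cfsg.Agent.H98.FormUnique
import Cfsg.Agent.S0752

/-! Subfield subgroups of unitary groups. -/

set_option autoImplicit false
set_option linter.unusedSectionVars false

namespace Cfsg.Agent.H10

open Cfsg Cfsg.Geo Cfsg.Agent.H98 Cfsg.Agent.H99 Matrix

variable {F : Type*} [Field F] [Fintype F] {q : ℕ} [hF : Fact (Fintype.card F = q ^ 2)] {n : ℕ}
variable {ι : Type} [Fintype ι] [DecidableEq ι]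

local notation "σ" => cj F q
local notation "𝐡" => hermForm n F q

omit [Fintype F] hF in
theorem even_card_of_symplectic {f : (ι → F) → (ι → F) → F} (hf : IsSymplecticForm f) :
    Even (Fintype.card ι) := by
  let B : LinearMap.BilinForm F (ι → F) := LinearMap.mk₂ F f hf.bilinear.add_left
    hf.bilinear.smul_left hf.bilinear.add_right (fun c x y => hf.bilinear.smul_right c x y)
  obtain ⟨m, k, b, -, -, -, h⟩ := S0752.result B hf.alternating
  have hk : k = 0 := by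
    by_contra hk
    obtain ⟨y, hy⟩ := (hf.nondegenerate _ (b.ne_zero (Sum.inr ⟨0, Nat.pos_of_ne_zero hk⟩))).2
    exact hy (h _ y)
  have := Module.finrank_eq_card_basis b
  simp [hk] at this
  exact ⟨m, this⟩

omit hF in
theorem finrank_eq_of_card {F₁ : Subfield F} {r : ℕ} (h : Fintype.card F = Nat.card F₁ ^ r) :
    Module.finrank F₁ F = r := by
  have h1 := card_eq_pow_finrank_subfield F₁
  rw [Nat.card_eq_fintype_card, h] at h1
  exact (Nat.pow_right_injective (Finite.one_lt_card (α := F₁)) h1).symm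

theorem exists_mem_cj_ne {F₁ : Subfield F} {r : ℕ} (hr : Odd r)
    (h : Fintype.card F = Nat.card F₁ ^ r) : ∃ t ∈ F₁, σ t ≠ t := by
  by_contra hc
  push Not at hc
  have h1 := Subfield.relfinrank_mul_finrank_top (show F₁ ≤ fixedSubfield F q from hc)
  rw [finrank_eq_of_card h, finrank_eq_of_card (F₁ := fixedSubfield F q) (r := 2)
    (by rw [card_fixedSubfield, hF.out])] at h1
  exact (Nat.not_even_iff_odd.2 hr) ⟨_, by rw [← h1, mul_two]⟩

theorem mem_iff_cj_of_card {F₁ : Subfield F} (h : Fintype.card F = Nat.card F₁ ^ 2) (x : F) :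
    x ∈ F₁ ↔ σ x = x := by
  rw [mem_subfield_iff_pow, Nat.pow_left_injective two_ne_zero (h.symm.trans hF.out)]; rfl

theorem fixedSubfield_ne_top : fixedSubfield F q ≠ ⊤ := by
  intro h
  obtain ⟨a, ha⟩ := exists_cj_ne F q
  exact ha (mem_fixedSubfield.1 (h ▸ Subfield.mem_top a))

omit [Fintype F] hF in
theorem subfieldSubgroup_mul_scal (F₁ : Subfield F) (P : GL ι F) (d : Fˣ) :
    subfieldSubgroup F₁ (P * scal ι d) = subfieldSubgroup F₁ P := by
  ext g
  simp only [H98.mem_subfieldSubgroup, _root_.mul_inv_rev, cj_mul, ← scal_inv, cj_scal]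

/-- A structure carrying a fixed multiple of the form can be rescaled to carry the form. -/
theorem exists_rescale {F₁ : Subfield F} {P : GL (Fin n) F} {ζ : F} (h0 : ζ ≠ 0) (hζ : σ ζ = ζ)
    (h : IsFormRationalStructure 𝐡 F₁ ζ P) :
    ∃ P', IsFormRationalStructure 𝐡 F₁ 1 P' ∧ subfieldSubgroup F₁ P' = subfieldSubgroup F₁ P := by
  obtain ⟨d, hd⟩ := exists_norm_eq hζ
  have hd0 : d ≠ 0 := by rintro rfl; simp at hd; exact h0 hd.symm
  refine ⟨P * scal _ (Units.mk0 d hd0), fun u v hu hv => ?_, subfieldSubgroup_mul_scal _ _ _⟩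
  have := h u v hu hv
  simp only [Units.val_mul, coe_scal, Matrix.mul_smul, mul_one, smul_mulVec, herm_smul_left,
    herm_smul_right, Units.val_mk0, one_mul]
  rwa [← mul_assoc, mul_comm (σ d), hd]

theorem exists_herm_col_ne (hn : 1 ≤ n) (P : GL (Fin n) F) :
    ∃ i j : Fin n, 𝐡 ((P : Matrix (Fin n) (Fin n) F) *ᵥ Pi.single i 1)
      ((P : Matrix (Fin n) (Fin n) F) *ᵥ Pi.single j 1) ≠ 0 := by
  by_contra hc
  push Not at hc
  have h1 : (P : Matrix (Fin n) (Fin n) F) *ᵥ Pi.single ⟨0, hn⟩ 1 = 0 := by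
    apply eq_zero_of_herm_left (q := q)
    intro y
    rw [← mulVec_inv_mulVec P y,
      pi_eq_sum_univ' (((P⁻¹ : GL (Fin n) F) : Matrix (Fin n) (Fin n) F) *ᵥ y),
      mulVec_sum, herm_sum_right]
    simp only [mulVec_smul, herm_smul_right, hc, mul_zero, Finset.sum_const_zero]
  have := (gl_mulVec_eq_zero P).1 h1
  simpa using congrFun this ⟨0, hn⟩

omit [Fintype F] hF in
theorem single_mem_subfield (F₁ : Subfield F) (i j : ι) : (Pi.single i (1 : F) : ι → F) j ∈ F₁ := by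
  rw [Pi.single_apply]; split_ifs
  exacts [F₁.one_mem, F₁.zero_mem]

theorem cj_div_mem (hn : 1 ≤ n) {F₁ : Subfield F} {P : GL (Fin n) F} {ζ : F} (h0 : ζ ≠ 0)
    (h : IsFormRationalStructure 𝐡 F₁ ζ P) : σ ζ / ζ ∈ F₁ := by
  obtain ⟨i, j, hij⟩ := exists_herm_col_ne (q := q) hn P
  have h1 := h _ _ (single_mem_subfield F₁ i) (single_mem_subfield F₁ j)
  have h2 := map_mem_subfield F₁ σ (h _ _ (single_mem_subfield F₁ j) (single_mem_subfield F₁ i))
  rw [map_mul, cj_herm] at h2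
  have := F₁.div_mem h2 h1
  rwa [mul_div_mul_right _ _ hij] at this

/-- The bilinear form attached to a structure over the fixed field. -/
noncomputable def bilOf (q : ℕ) [Fact (Fintype.card F = q ^ 2)] (P : GL (Fin n) F) (ζ : F)
    (x y : Fin n → F) : F :=
  ζ * hermForm n F q x ((P : Matrix (Fin n) (Fin n) F) *ᵥ fun i =>
    cj F q ((((P⁻¹ : GL (Fin n) F) : Matrix (Fin n) (Fin n) F) *ᵥ y) i))

theorem bilOf_apply (P : GL (Fin n) F) (ζ : F) (u v : Fin n → F) :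
    bilOf q P ζ ((P : Matrix (Fin n) (Fin n) F) *ᵥ u) ((P : Matrix (Fin n) (Fin n) F) *ᵥ v) =
      ζ * 𝐡 ((P : Matrix (Fin n) (Fin n) F) *ᵥ u)
        ((P : Matrix (Fin n) (Fin n) F) *ᵥ fun i => σ (v i)) := by
  rw [bilOf, inv_mulVec_mulVec]

theorem bilOf_eq_sum (P : GL (Fin n) F) (ζ : F) (u v : Fin n → F) :
    bilOf q P ζ ((P : Matrix (Fin n) (Fin n) F) *ᵥ u) ((P : Matrix (Fin n) (Fin n) F) *ᵥ v) =
      ∑ i, ∑ j, u i * (ζ * 𝐡 ((P : Matrix (Fin n) (Fin n) F) *ᵥ Pi.single i 1)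
        ((P : Matrix (Fin n) (Fin n) F) *ᵥ Pi.single j 1)) * v j := by
  rw [bilOf_apply]
  have := form_frmV_of_single (isSesq_herm (F := F) (q := q) (n := n)) (Equiv.refl _) P u
    fun i => σ (v i)
  simp only [frmV_apply, Equiv.coe_refl, Function.comp_id, sig_apply, cj_cj] at this
  rw [this, Finset.mul_sum]
  refine Finset.sum_congr rfl fun i _ => ?_
  rw [Finset.mul_sum]
  exact Finset.sum_congr rfl fun j _ => by ring

theorem isSesq_bilOf {F₁ : Subfield F} (hc : Fintype.card F = Nat.card F₁ ^ 2) {P : GL (Fin n) F}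
    {ζ ε : F} (h0 : ζ ≠ 0) (hε : ε = 1 ∨ ε = -1) (hζ : σ ζ = ε * ζ)
    (h : IsFormRationalStructure 𝐡 F₁ ζ P) : IsSesq (RingEquiv.refl F) ε (bilOf q P ζ) := by
  have hherm : ∀ v w, bilOf q P ζ v w = ε * bilOf q P ζ w v := by
    intro v w
    rw [← mulVec_inv_mulVec P v, ← mulVec_inv_mulVec P w, bilOf_eq_sum, bilOf_eq_sum,
      Finset.sum_comm, Finset.mul_sum]
    refine Finset.sum_congr rfl fun i _ => ?_
    rw [Finset.mul_sum]
    refine Finset.sum_congr rfl fun j _ => ?_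
    have h1 := (mem_iff_cj_of_card (q := q) hc _).1
      (h _ _ (single_mem_subfield F₁ i) (single_mem_subfield F₁ j))
    rw [map_mul, cj_herm, hζ] at h1
    rw [← h1]
    rcases hε with rfl | rfl <;> ring
  have hnd : ∀ v, v ≠ 0 → ∃ x, bilOf q P ζ x v ≠ 0 := by
    intro v hv
    obtain ⟨y, hy⟩ := exists_herm_eq_one (q := q) (v := (P : Matrix (Fin n) (Fin n) F) *ᵥ fun i =>
      σ ((((P⁻¹ : GL (Fin n) F) : Matrix (Fin n) (Fin n) F) *ᵥ v) i)) (by
        rw [Ne, gl_mulVec_eq_zero]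
        intro h1
        apply hv
        rw [← gl_mulVec_eq_zero P⁻¹]
        ext i
        exact cj_eq_zero.1 (congrFun h1 i))
    exact ⟨y, by rw [bilOf, hy, mul_one]; exact h0⟩
  refine ⟨fun _ => rfl, hε, fun x y v => ?_, fun c x v => ?_, hherm, fun v hv => ⟨hnd v hv, ?_⟩⟩
  · simp only [bilOf, herm_add_left, mul_add]
  · simp only [bilOf, herm_smul_left]; ring
  · obtain ⟨x, hx⟩ := hnd v hv
    refine ⟨x, fun h1 => hx ?_⟩
    rw [hherm, h1, mul_zero]

theorem le_sim_bilOf {F₁ : Subfield F} (hc : Fintype.card F = Nat.card F₁ ^ 2) (P : GL (Fin n) F)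
    (ζ : F) : subfieldSubgroup F₁ P ⊓ GU n F q ≤ similarityGroup (bilOf q P ζ) := by
  rintro g ⟨hg, hu⟩
  obtain ⟨c, hc'⟩ := H98.mem_subfieldSubgroup.1 hg
  have hc0 : σ c ≠ 0 := cj_ne_zero.2 c.ne_zero
  refine ⟨Units.mk0 (σ c / c) (div_ne_zero hc0 c.ne_zero), fun x y => ?_⟩
  have key : ((P : Matrix (Fin n) (Fin n) F) *ᵥ fun i =>
      σ ((((P⁻¹ : GL (Fin n) F) : Matrix (Fin n) (Fin n) F) *ᵥ
        ((g : Matrix (Fin n) (Fin n) F) *ᵥ y)) i)) = ((c : F) / σ c) •
      ((g : Matrix (Fin n) (Fin n) F) *ᵥ ((P : Matrix (Fin n) (Fin n) F) *ᵥ fun i =>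
        σ ((((P⁻¹ : GL (Fin n) F) : Matrix (Fin n) (Fin n) F) *ᵥ y) i))) := by
    rw [← cj_mulVec P⁻¹, ← mulVec_inv_mulVec P ((g : Matrix (Fin n) (Fin n) F) *ᵥ _),
      ← cj_mulVec P⁻¹, inv_mulVec_mulVec, ← mulVec_smul]
    congr 1
    ext i
    have h1 : ∀ j, σ (H98.cj P⁻¹ (g : Matrix (Fin n) (Fin n) F) i j) =
        (c : F) / σ c * H98.cj P⁻¹ (g : Matrix (Fin n) (Fin n) F) i j := by
      intro j
      have := (mem_iff_cj_of_card (q := q) hc _).1 (hc' i j)
      rw [Matrix.smul_apply, smul_eq_mul, map_mul] at this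
      field_simp
      linear_combination this
    simp only [Pi.smul_apply, smul_eq_mul]
    generalize ((P⁻¹ : GL (Fin n) F) : Matrix (Fin n) (Fin n) F) *ᵥ y = z
    simp only [mulVec, dotProduct, map_sum, map_mul, h1, Finset.mul_sum, mul_assoc]
  rw [bilOf, bilOf, key, herm_smul_right, (mem_GU_iff g).1 hu, map_div₀, cj_cj, Units.val_mk0]
  ring

theorem odd_card_iff : Odd (Fintype.card F) ↔ Odd q := by
  rw [hF.out, Nat.odd_pow_iff two_ne_zero]

theorem two_eq_zero_of_not_odd (h : ¬ Odd q) : (2 : F) = 0 :=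
  two_eq_zero_of_even (by rw [← Nat.even_iff, ← Nat.not_odd_iff_even, odd_card_iff (q := q)]; exact h)

theorem two_ne_zero_of_odd' (h : Odd q) : (2 : F) ≠ 0 := two_ne_zero_of_odd (odd_card_iff.2 h)

/-- A group of isometries lying in a subfield subgroup of prime index whose structure carries a
multiple of the form lies in a member of the fifth class. -/
theorem inClass_of_le_subfield (hn : 2 ≤ n) {H : Subgroup (GL (Fin n) F)} (hH : H ≤ GU n F q)
    (hI : Irr H) {F₁ : Subfield F} {r : ℕ} (hr : r.Prime) (hc : Fintype.card F = Nat.card F₁ ^ r)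
    {P : GL (Fin n) F} (hle : H ≤ subfieldSubgroup F₁ P) {ζ : F} (h0 : ζ ≠ 0)
    (h : IsFormRationalStructure 𝐡 F₁ ζ P) : ∃ M, InUnitaryClass n F q M ∧ H ≤ M := by
  have hl := cj_div_mem (by omega) h0 h
  have hs0 : σ ζ ≠ 0 := cj_ne_zero.2 h0
  rcases hr.eq_two_or_odd' with rfl | hodd
  · have hl2 := (mem_iff_cj_of_card (q := q) hc _).1 hl
    rw [map_div₀, cj_cj, div_eq_div_iff hs0 h0] at hl2
    have hε : σ ζ = ζ ∨ σ ζ = -ζ := mul_self_eq_mul_self_iff.1 hl2.symm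
    by_cases h1 : Odd q ∧ σ ζ = ζ
    · obtain ⟨P', hP', he⟩ := exists_rescale h0 h1.2 h
      exact ⟨_, Or.inl (Or.inr (Or.inr (Or.inr (Or.inr (Or.inr (Or.inl
        ⟨F₁, P', h1.1, hc, hP', rfl⟩)))))), le_inf (he ▸ hle) hH⟩
    have h2 : σ ζ = -1 * ζ := by
      rcases hε with h2 | h2
      · have := two_eq_zero_of_not_odd (F := F) (fun h3 => h1 ⟨h3, h2⟩)
        rw [h2]; linear_combination ζ * this
      · rw [h2]; ring
    have hB := isSesq_bilOf hc h0 (Or.inr rfl) h2 h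
    have halt : ∀ v, bilOf q P ζ v v = 0 := by
      intro v
      by_cases hq : Odd q
      · have := hB.herm v v
        have h3 : 2 * bilOf q P ζ v v = 0 := by
          simp only [RingEquiv.refl_apply] at this
          linear_combination this
        exact (mul_eq_zero.1 h3).resolve_left (two_ne_zero_of_odd' hq)
      · exact alternating_of_irr (by simpa using hn) (two_eq_zero_of_not_odd hq) hB hI
          ((le_inf hle hH).trans (le_sim_bilOf hc P ζ)) v
    refine ⟨_, Or.inl (Or.inr (Or.inr (Or.inr (Or.inr (Or.inr (Or.inr (Or.inl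
      ⟨F₁, P, ζ, ?_, hc, h0, ?_, h, fun u hu => ?_, rfl⟩))))))), le_inf hle hH⟩
    · simpa using even_card_of_symplectic (hB.symplectic halt)
    · rw [← cj_apply, h2]; ring
    · have := halt ((P : Matrix (Fin n) (Fin n) F) *ᵥ u)
      rw [bilOf_apply, funext fun i => (mem_iff_cj_of_card (q := q) hc _).1 (hu i)] at this
      exact (mul_eq_zero.1 this).resolve_left h0
  · obtain ⟨c, hc1, hc0, hc2⟩ : ∃ c ∈ F₁, c ≠ 0 ∧ σ (c * ζ) = c * ζ := by
      have key : ∀ t, σ ((t + σ t * (σ ζ / ζ)) * ζ) = (t + σ t * (σ ζ / ζ)) * ζ := by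
        intro t
        simp only [map_mul, map_add, map_div₀, cj_cj]
        field_simp
        ring
      have hm : ∀ t ∈ F₁, t + σ t * (σ ζ / ζ) ∈ F₁ := fun t ht =>
        F₁.add_mem ht (F₁.mul_mem (map_mem_subfield F₁ σ ht) hl)
      by_cases h1 : (1 : F) + σ 1 * (σ ζ / ζ) = 0
      · obtain ⟨t, ht, ht'⟩ := exists_mem_cj_ne (q := q) hodd hc
        refine ⟨_, hm t ht, fun h2 => ht' ?_, key t⟩
        rw [map_one] at h1
        linear_combination σ t * h1 - h2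
      · exact ⟨_, hm 1 F₁.one_mem, h1, key 1⟩
    obtain ⟨P', hP', he⟩ := exists_rescale (F₁ := F₁) (P := P) (mul_ne_zero hc0 h0) hc2
      (fun u v hu hv => by rw [mul_assoc]; exact F₁.mul_mem hc1 (h u v hu hv))
    exact ⟨_, Or.inl (Or.inr (Or.inr (Or.inr (Or.inr (Or.inl
      ⟨F₁, r, P', hr, hodd, hc, hP', rfl⟩))))), le_inf (he ▸ hle) hH⟩

theorem inClass_of_realisable (hn : 2 ≤ n) {H L : Subgroup (GL (Fin n) F)} (hH : H ≤ GU n F q)
    (hI : Irr H) (hL : grpAlg L = ⊤) (hz : NzG H L) {F₀ : Subfield F} (h0 : F₀ ≠ ⊤)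
    (hr : RealisableOver F₀ (matrixSet L))
    (hsim : ∀ x ∈ L, ∃ c ∈ F₀, ∀ u v, 𝐡 ((x : Matrix (Fin n) (Fin n) F) *ᵥ u)
      ((x : Matrix (Fin n) (Fin n) F) *ᵥ v) = c * 𝐡 u v) :
    ∃ M, InUnitaryClass n F q M ∧ H ≤ M := by
  obtain ⟨F₁, r, hle, hr', hc⟩ := exists_prime_index_subfield F₀ h0
  obtain ⟨B, hB⟩ := hr
  have hB' := fun s hs i j => hle (hB s hs i j)
  obtain ⟨ζ, hζ0, hζ⟩ := exists_rational_form (isSesq_herm (q := q)) hL F₁ B hB' fun x hx => by
    obtain ⟨c, hc, h⟩ := hsim x hx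
    exact ⟨c, hle hc, h⟩
  exact inClass_of_le_subfield hn hH hI hr' hc (le_subfieldSubgroup hL hz F₁ B hB') hζ0 hζ

theorem inClass_of_trace (hn : 2 ≤ n) {H L : Subgroup (GL (Fin n) F)} (hH : H ≤ GU n F q)
    (hI : Irr H) (hL : grpAlg L = ⊤) (hz : NzG H L) (hU : L ≤ GU n F q)
    (ht : ∀ x ∈ L, σ (x : Matrix (Fin n) (Fin n) F).trace = (x : Matrix (Fin n) (Fin n) F).trace) :
    ∃ M, InUnitaryClass n F q M ∧ H ≤ M :=
  inClass_of_realisable hn hH hI hL hz fixedSubfield_ne_top (realisable_of_trace hL _ ht)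
    fun x hx => ⟨1, Subfield.one_mem _, fun u v => by rw [one_mul]; exact hU hx u v⟩

end Cfsg.Agent.H10
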