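import Cfsg.Agent.H10.UFrame
import Cfsg.Agent.H10.USub
import Cfsg.Agent.H98.Master
import Cfsg.Agent.H98.FormCases
import Cfsg.Agent.H98.ExtraCard
import Cfsg.Agent.S0144

/-! The cases of the structure theorem for subgroups of unitary groups, part 1. -/

set_option autoImplicit false
set_option linter.unusedSectionVars false
set_option linter.style.haveILetI false

namespace Cfsg.Agent.H10

open Cfsg Cfsg.Geo Cfsg.Agent.H98 Cfsg.Agent.H99 Matrix
open scoped Kronecker commutatorElement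

variable {F : Type*} [Field F] [Fintype F] {q : ℕ} [hF : Fact (Fintype.card F = q ^ 2)] {n : ℕ}
variable {ι : Type} [Fintype ι] [DecidableEq ι]

local notation "σ" => cj F q
local notation "𝐡" => hermForm n F q

theorem card_eq_sq_of_involution {K : Type*} [Field K] (θ : K →+* K) (hθ : ∀ x, θ (θ x) = x) {a : K}
    (ha : θ a ≠ a) : Nat.card K = Nat.card (θ.eqLocusField (RingHom.id K)) ^ 2 := by
  rw [sq, ← Nat.card_prod]
  symm
  have h0 : a - θ a ≠ 0 := sub_ne_zero.2 ha.symm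
  have h0' : θ a - a ≠ 0 := sub_ne_zero.2 ha
  refine Nat.card_congr (Equiv.ofBijective (fun p => (p.1 : K) + p.2 * a) ⟨?_, fun y => ?_⟩)
  · rintro ⟨⟨x, hx⟩, ⟨y, hy⟩⟩ ⟨⟨x', hx'⟩, ⟨y', hy'⟩⟩ h
    change θ x = x at hx
    change θ y = y at hy
    change θ x' = x' at hx'
    change θ y' = y' at hy'
    have h1 : x + y * a = x' + y' * a := h
    have h2 := congrArg θ h1
    simp only [map_add, map_mul, hx, hy, hx', hy'] at h2
    have h3 : y = y' := mul_right_cancel₀ h0 (by linear_combination h1 - h2)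
    have h4 : x = x' := by rw [h3] at h1; exact add_right_cancel h1
    simp [h3, h4]
  · have hb : θ ((y - θ y) / (a - θ a)) = (y - θ y) / (a - θ a) := by
      rw [map_div₀, map_sub, map_sub, hθ, hθ]; field_simp; ring
    have hc : θ (y - (y - θ y) / (a - θ a) * a) = y - (y - θ y) / (a - θ a) * a := by
      rw [map_sub, map_mul, hb]; field_simp; ring
    exact ⟨(⟨_, hc⟩, ⟨_, hb⟩), by simp⟩

theorem not_adjClosed_two [Nonempty ι] {f : (ι → F) → (ι → F) → F} (hf : IsSesq (sig F q) 1 f)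
    {K : Subalgebra F (Matrix ι ι F)} (hK : IsFieldSubalgebra 2 K) : ¬ IsAdjointClosedFor f K := by
  intro hA
  rw [hf.adjClosed_iff] at hA
  letI : Field K := (isField_of_isFld hK.comm hK.inv).toField
  let θ : K →+* K :=
    { toFun := fun x => ⟨adj (sig F q) f x, hA x x.2⟩
      map_one' := Subtype.ext hf.adj_one
      map_mul' := fun x y => Subtype.ext (by
        change adj (sig F q) f (x * y) = adj (sig F q) f x * adj (sig F q) f y
        rw [hf.adj_mul]; exact hK.comm _ (hA _ y.2) _ (hA _ x.2))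
      map_zero' := Subtype.ext hf.adj_zero
      map_add' := fun x y => Subtype.ext (hf.adj_add x y) }
  have hθ : ∀ c : F, θ (algebraMap F K c) = algebraMap F K (σ c) := fun c => Subtype.ext (by
    change adj (sig F q) f (algebraMap F (Matrix ι ι F) c) = algebraMap F (Matrix ι ι F) (σ c)
    rw [Algebra.algebraMap_eq_smul_one, Algebra.algebraMap_eq_smul_one, hf.adj_smul, hf.adj_one]
    rfl)
  obtain ⟨a, ha⟩ := exists_cj_ne F q
  have ha' : θ (algebraMap F K a) ≠ algebraMap F K a := by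
    rw [hθ]; exact fun h => ha ((algebraMap F K).injective h)
  have h1 := card_eq_sq_of_involution θ (fun x => Subtype.ext (hf.adj_adj x)) ha'
  rw [Module.natCard_eq_pow_finrank (K := F), hK.finrank_eq] at h1
  have h2 := Nat.pow_left_injective two_ne_zero h1
  apply ha'
  have := (mem_subfield_iff_pow (θ.eqLocusField (RingHom.id K)) (algebraMap F K a)).2 (by
    rw [← h2, ← map_pow, Nat.card_eq_fintype_card, FiniteField.pow_card])
  exact this

theorem inClass_of_not_irr {H : Subgroup (GL (Fin n) F)} (hH : H ≤ GU n F q) (hI : ¬ Irr H) :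
    ∃ M, InUnitaryClass n F q M ∧ H ≤ M := by
  rcases caseR_form isSesq_herm (fixes_of_le_GU hH).le_similarityGroup hI with
    ⟨W, h1, h2, h3, -⟩ | ⟨W, h1, h2, h3, h4⟩ | ⟨k, D, h1, -, h2⟩
  · exact ⟨_, Or.inl (Or.inl ⟨W, h1, h2, rfl⟩), le_inf h3 hH⟩
  · exact ⟨_, Or.inl (Or.inr (Or.inl ⟨W, h1, h2, by simpa using h3, rfl⟩)), le_inf h4 hH⟩
  · exact ⟨_, Or.inl (Or.inr (Or.inr (Or.inl ⟨2, k, D, h1, rfl⟩))), le_inf h2 hH⟩

theorem inClass_of_caseZf (hn : 1 ≤ n) {H : Subgroup (GL (Fin n) F)} (hH : H ≤ GU n F q)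
    (hI : Irr H) (hZ : CaseZf 𝐡 H) : ∃ M, InUnitaryClass n F q M ∧ H ≤ M := by
  haveI : Nonempty (Fin n) := ⟨⟨0, hn⟩⟩
  rcases caseZ_form isSesq_herm (fixes_of_le_GU hH).le_similarityGroup hI hZ with
    ⟨t, k, D, h1, h2, -⟩ | ⟨k, D, h1, h2, h3⟩ | ⟨r, K, h1, h2, h3, h4⟩
  · exact ⟨_, Or.inl (Or.inr (Or.inr (Or.inl ⟨t, k, D, h1, rfl⟩))), le_inf h2 hH⟩
  · exact ⟨_, Or.inl (Or.inr (Or.inr (Or.inr (Or.inl
      ⟨k, D, by simpa using IsMDecomposition_mul_eq h1, h1, h2, rfl⟩)))), le_inf h3 hH⟩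
  · rcases h1.eq_two_or_odd' with rfl | hodd
    · exact absurd h3 (not_adjClosed_two isSesq_herm h2)
    · exact ⟨_, Or.inr (Or.inl ⟨r, K, h1, hodd, h2, h3, rfl⟩), le_inf h4 hH⟩

omit [Fintype F] hF in
theorem sim_pow {f : (ι → F) → (ι → F) → F} {x : GL ι F} {c : F}
    (h : ∀ u v, f ((x : Matrix ι ι F) *ᵥ u) ((x : Matrix ι ι F) *ᵥ v) = c * f u v) (k : ℕ) (u v) :
    f (((x ^ k : GL ι F) : Matrix ι ι F) *ᵥ u) (((x ^ k : GL ι F) : Matrix ι ι F) *ᵥ v) =
      c ^ k * f u v := by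
  induction k with
  | zero => simp
  | succ k ih => rw [pow_succ', Units.val_mul, ← mulVec_mulVec, ← mulVec_mulVec, h, ih]; ring

theorem mult_pow_eq_one (hn : 1 ≤ n) {x : GL (Fin n) F} {c : F}
    (h : ∀ u v, 𝐡 ((x : Matrix (Fin n) (Fin n) F) *ᵥ u) ((x : Matrix (Fin n) (Fin n) F) *ᵥ v) =
      c * 𝐡 u v) {k : ℕ} (hk : x ^ k = 1) : c ^ k = 1 := by
  have := sim_pow h k (Pi.single ⟨0, hn⟩ 1) (Pi.single ⟨0, hn⟩ 1)
  rw [hk, Units.val_one, one_mulVec, herm_single_single] at this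
  simpa using this.symm

theorem mult_fixed (hn : 1 ≤ n) {x : Matrix (Fin n) (Fin n) F} {c : F}
    (h : ∀ u v, 𝐡 (x *ᵥ u) (x *ᵥ v) = c * 𝐡 u v) : σ c = c := by
  have := h (Pi.single ⟨0, hn⟩ 1) (Pi.single ⟨0, hn⟩ 1)
  rw [herm_single_single, if_pos rfl, mul_one] at this
  rw [← this, cj_herm]

omit hF in
theorem exists_subfield_roots {p e d z : ℕ} (hp : p.Prime) [CharP F p] (hc : Fintype.card F = p ^ e)
    (hd : 0 < d) (hde : d < e) (hz : z ∣ p ^ d - 1) :
    ∃ F₀ : Subfield F, F₀ ≠ ⊤ ∧ ∀ c : F, c ^ z = 1 → c ∈ F₀ := by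
  haveI := Fact.mk hp
  haveI : ExpChar F p := ExpChar.prime hp
  have h1 : 1 ≤ p ^ d := Nat.one_le_pow _ _ hp.pos
  refine ⟨(iterateFrobenius F p d).eqLocusField (RingHom.id F), fun h => ?_, fun c hc => ?_⟩
  · have h2 : ∀ x : Fˣ, x ^ (p ^ d - 1) = 1 := by
      intro x
      have h3 : (x : F) ∈ (iterateFrobenius F p d).eqLocusField (RingHom.id F) := h ▸ trivial
      have h4 : (x : F) ^ p ^ d = x := h3
      apply mul_right_cancel (b := x)
      rw [← pow_succ, Nat.sub_add_cancel h1, one_mul]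
      exact Units.ext h4
    have h5 := Nat.le_of_dvd (by have := Nat.one_lt_pow hd.ne' hp.one_lt; omega)
      ((FiniteField.forall_pow_eq_one_iff F _).1 h2)
    have h6 := Nat.pow_lt_pow_right hp.one_lt hde
    omega
  · obtain ⟨w, hw⟩ := hz
    change c ^ p ^ d = c
    rw [← Nat.sub_add_cancel h1, pow_succ, hw, pow_mul, hc, one_pow, one_mul]

theorem inClass_of_caseE (hn : 2 ≤ n) {H : Subgroup (GL (Fin n) F)} (hH : H ≤ GU n F q)
    (hI : Irr H) (hE : CaseE H) : ∃ M, InUnitaryClass n F q M ∧ H ≤ M := by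
  obtain ⟨r, m, R, hE⟩ := hE
  haveI : Nonempty (Fin n) := ⟨⟨0, by omega⟩⟩
  obtain ⟨p, k, hp, hc, hk, hq⟩ := exists_char_pow_of_card_sq hF.out
  have hcard : Fintype.card F = p ^ (2 * k) := by rw [hF.out, hq, ← pow_mul, mul_comm]
  have hrp : r ≠ p := by rintro rfl; exact hE.ne_char (CharP.cast_eq_zero F r)
  have hsim : R ≤ similarityGroup 𝐡 := hE.le_hat.trans
    (isSesq_herm.sup_scalars_le_similarityGroup (fixes_of_le_GU hH).le_similarityGroup)
  have h4 : r = 2 → 4 ∣ p ^ 2 - 1 := by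
    rintro rfl
    obtain ⟨j, hj⟩ := hp.odd_of_ne_two hrp.symm
    exact ⟨j * j + j, by rw [hj]; ring_nf; omega⟩
  have hz : Nat.card (Subgroup.center R) = r * Nat.gcd 2 r ∧
      Nat.card (Subgroup.center R) ∣ p ^ (2 * k) - 1 := by
    rw [← hcard, ← Nat.card_eq_fintype_card]
    rcases hE.card_center with ⟨h1, h2, h3⟩ | ⟨rfl, h2, h3⟩ | ⟨rfl, h2, h3⟩
    · rw [h2, Nat.coprime_two_left.2 h1, mul_one]; exact ⟨rfl, h3⟩
    · rw [h2]; exact ⟨rfl, h3⟩
    · exfalso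
      apply h3
      rw [Nat.card_eq_fintype_card, hcard, pow_mul]
      exact (h4 rfl).trans (Nat.sub_one_dvd_pow_sub_one _ _)
  by_cases hmin : ∀ d, 0 < d → d < 2 * k → ¬ Nat.card (Subgroup.center R) ∣ p ^ d - 1
  · refine ⟨_, Or.inl (Or.inr (Or.inr (Or.inr (Or.inr (Or.inr (Or.inr (Or.inr
      ⟨r, R, p, 2 * k, m, hE.sympl, absIrr_of_grpAlg_eq_top hE.span, hsim, hrp,
        ⟨hp, hc, hcard, hz.2, hmin⟩, ?_, rfl⟩))))))), le_inf hE.nz.le_normalizer hH⟩
    rcases hE.prime.eq_two_or_odd' with rfl | hodd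
    · right
      have h5 : Nat.card (Subgroup.center R) = 4 := hz.1
      refine ⟨rfl, ?_, h5, by rw [hE.card_eq, h5]; ring⟩
      by_contra h6
      exact hmin 2 two_pos (by omega) (h5 ▸ h4 rfl)
    · left
      have h5 := hz.1
      rw [Nat.coprime_two_left.2 hodd, mul_one] at h5
      exact ⟨hodd, h5, hE.pos, by rw [hE.card_eq, h5]; ring⟩
  · push Not at hmin
    obtain ⟨d, hd, hde, hdz⟩ := hmin
    obtain ⟨F₀, h0, hF₀⟩ := exists_subfield_roots hp hcard hd hde hdz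
    rw [hz.1] at hF₀
    refine inClass_of_realisable hn hH hI hE.span hE.nz h0 (realisable_of_trace hE.span _
      fun x hx => ?_) fun x hx => ?_
    · by_cases hs : x ∈ scalars (Fin n) F
      · obtain ⟨c, rfl⟩ := mem_scalars_iff'.1 hs
        rw [coe_scal, trace_smul, trace_one, smul_eq_mul]
        refine F₀.mul_mem (hF₀ _ ?_) (natCast_mem F₀ _)
        rw [← Units.val_pow_eq_pow_val, (hE.scal_mem_iff c).1 hx, Units.val_one]
      · rw [hE.trace_eq_zero x hx hs]; exact F₀.zero_mem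
    · obtain ⟨c, hc'⟩ := hsim hx
      refine ⟨c, hF₀ _ (mult_pow_eq_one (by omega) hc' ?_), hc'⟩
      rw [← hE.sympl.exponent_eq]
      exact congrArg Subtype.val (Monoid.pow_exponent_eq_one (⟨x, hx⟩ : R))

theorem inClass_of_caseS (hn : 2 ≤ n) {H : Subgroup (GL (Fin n) F)} (hH : H ≤ GU n F q)
    (hI : Irr H) (hS : CaseS H) :
    (∃ M, InUnitaryClass n F q M ∧ H ≤ M) ∨ InUnitaryResidualClass H := by
  obtain ⟨L, hL⟩ := hS
  have hU := hL.le.trans hH
  by_cases hs : ∀ F₀ : Subfield F, F₀ ≠ ⊤ → ¬ RealisableOver F₀ (matrixSet L)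
  · right
    have key : ∀ (ε : F) (f : (Fin n → F) → (Fin n → F) → F), IsSesq (RingEquiv.refl F) ε f →
        ¬ Fixes L f := fun ε f hf h1 =>
      hs _ (fixedSubfield_ne_top (q := q)) (realisable_of_trace hL.span _ fun x hx => by
        rw [mem_fixedSubfield, ← sig_apply, ← trace_inv_of_fixes isSesq_herm (fixes_of_le_GU hU) hx,
          trace_inv_of_fixes hf h1 hx]; rfl)
    refine ⟨L, hL.residualCore hs, ?_, ?_⟩
    · rintro ⟨Q, hQ, h1⟩
      exact key _ _ (isSesq_polar hQ) (fixes_polar h1)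
    · rintro ⟨f, hf, h1⟩
      exact key _ _ (isSesq_of_symplectic hf) h1
  · left
    push Not at hs
    obtain ⟨F₀, h0, hr⟩ := hs
    exact inClass_of_realisable hn hH hI hL.span hL.normal h0 hr
      fun x hx => ⟨1, F₀.one_mem, fun u v => by rw [one_mul]; exact hU hx u v⟩

theorem grpAlg_isoG_inf {k : ℕ} (hk : 2 ≤ k) {f : (Fin k → F) → (Fin k → F) → F}
    (hf : IsSesq (sig F q) 1 f) : grpAlg (isoG f ⊓ specialLinear (Fin k) F) = ⊤ := by
  obtain ⟨Q, hQ⟩ := exists_isONF hf (Equiv.refl _)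
  exact grpAlg_eq_top_of_frm (Equiv.refl _) Q (grpAlg_SUG (q := q) hk) fun g hg =>
    ⟨hQ.mem_isoG.2 hg.1, (frmG_mem_sl _ _).2 hg.2⟩

omit [Fintype F] hF in
theorem trace_inv_fin_two {x : GL (Fin 2) F} (hx : (x : Matrix (Fin 2) (Fin 2) F).det = 1) :
    ((x⁻¹ : GL (Fin 2) F) : Matrix (Fin 2) (Fin 2) F).trace = (x : Matrix (Fin 2) (Fin 2) F).trace := by
  rw [Matrix.coe_units_inv, Matrix.inv_def, hx, adjugate_fin_two]
  simp [trace_fin_two, add_comm]

theorem inClass_of_power_two (hn : 2 ≤ n) {H : Subgroup (GL (Fin n) F)} (hH : H ≤ GU n F q)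
    (hI : Irr H) {t : ℕ} {e : Fin n ≃ (Fin t → Fin 2)} {P : GL (Fin n) F}
    {f₁ : (Fin 2 → F) → (Fin 2 → F) → F} (h₁ : IsSesq (sig F q) 1 f₁)
    (h : IsTensorPowerFormStructure (sig F q) 𝐡 f₁ e P) (hle : H ≤ tensorWreathSubgroup 2 t e P) :
    ∃ M, InUnitaryClass n F q M ∧ H ≤ M := by
  let φ : (Fin t → GL (Fin 2) F) →* GL (Fin n) F :=
    (frmG e P).toMonoidHom.comp (pureHom (Fin t) (Fin 2) F)
  have hφ : ∀ x, ((φ x : GL (Fin n) F) : Matrix (Fin n) (Fin n) F) =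
      frm e P (pureT fun i => (x i : Matrix (Fin 2) (Fin 2) F)) := fun _ => rfl
  let L : Subgroup (GL (Fin n) F) :=
    (Subgroup.pi Set.univ fun _ => specialLinear (Fin 2) F).map φ ⊓ GU n F q
  refine inClass_of_trace (L := L) hn hH hI ?_ ?_ inf_le_right ?_
  · rw [eq_top_iff]
    intro y _
    obtain ⟨Y, rfl⟩ := (frm e P).surjective y
    have hm : ∀ i, ∀ g ∈ isoG f₁ ⊓ specialLinear (Fin 2) F, φ (Pi.mulSingle i g) ∈ L := by
      intro i g hg
      refine ⟨Subgroup.mem_map_of_mem _ fun j _ => ?_, pure_mem_isoG isSesq_herm h₁ h fun j => ?_⟩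
      · by_cases hj : j = i
        · subst hj; simpa using hg.2
        · simp [hj]
      · by_cases hj : j = i
        · subst hj; simpa using hg.1
        · simp [hj]
    have : (grpAlg L).comap (frm e P).toAlgHom = ⊤ := eq_top_of_powEmb_mem fun i X =>
      algHom_mem_grpAlg ((frm e P).toAlgHom.comp (powEmb (Fin t) (Fin 2) F i))
        (grpAlg_isoG_inf le_rfl h₁) (fun g hg => ⟨φ (Pi.mulSingle i g), hm i g hg,
          congrArg (frm e P) (coe_pureHom_single i g)⟩) X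
    have h2 : Y ∈ (grpAlg L).comap (frm e P).toAlgHom := this ▸ trivial
    exact h2
  · rintro g hg _ ⟨⟨x, hx, rfl⟩, hu⟩
    refine ⟨?_, (GU n F q).mul_mem ((GU n F q).mul_mem (hH hg) hu) ((GU n F q).inv_mem (hH hg))⟩
    obtain ⟨s, y, h1, -⟩ := wreath_cj' (hle hg)
    refine ⟨fun i => y i * x (s.symm i) * (y i)⁻¹, fun i _ => conj_mem_sl (hx _ trivial) _,
      Units.ext ?_⟩
    rw [← cj_coe, hφ, hφ, h1]
    simp only [cj_coe]
  · rintro _ ⟨⟨x, hx, rfl⟩, hu⟩
    rw [← sig_apply, ← trace_inv_of_fixes isSesq_herm (fixes_isoG _) hu, ← map_inv, hφ, hφ,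
      trace_frm, trace_frm, trace_pureT, trace_pureT]
    exact Finset.prod_congr rfl fun i _ => trace_inv_fin_two (mem_sl.1 (hx i trivial))

end Cfsg.Agent.H10
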