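import Cfsg.Agent.H10.UCases

/-! The cases of the structure theorem for subgroups of unitary groups, part 2. -/

set_option autoImplicit false
set_option linter.unusedSectionVars false
set_option linter.style.haveILetI false

namespace Cfsg.Agent.H10

open Cfsg Cfsg.Geo Cfsg.Agent.H98 Cfsg.Agent.H99 Matrix
open scoped Kronecker commutatorElement

variable {F : Type*} [Field F] [Fintype F] {q : ℕ} [hF : Fact (Fintype.card F = q ^ 2)] {n : ℕ}
variable {ι : Type} [Fintype ι] [DecidableEq ι]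

local notation "σ" => cj F q
local notation "𝐡" => hermForm n F q

theorem pow_three_eq_one (hq : q = 2) {c : F} (hc : c ≠ 0) : c ^ 3 = 1 := by
  have := FiniteField.pow_card_sub_one_eq_one c hc
  rwa [hF.out, hq] at this

theorem eq_one_of_fixed (hq : q = 2) {c : F} (hc : c ≠ 0) (h : σ c = c) : c = 1 := by
  rw [cj_apply, hq, sq] at h
  exact mul_right_cancel₀ hc (by rw [h, one_mul])

theorem sim_mult_fixed [Nonempty ι] {f : (ι → F) → (ι → F) → F} (hf : IsSesq (sig F q) 1 f)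
    {x : Matrix ι ι F} {c : F} (h : ∀ u v, f (x *ᵥ u) (x *ᵥ v) = c * f u v) : σ c = c := by
  obtain ⟨⟨u, hu⟩, -⟩ := hf.nondeg (Pi.single (Classical.arbitrary ι) 1) (by simp)
  have h1 := hf.herm (x *ᵥ u) (x *ᵥ Pi.single (Classical.arbitrary ι) 1)
  rw [h, h, map_mul, one_mul, ← one_mul (sig F q (f _ u)), ← hf.herm] at h1
  exact (mul_right_cancel₀ hu h1).symm

theorem sim_le_isoG (hq : q = 2) [Nonempty ι] {f : (ι → F) → (ι → F) → F}
    (hf : IsSesq (sig F q) 1 f) : similarityGroup f ≤ isoG f := by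
  rintro g ⟨c, hc⟩ u v
  have := hc u v
  rwa [eq_one_of_fixed hq c.ne_zero (sim_mult_fixed hf hc), one_mul] at this

theorem isSolvable_GU_three (hq : q = 2) : Group.IsSolvable (GU 3 F q) := by
  subst hq
  exact S0144.result 2 3 3 4 Nat.prime_two Nat.prime_three (by rw [card_GU F 2 3]; decide)

theorem exists_extra_three_std (hq : q = 2) :
    ∃ R : Subgroup (GL (Fin 3) F), ExtraData (GU 3 F q) 3 1 R := by
  have hI : Irr (GU 3 F q) := (SUG_irr (by norm_num)).mono inf_le_left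
  rcases master (by simp) (GU 3 F q) with h | h | h | h | h | h
  · exact absurd hI h
  · exfalso
    rcases caseZ_form isSesq_herm (fixes_isoG _).le_similarityGroup hI
      (h.caseZf isSesq_herm (fixes_isoG _)) with
      ⟨t, k, D, h1, h2, -⟩ | ⟨k, D, h1, h2, h3⟩ | ⟨r, K, h1, h2, h3, h4⟩
    · exact not_SUG_le_decStab le_rfl h1 (inf_le_left.trans h2)
    · exact not_SUG_le_decStab_singular h1 h2 (inf_le_left.trans h3)
    · exact not_SUG_le_fieldNorm le_rfl h1.two_le h2 (inf_le_left.trans h4)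
  · obtain ⟨a, b, e, P, h1, h2, -⟩ := h
    have : 3 = a * b := by simpa using Fintype.card_congr e
    nlinarith
  · obtain ⟨r, m, R, hE⟩ := h
    have h1 : 3 = r ^ m := by simpa using hE.card_index
    obtain ⟨rfl, rfl⟩ := (Nat.Prime.pow_eq_iff Nat.prime_three).1 h1.symm
    exact ⟨R, hE⟩
  · obtain ⟨k, t, e, P, h⟩ := h
    have h1 : 3 = k ^ t := by simpa using Fintype.card_congr e
    have h2 := Nat.pow_le_pow_left h.two_le_k t
    have h3 := Nat.pow_le_pow_right two_pos h.two_le_t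
    omega
  · obtain ⟨L, hL⟩ := h
    exfalso
    haveI := isSolvable_GU_three (F := F) hq
    haveI : Group.IsSolvable L :=
      Group.isSolvable_of_isSolvable_injective (Subgroup.inclusion_injective hL.le)
    haveI := hL.simple
    exact hL.nonabelian ⟨⟨IsSimpleGroup.comm_iff_isSolvable.2 inferInstance⟩⟩

theorem exists_extra_three (hq : q = 2) {f : (Fin 3 → F) → (Fin 3 → F) → F}
    (hf : IsSesq (sig F q) 1 f) : ∃ R : Subgroup (GL (Fin 3) F), R ≤ isoG f ∧ NzG (isoG f) R ∧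
      grpAlg R = ⊤ ∧ (∀ x ∈ R, x ^ 3 = 1) ∧
      (∀ x ∈ R, ∀ y ∈ R, x * y * x⁻¹ * y⁻¹ ∈ scalars (Fin 3) F) ∧ ∀ c, scal (Fin 3) c ∈ R := by
  obtain ⟨R, hR⟩ := exists_extra_three_std (F := F) hq
  obtain ⟨Q, hQ⟩ := exists_isONF hf (Equiv.refl _)
  have hRU : R ≤ GU 3 F q := (hR.le_hat.trans (isSesq_herm.sup_scalars_le_similarityGroup
    (fixes_isoG _).le_similarityGroup)).trans (sim_le_isoG hq isSesq_herm)
  refine ⟨R.map (frmG (Equiv.refl _) Q).toMonoidHom, ?_, ?_,
    grpAlg_eq_top_of_frm _ Q hR.span fun g hg => Subgroup.mem_map_of_mem _ hg, ?_, ?_, fun c => ?_⟩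
  · rintro _ ⟨x, hx, rfl⟩
    exact hQ.mem_isoG.2 (hRU hx)
  · rintro g hg _ ⟨x, hx, rfl⟩
    obtain ⟨g, rfl⟩ := (frmG (Equiv.refl _) Q).surjective g
    exact ⟨_, hR.nz g (hQ.mem_isoG.1 hg) x hx, by simp⟩
  · rintro _ ⟨x, hx, rfl⟩
    have h1 := Monoid.pow_exponent_eq_one (⟨x, hx⟩ : R)
    rw [hR.sympl.exponent_eq] at h1
    have h2 : x ^ 3 = 1 := congrArg Subtype.val h1
    rw [← map_pow, h2, map_one]
  · rintro _ ⟨x, hx, rfl⟩ _ ⟨y, hy, rfl⟩
    obtain ⟨c, hc⟩ := mem_scalars_iff'.1 (hR.comm_mem x hx y hy)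
    refine mem_scalars_iff'.2 ⟨c, ?_⟩
    rw [← frmG_scal (Equiv.refl _) Q, ← hc]; simp
  · refine ⟨_, (hR.scal_mem_iff c).2 (Units.ext ?_), frmG_scal _ _ c⟩
    rw [Units.val_pow_eq_pow_val]
    exact pow_three_eq_one hq c.ne_zero

omit [Fintype F] hF in
theorem pureHom_scal {τ α : Type} [Fintype τ] [DecidableEq τ] [Fintype α] [DecidableEq α]
    (c : τ → Fˣ) : pureHom τ α F (fun i => scal α (c i)) = scal (τ → α) (∏ i, c i) := by
  apply Units.ext
  rw [coe_pureHom, coe_scal]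
  simp only [coe_scal]
  rw [pureT_smul, Units.coe_prod, ← pureT_one]; rfl

theorem inClass_of_power_three (hq : q = 2) {H : Subgroup (GL (Fin n) F)} (hH : H ≤ GU n F q)
    (hZ : ¬ CaseZf 𝐡 H) {t : ℕ} (ht : 1 ≤ t) {e : Fin n ≃ (Fin t → Fin 3)} {P : GL (Fin n) F}
    {f₁ : (Fin 3 → F) → (Fin 3 → F) → F} (h₁ : IsSesq (sig F q) 1 f₁)
    (h : IsTensorPowerFormStructure (sig F q) 𝐡 f₁ e P) (hle : H ≤ tensorWreathSubgroup 3 t e P) :
    ∃ M, InUnitaryClass n F q M ∧ H ≤ M := by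
  haveI : Nonempty (Fin n) := nonempty_of_frame e
  have hn : n = 3 ^ t := by simpa using Fintype.card_congr e
  obtain ⟨R₁, h1, h2, h3, h4, h5, h6⟩ := exists_extra_three hq h₁
  let φ : (Fin t → GL (Fin 3) F) →* GL (Fin n) F :=
    (frmG e P).toMonoidHom.comp (pureHom (Fin t) (Fin 3) F)
  have hφ : ∀ x, ((φ x : GL (Fin n) F) : Matrix (Fin n) (Fin n) F) =
      frm e P (pureT fun i => (x i : Matrix (Fin 3) (Fin 3) F)) := fun _ => rfl
  have hφ1 : ∀ i x, ((φ (Pi.mulSingle i x) : GL (Fin n) F) : Matrix (Fin n) (Fin n) F) =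
      frm e P (powEmb (Fin t) (Fin 3) F i x) := fun i x =>
    congrArg (frm e P) (coe_pureHom_single i x)
  have hφU : ∀ x, (∀ i, x i ∈ isoG f₁) → φ x ∈ GU n F q := fun x hx =>
    pure_mem_isoG isSesq_herm h₁ h hx
  have hsingle : ∀ (S : Subgroup (GL (Fin 3) F)) (i : Fin t), ∀ g ∈ S, ∀ j,
      (Pi.mulSingle i g : Fin t → GL (Fin 3) F) j ∈ S := fun S i g hg j => by
    by_cases hj : j = i
    · subst hj; simpa using hg
    · simp [hj]
  let R : Subgroup (GL (Fin n) F) := (Subgroup.pi Set.univ fun _ => R₁).map φ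
  have hRU : R ≤ GU n F q := by
    rintro _ ⟨x, hx, rfl⟩
    exact hφU x fun i => h1 (hx i trivial)
  have hspan : grpAlg R = ⊤ := by
    rw [eq_top_iff]
    intro y _
    obtain ⟨Y, rfl⟩ := (frm e P).surjective y
    have : (grpAlg R).comap (frm e P).toAlgHom = ⊤ := eq_top_of_powEmb_mem fun i X =>
      algHom_mem_grpAlg ((frm e P).toAlgHom.comp (powEmb (Fin t) (Fin 3) F i)) h3
        (fun g hg => ⟨φ (Pi.mulSingle i g),
          Subgroup.mem_map_of_mem (K := Subgroup.pi Set.univ fun _ => R₁) _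
            fun j _ => hsingle R₁ i g hg j, hφ1 i g⟩) X
    have h2 : Y ∈ (grpAlg R).comap (frm e P).toAlgHom := this ▸ trivial
    exact h2
  have hnz : NzG H R := by
    rintro g hg _ ⟨x, hx, rfl⟩
    obtain ⟨s, y, h7, h8⟩ := wreath_cj' (hle hg)
    have hy : ∀ i, y i ∈ isoG f₁ := by
      intro i
      obtain ⟨i, rfl⟩ := s.surjective i
      refine sim_le_isoG hq h₁ (le_similarityGroup_of_nz h₁
        (eq_top_iff.2 ((grpAlg_isoG_inf (by norm_num) h₁).ge.trans (grpAlg_mono inf_le_left)))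
        (fixes_isoG f₁) (nzG_of_le_normalizer le_rfl) (Subgroup.mem_normalizer_fintype fun z hz => ?_))
      refine mem_isoG_of_single isSesq_herm (by norm_num) h₁ h (i := s i)
        (g := g * φ (Pi.mulSingle i z) * g⁻¹) ((GU n F q).mul_mem ((GU n F q).mul_mem (hH hg)
          (hφU _ (hsingle _ i z hz))) ((GU n F q).inv_mem (hH hg))) ?_
      rw [← cj_coe, ← cj_coe, hφ1, h8]
    refine ⟨fun i => y i * x (s.symm i) * (y i)⁻¹, fun i _ => h2 _ (hy i) _ (hx _ trivial),
      Units.ext ?_⟩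
    rw [← cj_coe, hφ, hφ, h7]
    simp only [cj_coe]
  have hpow : ∀ x ∈ R, x ^ 3 = 1 := by
    rintro _ ⟨x, hx, rfl⟩
    rw [← map_pow, show x ^ 3 = 1 from funext fun i => h4 _ (hx i trivial), map_one]
  have hφs : ∀ c : Fin t → Fˣ, φ (fun i => scal (Fin 3) (c i)) = scal (Fin n) (∏ i, c i) := fun c => by
    change frmG e P (pureHom (Fin t) (Fin 3) F _) = _
    rw [pureHom_scal, frmG_scal]
  have hcomm : ∀ x ∈ R, ∀ y ∈ R, x * y * x⁻¹ * y⁻¹ ∈ scalars (Fin n) F := by
    rintro _ ⟨x, hx, rfl⟩ _ ⟨y, hy, rfl⟩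
    choose c hc using fun i => mem_scalars_iff'.1 (h5 _ (hx i trivial) _ (hy i trivial))
    rw [← map_inv, ← map_inv, ← map_mul, ← map_mul, ← map_mul,
      show x * y * x⁻¹ * y⁻¹ = fun i => scal (Fin 3) (c i) from funext hc, hφs]
    exact scal_mem _
  have hscal : ∀ c : Fˣ, scal (Fin n) c ∈ R ↔ c ^ 3 = 1 := fun c =>
    ⟨fun _ => Units.ext (by rw [Units.val_pow_eq_pow_val]; exact pow_three_eq_one hq c.ne_zero),
      fun _ => ⟨fun i => scal (Fin 3) ((Pi.mulSingle ⟨0, ht⟩ c : Fin t → Fˣ) i), fun i _ => h6 _, by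
        rw [hφs, Finset.prod_pi_mulSingle']; simp⟩⟩
  have hc4 : Fintype.card F = 2 ^ 2 := by rw [hF.out, hq]
  have hc3 : Nat.card (R ⊓ scalars (Fin n) F : Subgroup _) = 3 := by
    rw [card_inf_scalars_of_iff hscal, Nat.card_eq_fintype_card, hc4]; rfl
  have hcZ : Nat.card (Subgroup.center R) = 3 := by rw [card_center_eq_of_span hspan, hc3]
  have hcR : Nat.card R = 3 ^ (1 + 2 * t) := by
    rw [card_eq_of_comm_mem hspan hcomm, hc3, Fintype.card_fin, hn]; ring
  have hexp : Monoid.exponent R = 3 * Nat.gcd 2 3 := by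
    have h7 : Monoid.exponent R ∣ 3 :=
      Monoid.exponent_dvd_of_forall_pow_eq_one fun x => Subtype.ext (hpow x x.2)
    rcases (Nat.dvd_prime Nat.prime_three).1 h7 with h8 | h8
    · exfalso
      haveI := Monoid.exp_eq_one_iff.1 h8
      have := Nat.card_of_subsingleton (1 : Subgroup.center R)
      omega
    · exact h8
  have hS : IsSymplecticTypeGroup 3 R := symplecticType_of_not_caseZ (H := H ⊔ R)
    (fun hc => by
      obtain ⟨Z, z1, z2, z3, z4⟩ := hc.caseZf isSesq_herm (fixes_of_le_GU (sup_le hH hRU))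
      exact hZ ⟨Z, z1, z2.mono le_sup_left, z3, z4⟩)
    (le_sup_right.trans le_sup_left)
    (nzG_of_le_normalizer (sup_le hnz.le_normalizer Subgroup.le_normalizer)) Nat.prime_three
    (fun x => ⟨1, Subtype.ext (by simpa using hpow x x.2)⟩) hexp
  have h2' : ringChar F = 2 := FiniteField.even_card_iff_char_two.2 (by rw [hc4]; rfl)
  refine ⟨_, Or.inl (Or.inr (Or.inr (Or.inr (Or.inr (Or.inr (Or.inr (Or.inr
    ⟨3, R, 2, 2, t, hS, absIrr_of_grpAlg_eq_top hspan, (fixes_of_le_GU hRU).le_similarityGroup,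
      by norm_num, ⟨Nat.prime_two, h2' ▸ ringChar.charP F, hc4, by rw [hcZ]; rfl, fun d h0 hd => ?_⟩,
      Or.inl ⟨by decide, hcZ, ht, hcR⟩, rfl⟩))))))), le_inf hnz.le_normalizer hH⟩
  rw [hcZ, show d = 1 by omega]; decide

theorem inClass_of_power (hn : 2 ≤ n) {H : Subgroup (GL (Fin n) F)} (hH : H ≤ GU n F q)
    (hI : Irr H) (hZ : ¬ CaseZf 𝐡 H) {k t : ℕ} (hk : 2 ≤ k) (ht : 2 ≤ t)
    {e : Fin n ≃ (Fin t → Fin k)} {P : GL (Fin n) F}
    {f₁ : (Fin k → F) → (Fin k → F) → F} (h₁ : IsSesq (sig F q) 1 f₁)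
    (h : IsTensorPowerFormStructure (sig F q) 𝐡 f₁ e P) (hle : H ≤ tensorWreathSubgroup k t e P) :
    ∃ M, InUnitaryClass n F q M ∧ H ≤ M := by
  rcases hk.eq_or_lt with rfl | hk
  · exact inClass_of_power_two hn hH hI h₁ h hle
  by_cases h3 : q = 2 ∧ k = 3
  · obtain ⟨hq, rfl⟩ := h3
    exact inClass_of_power_three hq hH hZ (by omega) h₁ h hle
  · exact ⟨_, Or.inr (Or.inr (Or.inr ⟨k, t, e, P, f₁, hk, ht, h3, pow_of_isSesq h₁, h, rfl⟩)),
      le_inf hle hH⟩

theorem tensor_std {f : (ι → F) → (ι → F) → F} {a b : ℕ} {e : ι ≃ Fin a × Fin b} {P : GL ι F}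
    {f₁ : (Fin a → F) → (Fin a → F) → F} {f₂ : (Fin b → F) → (Fin b → F) → F}
    (h₁ : IsSesq (sig F q) 1 f₁) (h₂ : IsSesq (sig F q) 1 f₂)
    (h : IsTensorFormStructure (sig F q) f f₁ f₂ e P) :
    ∃ (P' : GL ι F) (c : F), c ≠ 0 ∧
      (∀ x y, f (frmV e P' x) (frmV e P' y) = c * sumHerm _ (sig F q) x y) ∧
      tensorProductSubgroup a b e P ≤ tensorProductSubgroup a b e P' := by
  obtain ⟨Q₁, hQ₁⟩ := exists_isONF h₁ (Equiv.refl _)
  obtain ⟨Q₂, hQ₂⟩ := exists_isONF h₂ (Equiv.refl _)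
  obtain ⟨c, hc, h⟩ := h
  refine ⟨_, c, hc, fun x y => ?_, tensorProductSubgroup_mul e P Q₁ Q₂⟩
  rw [frmV_mul, frmV_mul, frmV_apply, frmV_apply, h, formOfGram_mulVec, ← formOfGram_one]
  congr 2
  change ((Q₁ : Matrix (Fin a) (Fin a) F) ⊗ₖ (Q₂ : Matrix (Fin b) (Fin b) F))ᵀ * _ *
    ((Q₁ : Matrix (Fin a) (Fin a) F) ⊗ₖ (Q₂ : Matrix (Fin b) (Fin b) F)).map _ = 1
  rw [kron_map, ← kroneckerMap_transpose, ← mul_kronecker_mul, ← mul_kronecker_mul, hQ₁.gram h₁,
    hQ₂.gram h₂, one_kronecker_one]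

theorem power_of_std {f : (ι → F) → (ι → F) → F} {k t : ℕ} {e : ι ≃ (Fin t → Fin k)} {P : GL ι F}
    {c : F} (hc : c ≠ 0) (h : ∀ x y, f (frmV e P x) (frmV e P y) = c * sumHerm _ (sig F q) x y) :
    IsTensorPowerFormStructure (sig F q) f (hermForm k F q) e P := by
  refine ⟨c, hc, fun x y => ?_⟩
  rw [← frmV_apply, ← frmV_apply, h, ← formOfGram_one, ← pureT_one, ← sumHerm_eq_herm, gram_sumHerm]
  rfl

theorem inClass_of_caseT (hn : 2 ≤ n) {H : Subgroup (GL (Fin n) F)} (hH : H ≤ GU n F q)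
    (hI : Irr H) (hZ : ¬ CaseZf 𝐡 H) (hT : CaseT H) : ∃ M, InUnitaryClass n F q M ∧ H ≤ M := by
  obtain ⟨a, b, e, P, ha, hab, hle, hA⟩ := hT
  obtain ⟨ε₁, ε₂, f₁, f₂, h₁, h₂, h, -, hε, -⟩ := tensor_form isSesq_herm (by omega) (by omega) e P
    (hA _ _ _ isSesq_herm (fixes_of_le_GU hH))
  obtain ⟨rfl, rfl⟩ := hε sig_ne_refl
  rcases hab.eq_or_lt with rfl | hab
  · obtain ⟨P', c, hc, h3, h4⟩ := tensor_std h₁ h₂ h
    refine inClass_of_power hn hH hI hZ ha le_rfl isSesq_herm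
      (power_of_std (e := e.trans (piFinTwoEquiv fun _ => Fin a).symm) (P := P') hc fun x y => ?_)
      ((hle.trans h4).trans (tensorProductSubgroup_le_wreath e P'))
    rw [frmV_trans, frmV_trans, h3, sumHerm, sumHerm]
    congr 1
    exact Equiv.sum_comp (piFinTwoEquiv fun _ => Fin a).symm fun k => x k * sig F q (y k)
  · exact ⟨_, Or.inr (Or.inr (Or.inl ⟨a, b, e, P, f₁, f₂, ha, hab, pow_of_isSesq h₁,
      pow_of_isSesq h₂, h, rfl⟩)), le_inf hle hH⟩

/-- The structure theorem for subgroups of the unitary group. -/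
theorem aschbacher_GU (hn : 2 ≤ n) {H : Subgroup (GL (Fin n) F)} (hH : H ≤ GU n F q) :
    (∃ M, InUnitaryClass n F q M ∧ H ≤ M) ∨ InUnitaryResidualClass H := by
  by_cases hI : Irr H
  swap
  · exact Or.inl (inClass_of_not_irr hH hI)
  by_cases hZ : CaseZf 𝐡 H
  · exact Or.inl (inClass_of_caseZf (by omega) hH hI hZ)
  rcases master (by simpa using hn) H with h | h | h | h | h | h
  · exact absurd hI h
  · exact absurd (h.caseZf isSesq_herm (fixes_of_le_GU hH)) hZ
  · exact Or.inl (inClass_of_caseT hn hH hI hZ h)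
  · exact Or.inl (inClass_of_caseE hn hH hI h)
  · obtain ⟨k, t, e, P, hW⟩ := h
    obtain ⟨ε₁, f₁, h₁, h2, -, hε, -⟩ := tensor_power_form isSesq_herm (fixes_of_le_GU hH) hW
    obtain rfl := hε sig_ne_refl
    exact Or.inl (inClass_of_power hn hH hI hZ hW.two_le_k hW.two_le_t h₁ h2 hW.le)
  · exact inClass_of_caseS hn hH hI h

theorem not_SUG_le_wreath {k t : ℕ} (hk : 3 ≤ k) (ht : 2 ≤ t) (e : Fin n ≃ (Fin t → Fin k))
    (P : GL (Fin n) F) : ¬ SUG n F q ≤ tensorWreathSubgroup k t e P := by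
  intro h
  have hn : n = k ^ t := by simpa using Fintype.card_congr e
  have hn2 : 2 ≤ n := by
    have := Nat.pow_le_pow_left hk t
    have := Nat.pow_le_pow_right (by norm_num : 0 < 3) ht
    omega
  let a0 : Fin k := ⟨0, by omega⟩
  let a1 : Fin k := ⟨1, by omega⟩
  have ha : a0 ≠ a1 := by simp [a0, a1, Fin.ext_iff]
  let i : Fin t := ⟨0, by omega⟩
  haveI : Nonempty (Fin k) := ⟨a0⟩
  obtain ⟨c, hc⟩ := scalar_of_comm_utG (q := q) hn2
    (M := frm e P (powEmb (Fin t) (Fin k) F i (Matrix.single a0 a1 1))) (fun v hv c hc => by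
      obtain ⟨h1, h2⟩ := utG_eq_tv hv hc
      obtain ⟨s, y, -, h3⟩ := wreath_cj' (h (utG_mem hv hc))
      have key : ∀ (p : Fin t) (hp : p ≠ i) (a : Fin k), ∃ b : Fin k → F, b ≠ 0 ∧ ∀ x : Fin t → Fin k,
          ∏ j, (Function.update (1 : Fin t → Matrix (Fin k) (Fin k) F) (s i)
            (H98.cj (y (s i)) (Matrix.single a0 a1 1)) j *ᵥ
              Function.update (fun _ => (Pi.single a 1 : Fin k → F)) p b j) (x j) =
          ∏ j, (Function.update (1 : Fin t → Matrix (Fin k) (Fin k) F) i (Matrix.single a0 a1 1) j *ᵥ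
              Function.update (fun _ => (Pi.single a 1 : Fin k → F)) p b j) (x j) := by
        intro p hp a
        let L : (Fin k → F) →ₗ[F] ((Fin t → Fin k) → F) :=
          { toFun := fun b x => ∏ j, Function.update (fun _ => (Pi.single a 1 : Fin k → F)) p b j (x j)
            map_add' := fun b b' => by
              ext x
              simp only [Pi.add_apply, ← Finset.mul_prod_erase _ _ (Finset.mem_univ p),
                Function.update_self, add_mul]
              congr 2 <;> exact Finset.prod_congr rfl fun j hj => by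
                simp only [Function.update_of_ne (Finset.ne_of_mem_erase hj)]
            map_smul' := fun c b => by
              ext x
              simp only [Pi.smul_apply, ← Finset.mul_prod_erase _ _ (Finset.mem_univ p),
                Function.update_self, smul_eq_mul, RingHom.id_apply, mul_assoc]
              congr 2
              exact Finset.prod_congr rfl fun j hj => by
                simp only [Function.update_of_ne (Finset.ne_of_mem_erase hj)] }
        obtain ⟨u, hu, hu1, hu2⟩ := exists_ne_zero_dot_two' (by simpa using hk)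
          ((frmV e P : ((Fin t → Fin k) → F) →ₗ[F] (Fin n → F)).comp L) (fun j => σ (v j))
          ((fun j => σ (v j)) ᵥ* frm e P (powEmb (Fin t) (Fin k) F i (Matrix.single a0 a1 1)))
        have h4 := cj_tv_mulVec h1 _ hu1 hu2
        rw [← h2, h3] at h4
        simp only [LinearMap.comp_apply, LinearEquiv.coe_coe, frm_mulVec,
          EmbeddingLike.apply_eq_iff_eq, powEmb_apply, L, LinearMap.coe_mk, AddHom.coe_mk,
          pureT_mulVec] at h4
        exact ⟨u, hu, congrFun h4⟩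
      have hprod : ∀ (g : Fin t → F) (p : Fin t), p ≠ i → (∀ j, j ≠ i → j ≠ p → g j = 1) →
          ∏ j, g j = g i * g p := fun g p hp hg => by
        rw [← Finset.prod_pair hp.symm]
        symm
        exact Finset.prod_subset (Finset.subset_univ _) fun j _ hj => hg j
          (fun h => hj (by simp [h])) (fun h => hj (by simp [h]))
      by_cases hs : s i = i
      · rw [← cj_eq_iff, h3, hs]
        congr 2
        ext a' a
        obtain ⟨b, hb, h4⟩ := key ⟨1, by omega⟩ (by simp [i, Fin.ext_iff]) a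
        obtain ⟨l, hl⟩ := Function.ne_iff.1 hb
        have hp : (⟨1, by omega⟩ : Fin t) ≠ i := by simp [i, Fin.ext_iff]
        have h5 := h4 (Function.update (Function.update (fun _ => a) i a') ⟨1, by omega⟩ l)
        rw [hprod _ _ hp (fun j h1 h2 => by simp [hs, h1, h2]),
          hprod _ _ hp (fun j h1 h2 => by simp [h1, h2])] at h5
        simp only [hs, Function.update_self, Function.update_of_ne hp, Function.update_of_ne hp.symm,
          Pi.one_apply, one_mulVec, mulVec_single_one, col_apply] at h5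
        exact mul_right_cancel₀ hl h5
      · exfalso
        obtain ⟨b, hb, h4⟩ := key (s i) hs a1
        obtain ⟨l, hl⟩ := Function.ne_iff.1 hb
        have h5 := h4 (Function.update (Function.update (fun _ => a1) i a0) (s i) l)
        rw [hprod _ _ hs (fun j h1 h2 => by simp [h1, h2]),
          hprod _ _ hs (fun j h1 h2 => by simp [h1, h2])] at h5
        simp [Function.update_of_ne hs, Function.update_of_ne (Ne.symm hs), ha] at h5
        exact hl h5.symm)
  rw [← map_one (frm e P), ← map_smul, EmbeddingLike.apply_eq_iff_eq,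
    ← map_one (powEmb (Fin t) (Fin k) F i), ← map_smul] at hc
  have := congrFun (congrFun (powEmb_injective i hc) a0) a1
  simp [ha] at this

end Cfsg.Agent.H10
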