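import Cfsg.Agent.H10.UProper
import Cfsg.Agent.H98.TensorForm
import Cfsg.Agent.H98.FormUnique

/-! Isometry groups of arbitrary Hermitian forms; coordinate decompositions; tensor frames. -/

set_option autoImplicit false
set_option linter.unusedSectionVars false

namespace Cfsg.Agent.H10

open Cfsg Cfsg.Geo Cfsg.Agent.H98 Cfsg.Agent.H99 Matrix
open scoped Kronecker

variable {F : Type*} [Field F]
variable {ι : Type} [Fintype ι] [DecidableEq ι] {κ : Type} [Fintype κ] [DecidableEq κ]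

/-- The isometry group of a two-argument form. -/
def isoG (f : (ι → F) → (ι → F) → F) : Subgroup (GL ι F) :=
  preserving (Units.coeHom (Matrix ι ι F)) f

theorem mem_isoG {f : (ι → F) → (ι → F) → F} {g : GL ι F} :
    g ∈ isoG f ↔ ∀ u v, f ((g : Matrix ι ι F) *ᵥ u) ((g : Matrix ι ι F) *ᵥ v) = f u v := Iff.rfl

theorem isoG_herm (n q : ℕ) : isoG (hermForm n F q) = GU n F q := rfl

theorem fixes_isoG (f : (ι → F) → (ι → F) → F) : Fixes (isoG f) f := fixes_iff.2 fun _ hg => hg

theorem mem_isoG_iff_adj {s : F ≃+* F} {ε : F} {f : (ι → F) → (ι → F) → F} (hf : IsSesq s ε f)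
    {g : GL ι F} : g ∈ isoG f ↔ adj s f g * g = 1 := by
  constructor
  · intro h
    rw [hf.adj_of_fixes (fixes_isoG f) h, Units.inv_mul]
  · intro h u v
    have := hf.sim_of_adj_mul (g := g) (c := 1) (by rw [h, one_smul]) u v
    rwa [map_one, one_mul] at this

theorem frmG_mem_isoG {f : (ι → F) → (ι → F) → F} {f' : (κ → F) → (κ → F) → F} {e : ι ≃ κ}
    {P : GL ι F} {c : F} (hc : c ≠ 0) (h : ∀ x y, f (frmV e P x) (frmV e P y) = c * f' x y)
    {g : GL κ F} : frmG e P g ∈ isoG f ↔ g ∈ isoG f' := by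
  constructor
  · intro hg x y
    have := hg (frmV e P x) (frmV e P y)
    simp only [Units.coeHom_apply, frmG_mulVec, h] at this
    exact mul_left_cancel₀ hc this
  · intro hg u v
    obtain ⟨x, rfl⟩ := (frmV e P).surjective u
    obtain ⟨y, rfl⟩ := (frmV e P).surjective v
    simp only [Units.coeHom_apply, frmG_mulVec, h]
    rw [mem_isoG.1 hg]

theorem frmG_mem_sim {f : (ι → F) → (ι → F) → F} {f' : (κ → F) → (κ → F) → F} {e : ι ≃ κ}
    {P : GL ι F} {c : F} (hc : c ≠ 0) (h : ∀ x y, f (frmV e P x) (frmV e P y) = c * f' x y)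
    {g : GL κ F} : frmG e P g ∈ similarityGroup f ↔ g ∈ similarityGroup f' := by
  constructor
  · rintro ⟨d, hg⟩
    refine ⟨d, fun x y => ?_⟩
    have := hg (frmV e P x) (frmV e P y)
    simp only [frmG_mulVec, h] at this
    exact mul_left_cancel₀ hc (by rw [this]; ring)
  · rintro ⟨d, hg⟩
    refine ⟨d, fun u v => ?_⟩
    obtain ⟨x, rfl⟩ := (frmV e P).surjective u
    obtain ⟨y, rfl⟩ := (frmV e P).surjective v
    simp only [frmG_mulVec, h, hg]; ring

theorem IsONF.mem_isoG {s : F ≃+* F} {f : (ι → F) → (ι → F) → F} {e : ι ≃ κ} {P : GL ι F}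
    (h : IsONF s f e P) {g : GL κ F} : frmG e P g ∈ isoG f ↔ g ∈ isoG (sumHerm κ s) :=
  frmG_mem_isoG one_ne_zero fun x y => by rw [one_mul, h x y]

theorem grpAlg_eq_top_of_frm (e : ι ≃ κ) (P : GL ι F) {L : Subgroup (GL κ F)} (hL : grpAlg L = ⊤)
    {L' : Subgroup (GL ι F)} (h : ∀ g ∈ L, frmG e P g ∈ L') : grpAlg L' = ⊤ := by
  rw [eq_top_iff]
  intro x _
  obtain ⟨X, rfl⟩ := (frm e P).surjective x
  have hX : X ∈ grpAlg L := hL ▸ trivial
  refine grpAlg_induction (p := fun X => frm e P X ∈ grpAlg L') ?_ ?_ ?_ ?_ hX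
  · intro g hg; exact coe_mem_grpAlg (h g hg)
  · simp
  · intro x y hx hy; rw [map_add]; exact add_mem hx hy
  · intro c x hx; rw [map_smul]; exact Subalgebra.smul_mem _ hx c

theorem algHom_mem_grpAlg (φ : Matrix κ κ F →ₐ[F] Matrix ι ι F) {L : Subgroup (GL κ F)}
    (hL : grpAlg L = ⊤) {L' : Subgroup (GL ι F)}
    (h : ∀ g ∈ L, ∃ g' ∈ L', (g' : Matrix ι ι F) = φ g) (X : Matrix κ κ F) : φ X ∈ grpAlg L' := by
  have hX : X ∈ grpAlg L := hL ▸ trivial
  refine grpAlg_induction (p := fun X => φ X ∈ grpAlg L') ?_ ?_ ?_ ?_ hX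
  · intro g hg
    obtain ⟨g', hg', e⟩ := h g hg
    rw [← e]; exact coe_mem_grpAlg hg'
  · simp
  · intro x y hx hy; rw [map_add]; exact add_mem hx hy
  · intro c x hx; rw [map_smul]; exact Subalgebra.smul_mem _ hx c

theorem frmV_mul (e : ι ≃ κ) (P : GL ι F) (Q : GL κ F) (x : κ → F) :
    frmV e (frmG e P Q * P) x = frmV e P ((Q : Matrix κ κ F) *ᵥ x) := by
  rw [← frmG_mulVec, frmV_apply, frmV_apply, Units.val_mul, mulVec_mulVec]

theorem frm_mul (e : ι ≃ κ) (P : GL ι F) (Q : GL κ F) (X : Matrix κ κ F) :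
    frm e (frmG e P Q * P) X = frm e P (H98.cj Q X) := by
  rw [← cj_frmG, frm_apply, frm_apply, cj_mul]

theorem frmV_trans {κ' : Type} [Fintype κ'] [DecidableEq κ'] (e : ι ≃ κ) (e' : κ ≃ κ') (P : GL ι F)
    (x : κ' → F) : frmV (e.trans e') P x = frmV e P (x ∘ e') := rfl

theorem IsONF.trans {κ' : Type} [Fintype κ'] [DecidableEq κ'] {s : F ≃+* F}
    {f : (ι → F) → (ι → F) → F} {e : ι ≃ κ} {P : GL ι F} (h : IsONF s f e P) (e' : κ ≃ κ') :
    IsONF s f (e.trans e') P := fun x y => by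
  rw [frmV_trans, frmV_trans, h, sumHerm, sumHerm]
  exact Equiv.sum_comp e' fun k => x k * s (y k)

theorem formOfGram_eq_dot (s : F ≃+* F) (G : Matrix κ κ F) (x y : κ → F) :
    formOfGram s G x y = x ⬝ᵥ (G *ᵥ fun i => s (y i)) := by
  simp only [formOfGram, dotProduct, Matrix.mulVec, Finset.mul_sum, mul_assoc]

theorem formOfGram_mulVec (s : F ≃+* F) (G Q : Matrix κ κ F) (x y : κ → F) :
    formOfGram s G (Q *ᵥ x) (Q *ᵥ y) = formOfGram s (Qᵀ * G * Q.map s) x y := by
  rw [formOfGram_eq_dot, formOfGram_eq_dot, IsSesq.map_mulVec, ← mulVec_mulVec, ← mulVec_mulVec,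
    dotProduct_mulVec x, vecMul_transpose]

theorem formOfGram_one (s : F ≃+* F) (x y : κ → F) : formOfGram s 1 x y = sumHerm κ s x y := by
  rw [formOfGram_eq_dot, one_mulVec]; rfl

theorem gram_sumHerm (s : F ≃+* F) : gramMatrix (sumHerm κ s) = 1 := by
  ext a b
  simp [gramMatrix, sumHerm_single_left, Pi.single_apply, Matrix.one_apply, apply_ite s]

theorem IsONF.gram {s : F ≃+* F} {ε : F} {f : (κ → F) → (κ → F) → F} (hf : IsSesq s ε f)
    {Q : GL κ F} (h : IsONF s f (Equiv.refl κ) Q) :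
    (Q : Matrix κ κ F)ᵀ * gramMatrix f * (Q : Matrix κ κ F).map s = 1 := by
  have h1 := gramMatrix_formOfGram s ((Q : Matrix κ κ F)ᵀ * gramMatrix f * (Q : Matrix κ κ F).map s) 1
  rw [one_smul] at h1
  rw [← h1, ← gram_sumHerm s]
  congr 1
  ext x y
  rw [one_mul, ← formOfGram_mulVec, ← hf.eq_formOfGram]
  exact h x y

/-- The Kronecker product of two invertible matrices. -/
def kronG {α β : Type} [Fintype α] [DecidableEq α] [Fintype β] [DecidableEq β] (x : GL α F)
    (y : GL β F) : GL (α × β) F where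
  val := (x : Matrix α α F) ⊗ₖ (y : Matrix β β F)
  inv := ((x⁻¹ : GL α F) : Matrix α α F) ⊗ₖ ((y⁻¹ : GL β F) : Matrix β β F)
  val_inv := by rw [← mul_kronecker_mul, Units.mul_inv, Units.mul_inv, one_kronecker_one]
  inv_val := by rw [← mul_kronecker_mul, Units.inv_mul, Units.inv_mul, one_kronecker_one]

theorem cj_kronG {α β : Type} [Fintype α] [DecidableEq α] [Fintype β] [DecidableEq β] (x : GL α F)
    (y : GL β F) (X : Matrix α α F) (Y : Matrix β β F) :
    H98.cj (kronG x y) (X ⊗ₖ Y) = H98.cj x X ⊗ₖ H98.cj y Y := by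
  simp only [H98.cj_apply, mul_kronecker_mul]; rfl

theorem tensorProductSubgroup_mul {a b : ℕ} (e : ι ≃ Fin a × Fin b) (P : GL ι F) (x : GL (Fin a) F)
    (y : GL (Fin b) F) : tensorProductSubgroup a b e P ≤
      tensorProductSubgroup a b e (frmG e P (kronG x y) * P) := by
  intro g hg
  obtain ⟨u, v, h⟩ := mem_tensorProductSubgroup.1 hg
  refine mem_tensorProductSubgroup.2 ⟨x⁻¹ * u * x⁻¹⁻¹, y⁻¹ * v * y⁻¹⁻¹, ?_⟩
  rw [frm_mul, cj_kronG, ← cj_coe, ← cj_coe, cj_cj_inv, cj_cj_inv, h]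

/-! ### Coordinate decompositions -/

/-- The decomposition into coordinate blocks of a frame. -/
def coordDec {τ : Type} (e : ι ≃ κ) (P : GL ι F) (β : κ → τ) (i : τ) : Submodule F (ι → F) where
  carrier := {v | ∀ k, β k ≠ i → (frmV e P).symm v k = 0}
  add_mem' {a b} ha hb k hk := by rw [map_add, Pi.add_apply, ha k hk, hb k hk, add_zero]
  zero_mem' k _ := by simp
  smul_mem' c a ha k hk := by rw [map_smul, Pi.smul_apply, ha k hk, smul_zero]

theorem adapted_coordDec {τ : Type} (e : ι ≃ κ) (P : GL ι F) (β : κ → τ) :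
    Adapted (coordDec e P β) e P β := fun _ _ => Iff.rfl

theorem isMDec_coordDec {t m : ℕ} (ht : 2 ≤ t) (hm : 0 < m) (e : ι ≃ Fin t × Fin m) (P : GL ι F) :
    IsMDecomposition m (coordDec e P Prod.fst) where
  two_le := ht
  pos := hm
  finrank_eq i := by
    let L : (Fin m → F) →ₗ[F] coordDec e P Prod.fst i :=
      { toFun := fun y => ⟨frmV e P fun p => if p.1 = i then y p.2 else 0, fun k hk => by simp [hk]⟩
        map_add' := fun y z => Subtype.ext (by
          simp only [Submodule.coe_add, ← map_add]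
          congr 1; ext p; by_cases hp : p.1 = i <;> simp [hp])
        map_smul' := fun c y => Subtype.ext (by
          simp only [Submodule.coe_smul, ← map_smul, RingHom.id_apply]
          congr 1; ext p; by_cases hp : p.1 = i <;> simp [hp]) }
    have hL : Function.Bijective L := by
      constructor
      · intro y z h
        have := (frmV e P).injective (congrArg Subtype.val h)
        ext a
        simpa using congrFun this (i, a)
      · rintro ⟨v, hv⟩
        refine ⟨fun a => (frmV e P).symm v (i, a), Subtype.ext ?_⟩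
        change frmV e P _ = v
        rw [← LinearEquiv.eq_symm_apply]
        ext ⟨j, a⟩
        by_cases hj : j = i
        · simp [hj]
        · simp [hj, hv (j, a) hj]
    rw [← (LinearEquiv.ofBijective L hL).finrank_eq]; simp
  indep := by
    rw [iSupIndep_def]
    intro i
    rw [Submodule.disjoint_def]
    intro v hv hv'
    have : (⨆ (j) (_ : j ≠ i), coordDec e P Prod.fst j) ≤
        coordDec e P (fun k : Fin t × Fin m => k.1 = i) False := iSup₂_le fun j hj w hw k hk =>
      hw k (by simp at hk; rw [hk]; exact hj.symm)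
    rw [← (frmV e P).symm.map_eq_zero_iff]
    ext k
    by_cases hk : k.1 = i
    · exact this hv' k (by simp [hk])
    · exact hv k hk
  iSup_eq_top := by
    rw [eq_top_iff]
    intro v _
    obtain ⟨x, rfl⟩ := (frmV e P).surjective v
    rw [frmV_eq_sum]
    refine Submodule.sum_mem _ fun k _ => Submodule.smul_mem _ _
      (Submodule.mem_iSup_of_mem k.1 fun l hl => ?_)
    rw [LinearEquiv.symm_apply_apply, Pi.single_eq_of_ne]
    rintro rfl; exact hl rfl

theorem nondegDec_coordDec {s : F ≃+* F} {f : (ι → F) → (ι → F) → F} {t m : ℕ} (ht : 2 ≤ t)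
    (hm : 0 < m) {e : ι ≃ Fin t × Fin m} {P : GL ι F} {c : F} (hc : c ≠ 0)
    (h : ∀ x y, f (frmV e P x) (frmV e P y) = c * sumHerm _ s x y) :
    IsNondegenerateMDecomposition f m (coordDec e P Prod.fst) where
  decomp := isMDec_coordDec ht hm e P
  nondegenerate i w hw hw0 := by
    obtain ⟨x, rfl⟩ := (frmV e P).surjective w
    obtain ⟨k, hk⟩ := Function.ne_iff.1 (show x ≠ 0 by rintro rfl; exact hw0 (map_zero _))
    have hki : k.1 = i := by
      by_contra h1
      exact hk (by simpa using hw k h1)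
    have hm : frmV e P (Pi.single k 1) ∈ coordDec e P Prod.fst i := fun l hl => by
      rw [LinearEquiv.symm_apply_apply, Pi.single_eq_of_ne]
      rintro rfl; exact hl hki
    refine ⟨⟨_, hm, ?_⟩, ⟨_, hm, ?_⟩⟩
    · rw [h, sumHerm_single_left]; simpa [hc] using hk
    · rw [h]; simpa [hc, sumHerm, Pi.single_apply, apply_ite s] using hk
  orthogonal i j hij u hu v hv := by
    obtain ⟨x, rfl⟩ := (frmV e P).surjective u
    obtain ⟨y, rfl⟩ := (frmV e P).surjective v
    rw [h, sumHerm, Finset.sum_eq_zero, mul_zero]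
    intro k _
    by_cases hk : k.1 = i
    · have := hv k (by rw [hk]; exact hij)
      rw [LinearEquiv.symm_apply_apply] at this
      rw [this, map_zero, mul_zero]
    · have := hu k hk
      rw [LinearEquiv.symm_apply_apply] at this
      rw [this, zero_mul]

/-! ### Tensor powers -/

section Pure

variable {τ α : Type} [Fintype τ] [DecidableEq τ] [Fintype α] [DecidableEq α]

theorem trace_pureT (X : τ → Matrix α α F) : (pureT X).trace = ∏ i, (X i).trace := by
  simp only [Matrix.trace, Matrix.diag, pureT_apply]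
  rw [Finset.prod_univ_sum, Fintype.piFinset_univ]

theorem pureT_mulVec (X : τ → Matrix α α F) (u : τ → α → F) :
    pureT X *ᵥ (fun x => ∏ i, u i (x i)) = fun x => ∏ i, (X i *ᵥ u i) (x i) := by
  ext x
  simp only [Matrix.mulVec, dotProduct, pureT_apply]
  rw [Finset.prod_univ_sum]
  simp [Finset.prod_mul_distrib]

/-- Pure tensors of invertible matrices, as a homomorphism. -/
def pureHom (τ α : Type) [Fintype τ] [DecidableEq τ] [Fintype α] [DecidableEq α] (F : Type*)
    [Field F] : (τ → GL α F) →* GL (τ → α) F where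
  toFun := pureG
  map_one' := Units.ext (by rw [coe_pureG, Units.val_one, ← pureT_one]; rfl)
  map_mul' x y := Units.ext (by rw [Units.val_mul, coe_pureG, coe_pureG, coe_pureG, pureT_mul]; rfl)

theorem coe_pureHom (x : τ → GL α F) : ((pureHom τ α F x : GL (τ → α) F) : Matrix (τ → α) (τ → α) F) =
    pureT fun i => (x i : Matrix α α F) := rfl

theorem coe_pureHom_single (i : τ) (x : GL α F) :
    ((pureHom τ α F (Pi.mulSingle i x) : GL (τ → α) F) : Matrix (τ → α) (τ → α) F) =
      powEmb τ α F i x := by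
  rw [coe_pureHom, powEmb_apply]
  congr 1
  ext1 j
  by_cases h : j = i
  · subst h; simp
  · simp [h]

end Pure

theorem wreath_cj {k t : ℕ} {g : GL (Fin t → Fin k) F} (hg : g ∈ tensorWreathStandard k t F) :
    ∃ (s : Equiv.Perm (Fin t)) (x : Fin t → GL (Fin k) F), ∀ X : Fin t → Matrix (Fin k) (Fin k) F,
      H98.cj g (pureT X) = pureT fun i => H98.cj (x i) (X (s.symm i)) := by
  let S : Subgroup (GL (Fin t → Fin k) F) :=
    { carrier := {g | ∃ (s : Equiv.Perm (Fin t)) (x : Fin t → GL (Fin k) F),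
        ∀ X : Fin t → Matrix (Fin k) (Fin k) F,
          H98.cj g (pureT X) = pureT fun i => H98.cj (x i) (X (s.symm i))}
      mul_mem' := by
        rintro a b ⟨s, x, ha⟩ ⟨s', x', hb⟩
        refine ⟨s'.trans s, fun i => x i * x' (s.symm i), fun X => ?_⟩
        rw [cj_mul, hb, ha]
        simp only [cj_mul, Equiv.symm_trans_apply]
      one_mem' := ⟨1, 1, fun X => by simp only [cj_one, Pi.one_apply]; rfl⟩
      inv_mem' := by
        rintro a ⟨s, x, ha⟩
        refine ⟨s.symm, fun j => (x (s j))⁻¹, fun Y => ?_⟩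
        apply (H98.cj a).injective
        rw [cj_cj_inv, ha]
        simp only [Equiv.symm_symm, Equiv.apply_symm_apply, cj_cj_inv] }
  exact wreath_le (S := S) (fun x => ⟨1, x, fun X => cj_pureG_pureT x X⟩)
    (fun s => ⟨s, 1, fun X => by rw [cj_permG_pureT]; simp only [cj_one, Pi.one_apply]; rfl⟩) hg

theorem wreath_cj' {k t : ℕ} {e : ι ≃ (Fin t → Fin k)} {P g : GL ι F}
    (hg : g ∈ tensorWreathSubgroup k t e P) :
    ∃ (s : Equiv.Perm (Fin t)) (x : Fin t → GL (Fin k) F),
      (∀ X : Fin t → Matrix (Fin k) (Fin k) F, H98.cj g (frm e P (pureT X)) =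
        frm e P (pureT fun i => H98.cj (x i) (X (s.symm i)))) ∧
      ∀ i X, H98.cj g (frm e P (powEmb (Fin t) (Fin k) F i X)) =
        frm e P (powEmb (Fin t) (Fin k) F (s i) (H98.cj (x (s i)) X)) := by
  obtain ⟨s, x, h⟩ := wreath_cj (mem_tensorWreathSubgroup.1 hg)
  have h1 : ∀ X : Fin t → Matrix (Fin k) (Fin k) F, H98.cj g (frm e P (pureT X)) =
      frm e P (pureT fun i => H98.cj (x i) (X (s.symm i))) := fun X => by
    rw [← h, ← cj_frmG, MulEquiv.apply_symm_apply]
  refine ⟨s, x, h1, fun i X => ?_⟩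
  rw [powEmb_apply, h1, powEmb_apply]
  congr 2
  ext1 j
  by_cases hj : j = s i
  · subst hj; simp
  · rw [Function.update_of_ne hj, Function.update_of_ne (by
      rintro rfl; exact hj (s.apply_symm_apply j).symm)]
    simp

theorem adj_power {s : F ≃+* F} {ε ε₁ : F} {f : (ι → F) → (ι → F) → F} (hf : IsSesq s ε f)
    {k t : ℕ} {e : ι ≃ (Fin t → Fin k)} {P : GL ι F} {f₁ : (Fin k → F) → (Fin k → F) → F}
    (h₁ : IsSesq s ε₁ f₁) (h : IsTensorPowerFormStructure s f f₁ e P)
    (X : Fin t → Matrix (Fin k) (Fin k) F) :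
    adj s f (frm e P (pureT X)) = frm e P (pureT fun i => adj s f₁ (X i)) := by
  obtain ⟨c, hc, h⟩ := h
  have hG : gramMatrix (fun x y => f (frmV e P x) (frmV e P y)) =
      c • (pureT fun _ : Fin t => gramMatrix f₁) := by
    rw [← gramMatrix_formOfGram s]
    congr 1
    ext x y
    exact h x y
  rw [hf.adj_frm, adj_of_gram_smul (Matrix.isUnit_det_of_left_inverse
    (pureT_const_inv_mul h₁.isUnit_det_gram)) hc hG, adj_pureT h₁]

theorem pure_mem_isoG {s : F ≃+* F} {ε ε₁ : F} {f : (ι → F) → (ι → F) → F} (hf : IsSesq s ε f)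
    {k t : ℕ} {e : ι ≃ (Fin t → Fin k)} {P : GL ι F} {f₁ : (Fin k → F) → (Fin k → F) → F}
    (h₁ : IsSesq s ε₁ f₁) (h : IsTensorPowerFormStructure s f f₁ e P)
    {x : Fin t → GL (Fin k) F} (hx : ∀ i, x i ∈ isoG f₁) :
    frmG e P (pureHom (Fin t) (Fin k) F x) ∈ isoG f := by
  rw [mem_isoG_iff_adj hf, coe_frmG, coe_pureHom, adj_power hf h₁ h, ← map_mul, pureT_mul,
    ← map_one (frm e P), ← pureT_one]
  congr 2
  ext1 i
  exact (mem_isoG_iff_adj h₁).1 (hx i)

theorem mem_isoG_of_single {s : F ≃+* F} {ε ε₁ : F} {f : (ι → F) → (ι → F) → F} (hf : IsSesq s ε f)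
    {k t : ℕ} (hk : 0 < k) {e : ι ≃ (Fin t → Fin k)} {P : GL ι F}
    {f₁ : (Fin k → F) → (Fin k → F) → F}
    (h₁ : IsSesq s ε₁ f₁) (h : IsTensorPowerFormStructure s f f₁ e P) {i : Fin t}
    {x : GL (Fin k) F} {g : GL ι F} (hg : g ∈ isoG f)
    (hx : (g : Matrix ι ι F) = frm e P (powEmb (Fin t) (Fin k) F i x)) : x ∈ isoG f₁ := by
  haveI : Nonempty (Fin k) := ⟨⟨0, hk⟩⟩
  rw [mem_isoG_iff_adj hf, hx, powEmb_apply, adj_power hf h₁ h, ← map_mul, pureT_mul,
    ← map_one (frm e P), EmbeddingLike.apply_eq_iff_eq] at hg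
  rw [mem_isoG_iff_adj h₁]
  apply powEmb_injective (τ := Fin t) i
  rw [map_one, ← hg, powEmb_apply]
  congr 1
  ext1 j
  by_cases hj : j = i
  · subst hj; simp
  · simp [hj, h₁.adj_one]

end Cfsg.Agent.H10
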