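import Cfsg.Agent.H10.UBase
import Cfsg.Agent.H98.Skolem
import Cfsg.Agent.H98.FieldSub

/-! No member of a geometric class contains `SU_n(q)`, `n ≥ 3`. -/

set_option autoImplicit false
set_option linter.unusedSectionVars false

namespace Cfsg.Agent.H10

open Cfsg Cfsg.Geo Cfsg.Agent.H98 Cfsg.Agent.H99 Matrix
open scoped commutatorElement Kronecker

variable {F : Type*} [Field F] [Fintype F] {q : ℕ} [hF : Fact (Fintype.card F = q ^ 2)] {n : ℕ}
variable {ι : Type} [Fintype ι] [DecidableEq ι] {κ : Type} [Fintype κ] [DecidableEq κ]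

local notation "σ" => cj F q
local notation "𝐡" => hermForm n F q

theorem eq_inf_of_maximal {G : Type*} [Group G] {S H X : Subgroup G} (h : IsMaximalIn S H)
    (hX : H ≤ X) (hS : ¬ S ≤ X) : H = X ⊓ S := by
  rcases h.2 (X ⊓ S) (le_inf hX h.1.le) inf_le_right with h1 | h1
  · exact h1.symm
  · exact absurd (h1.ge.trans inf_le_left) hS

theorem not_maximal_of {G : Type*} [Group G] {S H X M : Subgroup G} (h : IsMaximalIn S H)
    (hX : H ≤ X) (hM : X ⊓ S ≤ M) (hS : ¬ S ≤ M) {g : G} (hg : g ∈ S) (hgM : g ∈ M)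
    (hgX : g ∉ X) : False := by
  have h1 := eq_inf_of_maximal h ((le_inf hX h.1.le).trans hM) hS
  exact hgX (hX (h1.ge ⟨hgM, hg⟩))

theorem not_SUG_le_stab (hn : 2 ≤ n) {W : Submodule F (Fin n → F)} (h0 : W ≠ ⊥) (h1 : W ≠ ⊤) :
    ¬ SUG n F q ≤ subspaceStabilizer W := fun h =>
  (SUG_irr hn W (inv_of_le_stab h)).elim h0 h1

theorem ne_top_of_singular {W : Submodule F (Fin n → F)} (h0 : W ≠ ⊥)
    (h : IsTotallySingularFor 𝐡 W) : W ≠ ⊤ := by
  rintro rfl
  obtain ⟨w, -, hw0⟩ := Submodule.exists_mem_ne_zero_of_ne_bot h0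
  exact hw0 (eq_zero_of_herm_left (q := q) fun y => h w trivial y trivial)

omit [Fintype F] hF in
theorem ne_top_of_two_mul_lt {W : Submodule F (Fin n → F)} (h : 2 * Module.finrank F W < n) :
    W ≠ ⊤ := by
  rintro rfl
  simp at h
  omega

theorem exists_SUG_move {u v w : Fin n → F} (h : 𝐡 u u = 𝐡 v v) (h0 : 𝐡 u u ≠ 0)
    (hw : 𝐡 w w ≠ 0) (huw : 𝐡 u w = 0) :
    ∃ g ∈ SUG n F q, (g : Matrix (Fin n) (Fin n) F) *ᵥ u = v := by
  obtain ⟨r, -, hr, -⟩ := exists_move h h0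
  have hd := (gm_isIsom r).det_mul_cj
  have hd0 := (gm_isIsom r).det_ne_zero
  have hl : (gm r).det⁻¹ * σ (gm r).det⁻¹ = 1 := by rw [map_inv₀, ← mul_inv, hd, inv_one]
  refine ⟨(r * quasiGU hw hl : GU n F q), ⟨(r * quasiGU hw hl).2, mem_sl.2 ?_⟩, ?_⟩
  · change (gm (r * quasiGU hw hl)).det = 1
    rw [gm_mul, det_mul, det_quasiGU, mul_inv_cancel₀ hd0]
  · change gm (r * quasiGU hw hl) *ᵥ u = v
    rw [gm_mul, ← mulVec_mulVec, gm_quasiGU, ut_mulVec_of_orth _ huw, hr]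

theorem exists_norm_neg_one : ∃ b : F, b ≠ 0 ∧ b * σ b = -1 := by
  obtain ⟨b, hb⟩ := exists_norm_eq (F := F) (q := q) (t := -1) (by simp)
  exact ⟨b, by rintro rfl; simp at hb, hb⟩

omit [Fintype F] hF in
theorem sumHerm_single_left (s : F ≃+* F) (k : κ) (y : κ → F) :
    sumHerm κ s (Pi.single k 1) y = s (y k) := by
  simp [sumHerm, Pi.single_apply]

theorem not_SUG_le_decStab (hn : 3 ≤ n) {t m : ℕ} {D : Fin t → Submodule F (Fin n → F)}
    (hD : IsNondegenerateMDecomposition 𝐡 m D) : ¬ SUG n F q ≤ decompositionStabilizer D := by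
  intro h
  have hc := card_eq_of_dec hD.decomp
  let e : Fin n ≃ Fin t × Fin m := Fintype.equivOfCardEq (by rw [hc]; simp)
  obtain ⟨P, hA, hP⟩ := exists_adapted_isONF isSesq_herm hD e
  have h2 := hD.decomp.two_le
  have hm := hD.decomp.pos
  let k : Fin t × Fin m := (⟨0, by omega⟩, ⟨0, hm⟩)
  let l : Fin t × Fin m := (⟨1, by omega⟩, ⟨0, hm⟩)
  have hkl : k.1 ≠ l.1 := by simp [k, l, Fin.ext_iff]
  have hkl' : k ≠ l := fun h => hkl (congrArg Prod.fst h)
  obtain ⟨j, hjk, hjl⟩ : ∃ j, j ≠ k ∧ j ≠ l := by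
    by_contra hc'
    push Not at hc'
    have : (Finset.univ : Finset (Fin t × Fin m)) ⊆ {k, l} := fun j _ => by
      by_cases hj : j = k
      · simp [hj]
      · simp [hc' j hj]
    have h3 := (Finset.card_le_card this).trans Finset.card_le_two
    rw [Finset.card_univ, ← Fintype.card_congr e, Fintype.card_fin] at h3
    omega
  obtain ⟨b, hb0, hb⟩ := exists_norm_neg_one (F := F) (q := q)
  let x : Fin t × Fin m → F := Pi.single k 1 + b • Pi.single l 1 + Pi.single j 1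
  have hs := isSesq_sumHerm (F := F) (q := q) (κ := Fin t × Fin m)
  obtain ⟨g, hg, hgu⟩ := exists_SUG_move (q := q) (u := frmV e P (Pi.single k 1)) (v := frmV e P x)
    (w := frmV e P (Pi.single l 1))
    (by
      rw [hP, hP]
      simp only [x, hs.add_left, hs.smul_left, sumHerm_single_left]
      simp [hkl', hkl'.symm, hjk, hjk.symm, hjl, hjl.symm, sig_apply, hb])
    (by rw [hP, sumHerm_single_left]; simp) (by rw [hP, sumHerm_single_left]; simp)
    (by rw [hP, sumHerm_single_left]; simp [hkl'])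
  obtain ⟨π, hπ⟩ := mem_of_decStab (h hg)
  have h1 := hπ k.1 (frmV e P (Pi.single k 1)) ((hA _ _).2 fun k' hk' => by
    rw [LinearEquiv.symm_apply_apply, Pi.single_eq_of_ne]
    rintro rfl; exact hk' rfl)
  rw [hgu, hA] at h1
  simp only [LinearEquiv.symm_apply_apply] at h1
  by_cases hk : k.1 = π k.1
  · have := h1 l (by rw [← hk]; exact hkl.symm)
    simp [x, hkl'.symm, hjl.symm, hb0] at this
  · have := h1 k hk
    simp [x, hkl', hjk.symm] at this

theorem not_SUG_le_decStab_singular {k : ℕ} {D : Fin 2 → Submodule F (Fin n → F)}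
    (hD : IsMDecomposition k D) (hs : ∀ i, IsTotallySingularFor 𝐡 (D i)) :
    ¬ SUG n F q ≤ decompositionStabilizer D := by
  intro h
  obtain ⟨u, hu, hu0⟩ := Submodule.exists_mem_ne_zero_of_ne_bot (IsMDec.ne_bot hD 0)
  obtain ⟨v, hv, huv⟩ : ∃ v ∈ D 1, 𝐡 u v ≠ 0 := by
    by_contra hc
    push Not at hc
    apply hu0
    apply eq_zero_of_herm_left (q := q)
    intro y
    have hy : y ∈ D 0 ⊔ D 1 := by
      have : iSup D ≤ D 0 ⊔ D 1 := iSup_le fun i => by
        fin_cases i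
        exacts [le_sup_left, le_sup_right]
      exact this (hD.iSup_eq_top ▸ trivial)
    obtain ⟨a, ha, b, hb, rfl⟩ := Submodule.mem_sup.1 hy
    rw [herm_add_right, hs 0 u hu a ha, hc b hb, add_zero]
  obtain ⟨d, hd0, hd⟩ := exists_skew F q
  obtain ⟨π, hπ⟩ := mem_of_decStab (h (utG_mem (hs 1 v hv v hv) hd))
  have := hπ 0 u hu
  rw [utG_mulVec] at this
  exact IsMDec.add_not_mem hD (by decide) hu ((D 1).smul_mem _ hv) hu0
    (smul_ne_zero (mul_ne_zero hd0 huv) (ne_zero_of_herm_right huv)) _ this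

theorem not_SUG_le_fieldNorm (hn : 3 ≤ n) {r : ℕ} (hr : 2 ≤ r)
    {K : Subalgebra F (Matrix (Fin n) (Fin n) F)} (hK : IsFieldSubalgebra r K) :
    ¬ SUG n F q ≤ subalgebraNormalizer K := by
  intro h
  have := finrank_le_one_of_scalar (K := K) (fun k hk => scalar_of_comm_utG (q := q) (by omega)
    fun v hv c hc => by
      obtain ⟨h1, h2⟩ := utG_eq_tv hv hc
      have h3 := h (utG_mem hv hc)
      rw [h2] at h3 ⊢
      exact tv_comm_of_normalizes (by simpa using hn) hK _ h3 hk)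
  rw [hK.finrank_eq] at this
  omega

omit [Fintype F] hF in
/-- Conjugation by a transvection changes a matrix only off a subspace of codimension two. -/
theorem cj_tv_mulVec {w φ : ι → F} (h : φ ⬝ᵥ w = 0) (x : Matrix ι ι F) {u : ι → F}
    (h1 : φ ⬝ᵥ u = 0) (h2 : (φ ᵥ* x) ⬝ᵥ u = 0) : H98.cj (tv w φ h) x *ᵥ u = x *ᵥ u := by
  have h3 : ((tv w φ h : GL ι F) : Matrix ι ι F) *ᵥ u = u := by rw [tv_mulVec, h1]; simp
  conv_lhs => rw [← h3]
  rw [cj_mulVec, tv_mulVec, Matrix.dotProduct_mulVec, h2]; simp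

omit [Fintype F] hF in
theorem exists_ne_zero_dot_two' (h3 : 3 ≤ Fintype.card κ) (L : (κ → F) →ₗ[F] (ι → F))
    (φ ψ : ι → F) : ∃ u : κ → F, u ≠ 0 ∧ φ ⬝ᵥ L u = 0 ∧ ψ ⬝ᵥ L u = 0 := by
  obtain ⟨u, hu, h1, h2⟩ := exists_ne_zero_dot_two h3 (φ ᵥ* LinearMap.toMatrix' L)
    (ψ ᵥ* LinearMap.toMatrix' L)
  rw [← Matrix.dotProduct_mulVec, LinearMap.toMatrix'_mulVec] at h1 h2
  exact ⟨u, hu, h1, h2⟩

theorem not_SUG_le_tensor {a b : ℕ} (ha : 2 ≤ a) (hb : 3 ≤ b) (e : Fin n ≃ Fin a × Fin b)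
    (P : GL (Fin n) F) : ¬ SUG n F q ≤ tensorProductSubgroup a b e P := by
  intro h
  have hn : n = a * b := by simpa using Fintype.card_congr e
  haveI : Nonempty (Fin b) := ⟨⟨0, by omega⟩⟩
  let i0 : Fin a := ⟨0, by omega⟩
  let i1 : Fin a := ⟨1, by omega⟩
  have hi : i0 ≠ i1 := by simp [i0, i1, Fin.ext_iff]
  obtain ⟨c, hc⟩ := scalar_of_comm_utG (q := q) (by nlinarith)
    (M := frm e P (Matrix.single i0 i1 (1 : F) ⊗ₖ (1 : Matrix (Fin b) (Fin b) F))) (fun v hv c hc => by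
      obtain ⟨h1, h2⟩ := utG_eq_tv hv hc
      obtain ⟨Y, hY⟩ := mem_tensL.1 (nz_tensL e P _ (h (utG_mem hv hc)) _
        (mem_tensL.2 ⟨Matrix.single i0 i1 (1 : F), rfl⟩))
      rw [← H98.cj_apply] at hY
      rw [← cj_eq_iff, ← hY]
      congr 2
      ext i j
      let L : (Fin b → F) →ₗ[F] (Fin a × Fin b → F) :=
        { toFun := fun y p => if p.1 = j then y p.2 else 0
          map_add' := fun y z => by ext p; by_cases hp : p.1 = j <;> simp [hp]
          map_smul' := fun c y => by ext p; by_cases hp : p.1 = j <;> simp [hp] }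
      obtain ⟨u, hu, hu1, hu2⟩ := exists_ne_zero_dot_two' (by simpa using hb)
        ((frmV e P : (Fin a × Fin b → F) →ₗ[F] (Fin n → F)).comp L) (fun j => σ (v j))
        ((fun j => σ (v j)) ᵥ* frm e P (Matrix.single i0 i1 (1 : F) ⊗ₖ (1 : Matrix (Fin b) (Fin b) F)))
      have h3 := cj_tv_mulVec h1 _ hu1 hu2
      rw [← h2, ← hY] at h3
      simp only [LinearMap.comp_apply, LinearEquiv.coe_coe, frm_mulVec,
        EmbeddingLike.apply_eq_iff_eq] at h3
      obtain ⟨l, hl⟩ := Function.ne_iff.1 hu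
      have h4 := congrFun h3 (i, l)
      rw [kron_one_mulVec, kron_one_mulVec] at h4
      simp only [L, LinearMap.coe_mk, AddHom.coe_mk, mul_ite, mul_zero, Finset.sum_ite_eq',
        Finset.mem_univ, if_true] at h4
      exact mul_right_cancel₀ hl h4)
  rw [← map_one (frm e P), ← map_smul, EmbeddingLike.apply_eq_iff_eq] at hc
  have := congrFun (congrFun hc (i0, Classical.arbitrary _)) (i1, Classical.arbitrary _)
  simp [hi] at this

theorem exists_nonisotropic_orth_plane (hn : 3 ≤ n) {e f : Fin n → F} (he : 𝐡 e e = 0)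
    (hf : 𝐡 f f = 0) (hfe : 𝐡 f e = 1) : ∃ x, 𝐡 x x ≠ 0 ∧ 𝐡 x e = 0 ∧ 𝐡 x f = 0 := by
  obtain ⟨x, hx0, hx⟩ := exists_orth_of_lt (q := q) (k := 2) (by omega) ![e, f]
  have hxe : 𝐡 x e = 0 := hx 0
  have hxf : 𝐡 x f = 0 := hx 1
  obtain ⟨y, hy⟩ := exists_herm_eq_one (q := q) hx0
  obtain ⟨h1, h2⟩ := plane_proj_orth he hf hfe y
  obtain ⟨a, b, hab⟩ := exists_nonisotropic_comb (q := q) (x := x)
    (y := y - 𝐡 y f • e - 𝐡 y e • f) (by
      simp [herm_sub_left, herm_smul_left, hy, herm_swap_zero hxe, herm_swap_zero hxf])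
  exact ⟨_, hab, by rw [herm_add_left, herm_smul_left, herm_smul_left, hxe, h1]; simp,
    by rw [herm_add_left, herm_smul_left, herm_smul_left, hxf, h2]; simp⟩

theorem subfield_eq_top_of {F₀ : Subfield F} (h : ∀ t, σ t = t → t ∈ F₀) {z : F} (hz : z ∈ F₀)
    (hz' : σ z ≠ z) : F₀ = ⊤ := by
  rw [eq_top_iff]
  intro y _
  have h0 : z - σ z ≠ 0 := sub_ne_zero.2 hz'.symm
  have h0' : σ z - z ≠ 0 := sub_ne_zero.2 hz'
  have hb : σ ((y - σ y) / (z - σ z)) = (y - σ y) / (z - σ z) := by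
    rw [map_div₀, map_sub, map_sub, cj_cj, cj_cj]; field_simp; ring
  have ha : σ (y - (y - σ y) / (z - σ z) * z) = y - (y - σ y) / (z - σ z) * z := by
    rw [map_sub, map_mul, hb]; field_simp; ring
  have := F₀.add_mem (h _ ha) (F₀.mul_mem (h _ hb) hz)
  simpa using this

theorem ut_pow {v : Fin n → F} (hv : 𝐡 v v = 0) (c : F) (k : ℕ) :
    unitaryTransvection n q v c ^ k = unitaryTransvection n q v (k * c) := by
  induction k with
  | zero => simp [ut_zero]
  | succ k ih => rw [pow_succ, ih, ut_mul_ut, hv]; congr 1; push_cast; ring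

theorem utG_pow_char {p : ℕ} [CharP F p] {v : Fin n → F} (hv : 𝐡 v v = 0) {c : F}
    (hc : σ c = -c) : utG hv hc ^ p = 1 := by
  apply Units.ext
  rw [Units.val_pow_eq_pow_val, coe_utG, ut_pow hv, CharP.cast_eq_zero, zero_mul, ut_zero,
    Units.val_one]

omit hF in
theorem mem_subfield_of_pow_char {p : ℕ} (hp : p.Prime) [CharP F p] {F₀ : Subfield F} {c : F}
    (h : c ^ p ∈ F₀) : c ∈ F₀ := by
  haveI := Fact.mk hp
  have := map_mem_subfield F₀ ((frobeniusEquiv F p).symm : F →+* F) h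
  have h2 : (frobeniusEquiv F p).symm (c ^ p) = c := (frobeniusEquiv F p).symm_apply_apply c
  exact h2 ▸ this

theorem ut_sub_one (v : Fin n → F) (c : F) :
    unitaryTransvection n q v c - 1 = vecMulVec (c • v) fun j => σ (v j) := by
  rw [unitaryTransvection_eq, rk1, add_sub_cancel_left]

theorem not_SUG_le_subfield (hn : 3 ≤ n) {F₀ : Subfield F} (h0 : F₀ ≠ ⊤) (P : GL (Fin n) F) :
    ¬ SUG n F q ≤ subfieldSubgroup F₀ P := by
  intro h
  obtain ⟨p, k, hp, hc, -, -⟩ := exists_char_pow_of_card_sq hF.out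
  let R : Subring (Matrix (Fin n) (Fin n) F) :=
    (F₀.toSubring.matrix).comap (H98.cj P⁻¹).toRingEquiv.toRingHom
  have hR : ∀ x, x ∈ R ↔ ∀ i j, H98.cj P⁻¹ x i j ∈ F₀ := fun x => Iff.rfl
  have hsm : ∀ c ∈ F₀, ∀ x ∈ R, c • x ∈ R := fun c hc x hx => by
    rw [hR]; intro i j; rw [map_smul]; exact F₀.mul_mem hc ((hR x).1 hx i j)
  have htr : ∀ x ∈ R, x.trace ∈ F₀ := fun x hx => by
    rw [← trace_cj P⁻¹ x]; exact F₀.sum_mem fun i _ => (hR x).1 hx i i
  have hN : ∀ v, 𝐡 v v = 0 → ∀ d, σ d = -d → (vecMulVec (d • v) fun j => σ (v j)) ∈ R := by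
    intro v hv d hd
    obtain ⟨c, hc0, hc⟩ := H99.mem_subfieldSubgroup.1 (h (utG_mem hv hd))
    have h1 : c • unitaryTransvection n q v d ∈ R := by
      rw [hR]; intro i j
      rw [map_smul, H98.cj_apply, inv_inv]; exact hc i j
    have h2 := R.pow_mem h1 p
    rw [_root_.smul_pow, ut_pow hv, CharP.cast_eq_zero, zero_mul, ut_zero, hR] at h2
    have h3 := h2 ⟨0, by omega⟩ ⟨0, by omega⟩
    rw [map_smul, map_one] at h3
    have h4 : c ∈ F₀ := mem_subfield_of_pow_char hp (by simpa using h3)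
    have h5 := hsm _ (F₀.inv_mem h4) _ h1
    rw [smul_smul, inv_mul_cancel₀ hc0, one_smul] at h5
    rw [← ut_sub_one]
    exact R.sub_mem h5 R.one_mem
  obtain ⟨e, f, he, hf, hfe⟩ := exists_hyperbolic_pair (F := F) (q := q) (n := n) (by omega)
  have hef := herm_swap_one hfe
  obtain ⟨d, hd0, hd⟩ := exists_skew F q
  have hdot : ∀ u v : Fin n → F, (fun j => σ (v j)) ⬝ᵥ u = 𝐡 u v := fun u v => by
    rw [dotProduct_comm, herm_eq_dot]
  have h1 : ∀ a : F, d ^ 2 * (a * σ a) ∈ F₀ := fun a => by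
    have := htr _ (R.mul_mem (hN (a • e) (by simp [herm_smul_left, herm_smul_right, he]) d hd)
      (hN f hf d hd))
    rw [vmv_mul_vmv, trace_smul, trace_vecMulVec, ← herm_eq_dot, hdot] at this
    simp only [herm_smul_left, herm_smul_right, hfe, hef, smul_eq_mul] at this
    convert this using 1; ring
  have h2 : ∀ t, σ t = t → t ∈ F₀ := fun t ht => by
    obtain ⟨a, rfl⟩ := exists_norm_eq ht
    have := F₀.mul_mem (F₀.inv_mem (h1 1)) (h1 a)
    rwa [map_one, mul_one, mul_one, ← mul_assoc, inv_mul_cancel₀ (pow_ne_zero 2 hd0), one_mul] at this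
  obtain ⟨x, hx, hxe, hxf⟩ := exists_nonisotropic_orth_plane hn he hf hfe
  obtain ⟨b, hb⟩ := exists_trace_eq (q := q) (t := -𝐡 x x) (by rw [map_neg, cj_herm])
  have hw : 𝐡 (e + b • f + x) (e + b • f + x) = 0 := by
    simp only [herm_add_left, herm_add_right, herm_smul_left, herm_smul_right, he, hf, hfe, hef, hxe,
      hxf, herm_swap_zero hxe, herm_swap_zero hxf]
    linear_combination hb
  have h3 := htr _ (R.mul_mem (R.mul_mem (hN e he d hd) (hN f hf d hd)) (hN _ hw d hd))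
  rw [vmv_mul_vmv, Matrix.smul_mul, vmv_mul_vmv, trace_smul, trace_smul, trace_vecMulVec,
    ← herm_eq_dot, hdot, hdot] at h3
  simp only [herm_add_left, herm_add_right, herm_smul_left, herm_smul_right, he, hf, hfe, hef,
    hxf, herm_swap_zero hxe, smul_eq_mul] at h3
  refine h0 (subfield_eq_top_of (q := q) h2 h3 fun h4 => hx ?_)
  simp only [map_mul, map_add, map_one, map_zero, hd, cj_cj] at h4
  have : d ^ 3 * 𝐡 x x = 0 := by linear_combination h4 + d ^ 3 * hb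
  exact (mul_eq_zero.1 this).resolve_left (pow_ne_zero 3 hd0)

omit [Fintype F] hF in
theorem conj_mem_GU_of_sim {x g : GL (Fin n) F} (hx : x ∈ similarityGroup 𝐡) (hg : g ∈ GU n F q) :
    x * g * x⁻¹ ∈ GU n F q := by
  obtain ⟨c, hc⟩ := hx
  intro u v
  change 𝐡 (((x * g * x⁻¹ : GL (Fin n) F) : Matrix (Fin n) (Fin n) F) *ᵥ u)
    (((x * g * x⁻¹ : GL (Fin n) F) : Matrix (Fin n) (Fin n) F) *ᵥ v) = 𝐡 u v
  simp only [Units.val_mul, ← mulVec_mulVec]
  rw [hc, (mem_GU_iff g).1 hg, ← hc, mulVec_inv_mulVec, mulVec_inv_mulVec]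

theorem utG_not_scalar (hn : 2 ≤ n) {v : Fin n → F} (hv : 𝐡 v v = 0) (hv0 : v ≠ 0) {d : F}
    (hd : σ d = -d) (hd0 : d ≠ 0) (c : F) :
    ((utG hv hd : GL (Fin n) F) : Matrix (Fin n) (Fin n) F) ≠ c • 1 := by
  intro h
  have h1 := congrArg (· *ᵥ v) h
  simp only [utG_mulVec, hv, mul_zero, zero_smul, add_zero, smul_mulVec, one_mulVec] at h1
  have hc : c = 1 := by
    have : (c - 1) • v = 0 := by rw [sub_smul, ← h1]; simp
    exact sub_eq_zero.1 ((smul_eq_zero.1 this).resolve_right hv0)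
  obtain ⟨y, hy⟩ := exists_herm_eq_one (q := q) hv0
  have h2 := congrArg (· *ᵥ y) h
  simp [utG_mulVec, hy, hc, hd0, hv0] at h2

theorem not_SUG_le_normalizer (hn : 3 ≤ n) (hex : ¬ (n = 3 ∧ q = 2)) {r p : ℕ} (hr : r.Prime)
    (hp : p.Prime) [CharP F p] (hrp : r ≠ p) {R : Subgroup (GL (Fin n) F)} (hR : IsPGroup r R)
    (hirr : ActsAbsolutelyIrreducibly (matrixSet R)) (hs : R ≤ similarityGroup 𝐡) :
    ¬ SUG n F q ≤ subgroupNormalizer R := by
  intro h
  haveI : Nonempty (Fin n) := ⟨⟨0, by omega⟩⟩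
  have hz : NzG (SUG n F q) R := nzG_of_le_normalizer h
  obtain ⟨e, f, he, -, hfe⟩ := exists_hyperbolic_pair (F := F) (q := q) (n := n) (by omega)
  have he0 : e ≠ 0 := ne_zero_of_herm_right (by rw [hfe]; exact one_ne_zero)
  obtain ⟨d, hd0, hd⟩ := exists_skew F q
  set τ := utG he hd with hτ
  have hτp : τ ^ p = 1 := utG_pow_char he hd
  have hτm : τ ∈ SUG n F q := utG_mem he hd
  rcases SUG_normal_cases hn hex (N := R ⊓ SUG n F q) inf_le_right
    (fun g hg x hx => ⟨hz g hg x hx.1, conj_mem_SUG hx.2 hg.1⟩) with h1 | h1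
  · obtain ⟨c, hc⟩ := hirr.2 (τ : GL (Fin n) F) (by
      rintro _ ⟨x, hx, rfl⟩
      have hm : τ * x * τ⁻¹ * x⁻¹ ∈ R ⊓ SUG n F q := by
        refine ⟨R.mul_mem (hz _ hτm x hx) (R.inv_mem hx), ?_⟩
        have hi := (SUG n F q).inv_mem hτm
        have := (SUG n F q).mul_mem hτm
          (⟨conj_mem_GU_of_sim (hs hx) hi.1, conj_mem_sl hi.2 x⟩ : x * τ⁻¹ * x⁻¹ ∈ SUG n F q)
        simpa [mul_assoc] using this
      obtain ⟨c, hc⟩ := mem_scalars_iff'.1 (h1 hm)
      have e1 : x⁻¹ * τ * x⁻¹⁻¹ = scal _ c * τ := by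
        have : τ * x = scal _ c * (x * τ) := by rw [← hc]; group
        rw [inv_inv, mul_assoc, this, ← mul_assoc, ← scal_comm]; group
      have e2 := congrArg (· ^ p) e1
      simp only [conj_pow, hτp, Commute.mul_pow (scal_comm c τ)] at e2
      rw [mul_one, mul_inv_cancel, mul_one, ← scal_pow, ← scal_one (ι := Fin n)] at e2
      have e4 := (scal_injective e2).symm
      have e5 : (c : F) = 1 := by
        haveI := Fact.mk hp
        have : (c : F) ^ p = 1 := by rw [← Units.val_pow_eq_pow_val, e4, Units.val_one]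
        have h5 : ((c : F) - 1) ^ p = 0 := by rw [sub_pow_char, this]; simp
        exact sub_eq_zero.1 (pow_eq_zero_iff hp.ne_zero |>.1 h5)
      rw [show c = 1 from Units.ext e5, scal_one, one_mul] at e1
      change (τ : Matrix (Fin n) (Fin n) F) * x = x * τ
      rw [← Units.val_mul, ← Units.val_mul]
      congr 1
      calc τ * x = x * (x⁻¹ * τ * x⁻¹⁻¹) := by group
        _ = x * τ := by rw [e1])
    exact utG_not_scalar (by omega) he he0 hd hd0 c hc
  · obtain ⟨k, hk⟩ := hR ⟨τ, (h1.ge hτm).1⟩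
    have hk' : τ ^ (r ^ k) = 1 := congrArg Subtype.val hk
    have hco : (r ^ k).Coprime p := Nat.Coprime.pow_left k ((Nat.coprime_primes hr hp).2 hrp)
    have : τ = 1 := by
      rw [← pow_one τ, ← hco.gcd_eq_one, pow_gcd_eq_one]; exact ⟨hk', hτp⟩
    exact utG_not_scalar (by omega) he he0 hd hd0 1 (by rw [← hτ, this]; simp)

end Cfsg.Agent.H10
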