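import Cfsg.Agent.H10.UMax

/-! Frames, transport of maximality, and the small coincidences for `q = 2`. -/

set_option autoImplicit false
set_option linter.unusedSectionVars false
set_option linter.style.haveILetI false

namespace Cfsg.Agent.H10

open Cfsg Cfsg.Geo Cfsg.Agent.H98 Cfsg.Agent.H99 Matrix
open scoped Kronecker

variable {F : Type*} [Field F] [Fintype F] {q : ℕ} [hF : Fact (Fintype.card F = q ^ 2)] {n : ℕ}
variable {ι κ : Type} [Fintype ι] [DecidableEq ι] [Fintype κ] [DecidableEq κ]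

local notation "σ" => cj F q
local notation "𝐡" => hermForm n F q

omit [Fintype F] hF in
theorem mono_of_col {G : GL κ F} (h : ∀ l, ∃ k, ∀ k', k' ≠ k → (G : Matrix κ κ F) k' l = 0) :
    ∃ π : Equiv.Perm κ, BlockMono id π (G : Matrix κ κ F) := by
  choose φ hφ using h
  have hs : Function.Surjective φ := by
    intro k
    by_contra hc
    push Not at hc
    exact G.det_ne_zero (Matrix.det_eq_zero_of_row_eq_zero k fun l => hφ l k (hc l).symm)
  exact ⟨Equiv.ofBijective φ (Finite.surjective_iff_bijective.1 hs), fun k l hkl => hφ l k hkl⟩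

omit [Fintype F] hF in
theorem coordDec_equiv {m : ℕ} (e : ι ≃ κ) (P : GL ι F) (e' : κ ≃ Fin m) :
    coordDec e P e' = coordDec (e.trans (e'.trans (Equiv.prodUnique (Fin m) (Fin 1)).symm)) P
      Prod.fst := by
  ext i v
  constructor
  · intro h k hk
    exact h (e'.symm k.1) (by simpa using hk)
  · intro h k hk
    have := h (e' k, 0) hk
    simpa [frmV] using this

omit [Fintype F] hF in
theorem nondegDec_frame {s : F ≃+* F} {f : (ι → F) → (ι → F) → F} {e : ι ≃ κ} {P : GL ι F}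
    (h : IsONF s f e P) {m : ℕ} (hm : 2 ≤ m) (e' : κ ≃ Fin m) :
    IsNondegenerateMDecomposition f 1 (coordDec e P e') := by
  rw [coordDec_equiv]
  exact nondegDec_coordDec hm one_pos one_ne_zero fun x y => by rw [one_mul, h.trans _ x y]

omit [Fintype F] hF in
theorem mono_mem_frame {m : ℕ} (hm : 2 ≤ m) (e : ι ≃ κ) (P : GL ι F) (e' : κ ≃ Fin m)
    {G : GL κ F} {π : Equiv.Perm κ} (h : BlockMono id π (G : Matrix κ κ F)) :
    frmG e P G ∈ decompositionStabilizer (coordDec e P e') := by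
  have h1 : BlockMono e' (e'.permCongr π) (G : Matrix κ κ F) :=
    fun k l hkl => h k l fun hc => hkl (by simp [show k = π l from hc])
  refine (adapted_coordDec e P e').mem_decStab (m := 1) ?_ h1
  rw [coordDec_equiv]
  exact isMDec_coordDec hm one_pos _ P

/-- an orthonormal frame adapted to a decomposition into non-degenerate lines -/
theorem exists_adapted_frame {f : (ι → F) → (ι → F) → F} (hf : IsSesq (sig F q) 1 f) {t : ℕ}
    {D : Fin t → Submodule F (ι → F)} (hD : IsNondegenerateMDecomposition f 1 D) :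
    ∃ (e : ι ≃ Fin t) (P : GL ι F), Adapted D e P id ∧ IsONF (sig F q) f e P := by
  have hc := card_eq_of_dec hD.decomp
  let e : ι ≃ Fin t × Fin 1 := Fintype.equivOfCardEq (by rw [hc]; simp)
  obtain ⟨P, h1, h2⟩ := exists_adapted_isONF hf hD e
  refine ⟨e.trans (Equiv.prodUnique _ _), P, fun i v => ?_, h2.trans _⟩
  rw [h1 i v]
  constructor
  · intro h k hk
    exact h (k, 0) hk
  · rintro h ⟨k, a⟩ hk
    obtain rfl : a = 0 := Subsingleton.elim _ _
    exact h k hk

/-- the special unitary group of the standard form on an arbitrary index type -/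
abbrev SUK (κ : Type) [Fintype κ] [DecidableEq κ] (F : Type*) [Field F] [Fintype F] (q : ℕ)
    [Fact (Fintype.card F = q ^ 2)] : Subgroup (GL κ F) :=
  isoG (sumHerm κ (sig F q)) ⊓ specialLinear κ F

theorem SUK_fin : SUK (Fin n) F q = SUG n F q := rfl

theorem IsONF.mem_SUG {e : Fin n ≃ κ} {P : GL (Fin n) F} (h : IsONF (sig F q) 𝐡 e P)
    {g : GL κ F} : frmG e P g ∈ SUG n F q ↔ g ∈ SUK κ F q := by
  rw [Subgroup.mem_inf, Subgroup.mem_inf, frmG_mem_sl, ← isoG_herm, h.mem_isoG]

theorem maximal_comap {G G' : Type*} [Group G] [Group G'] (φ : G' ≃* G) {S H : Subgroup G}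
    (h : IsMaximalIn S H) :
    IsMaximalIn (S.comap φ.toMonoidHom) (H.comap φ.toMonoidHom) := by
  have hs : Function.Surjective φ.toMonoidHom := φ.surjective
  have hi : Function.Injective φ.toMonoidHom := φ.injective
  refine ⟨(Subgroup.comap_lt_comap_of_surjective hs).2 h.1, fun M h1 h2 => ?_⟩
  rcases h.2 (M.map φ.toMonoidHom) ((Subgroup.map_comap_eq_self_of_surjective hs H).ge.trans
    (Subgroup.map_mono h1)) (Subgroup.map_le_iff_le_comap.2 h2) with h3 | h3
  · left; rw [← h3, Subgroup.comap_map_eq_self_of_injective hi]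
  · right; rw [← h3, Subgroup.comap_map_eq_self_of_injective hi]

theorem IsONF.maximal {e : Fin n ≃ κ} {P : GL (Fin n) F} (h : IsONF (sig F q) 𝐡 e P)
    {H : Subgroup (GL (Fin n) F)} (hH : IsMaximalIn (SUG n F q) H) :
    IsMaximalIn (SUK κ F q) (H.comap (frmG e P).toMonoidHom) := by
  have := maximal_comap (frmG e P) hH
  rwa [show (SUG n F q).comap (frmG e P).toMonoidHom = SUK κ F q from
    Subgroup.ext fun g => h.mem_SUG] at this

theorem col_norm {G : GL κ F} (hG : G ∈ isoG (sumHerm κ (sig F q))) (l m : κ) :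
    ∑ k, (G : Matrix κ κ F) k l * σ ((G : Matrix κ κ F) k m) = if l = m then 1 else 0 := by
  have := hG (Pi.single l 1) (Pi.single m 1)
  rw [sumHerm_single_left] at this
  simpa [sumHerm, Pi.single_apply, apply_ite, sig_apply] using this

theorem norm_eq_one_two (hq : q = 2) {x : F} (hx : x ≠ 0) : x * σ x = 1 :=
  eq_one_of_fixed hq (mul_ne_zero hx (by simpa using hx)) (by rw [map_mul, cj_cj, mul_comm])

theorem two_eq_zero_two (hq : q = 2) : (2 : F) = 0 :=
  two_eq_zero_of_not_odd (q := q) (by subst hq; decide)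

theorem one_ne_zero_two (hq : q = 2) {x y : F} (h : x * σ x + y * σ y = 1) : x = 0 ∨ y = 0 := by
  by_contra hc
  push Not at hc
  rw [norm_eq_one_two hq hc.1, norm_eq_one_two hq hc.2, one_add_one_eq_two, two_eq_zero_two hq] at h
  exact zero_ne_one h

/-- for `q = 2` an isometry permuting orthogonal planes is monomial -/
theorem mono_of_block_two (hq : q = 2) {τ : Type} [Fintype τ] [DecidableEq τ] {G : GL (τ × Fin 2) F}
    (hG : G ∈ isoG (sumHerm _ (sig F q))) {s : Equiv.Perm τ}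
    (h : BlockMono Prod.fst s (G : Matrix (τ × Fin 2) (τ × Fin 2) F)) :
    ∃ π : Equiv.Perm (τ × Fin 2), BlockMono id π (G : Matrix (τ × Fin 2) (τ × Fin 2) F) := by
  refine mono_of_col fun l => ?_
  have h1 := col_norm hG l l
  rw [if_pos rfl, Fintype.sum_prod_type, Finset.sum_eq_single (s l.1)
    (fun j _ hj => Finset.sum_eq_zero fun b _ => by rw [h (j, b) l hj, zero_mul]) (by simp),
    Fin.sum_univ_two] at h1
  rcases one_ne_zero_two hq h1 with h2 | h2
  · refine ⟨(s l.1, 1), fun ⟨j, b⟩ hk => ?_⟩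
    by_cases hj : j = s l.1
    · subst hj
      fin_cases b
      · exact h2
      · exact absurd rfl hk
    · exact h _ _ hj
  · refine ⟨(s l.1, 0), fun ⟨j, b⟩ hk => ?_⟩
    by_cases hj : j = s l.1
    · subst hj
      fin_cases b
      · exact absurd rfl hk
      · exact h2
    · exact h _ _ hj

theorem mono_two (hq : q = 2) {G : GL (Fin 2) F} (hG : G ∈ isoG (sumHerm _ (sig F q))) :
    ∃ π : Equiv.Perm (Fin 2), BlockMono id π (G : Matrix (Fin 2) (Fin 2) F) := by
  refine mono_of_col fun l => ?_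
  have h1 := col_norm hG l l
  rw [if_pos rfl, Fin.sum_univ_two] at h1
  rcases one_ne_zero_two hq h1 with h2 | h2
  · exact ⟨1, fun b hb => by fin_cases b; exacts [h2, absurd rfl hb]⟩
  · exact ⟨0, fun b hb => by fin_cases b; exacts [absurd rfl hb, h2]⟩

theorem planes_le_frame (hq : q = 2) {t : ℕ} {D : Fin t → Submodule F (Fin n → F)}
    (hD : IsNondegenerateMDecomposition 𝐡 2 D) :
    ∃ D' : Fin n → Submodule F (Fin n → F), IsNondegenerateMDecomposition 𝐡 1 D' ∧
      decompositionStabilizer D ⊓ GU n F q ≤ decompositionStabilizer D' := by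
  have hc := card_eq_of_dec hD.decomp
  have h2 := hD.decomp.two_le
  rw [Fintype.card_fin] at hc
  let e : Fin n ≃ Fin t × Fin 2 := Fintype.equivOfCardEq (by rw [hc]; simp)
  obtain ⟨P, h1, hP⟩ := exists_adapted_isONF isSesq_herm hD e
  refine ⟨coordDec e P e.symm, nondegDec_frame hP (by omega) _, fun g hg => ?_⟩
  obtain ⟨G, rfl⟩ := (frmG e P).surjective g
  obtain ⟨s, hs⟩ := h1.blockMono hg.1
  rw [MulEquiv.symm_apply_apply] at hs
  obtain ⟨π, hπ⟩ := mono_of_block_two hq (hP.mem_isoG.1 hg.2) hs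
  exact mono_mem_frame (by omega) e P _ hπ

theorem gram_tensor_std {a b : ℕ} {f : (ι → F) → (ι → F) → F} {e : ι ≃ Fin a × Fin b} {P : GL ι F}
    {c : F} (hc : c ≠ 0) (h : ∀ x y, f (frmV e P x) (frmV e P y) = c * sumHerm _ (sig F q) x y) :
    IsTensorFormStructure (sig F q) f (hermForm a F q) (hermForm b F q) e P := by
  refine ⟨c, hc, fun x y => ?_⟩
  rw [← frmV_apply, ← frmV_apply, h, ← formOfGram_one, ← sumHerm_eq_herm, ← sumHerm_eq_herm,
    gram_sumHerm, gram_sumHerm, one_kronecker_one]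

theorem tensor_le_dec (hq : q = 2) {b : ℕ} (hb : 0 < b) {e : Fin n ≃ Fin 2 × Fin b}
    {P : GL (Fin n) F} {f₁ : (Fin 2 → F) → (Fin 2 → F) → F} {f₂ : (Fin b → F) → (Fin b → F) → F}
    (h₁ : IsUnitaryFormPow q f₁) (h₂ : IsUnitaryFormPow q f₂)
    (h : IsTensorFormStructure (fun x : F => x ^ q) 𝐡 f₁ f₂ e P) :
    ∃ D' : Fin 2 → Submodule F (Fin n → F), IsNondegenerateMDecomposition 𝐡 b D' ∧
      tensorProductSubgroup 2 b e P ⊓ GU n F q ≤ decompositionStabilizer D' := by
  obtain ⟨P', c, hc, h3, h4⟩ := tensor_std (isSesq_of_pow h₁) (isSesq_of_pow h₂) h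
  have hD := nondegDec_coordDec le_rfl hb hc h3
  refine ⟨_, hD, fun g hg => ?_⟩
  obtain ⟨x, y, hxy⟩ := mem_tensorProductSubgroup.1 (h4 hg.1)
  have hx := (tensor_sim isSesq_herm two_pos hb isSesq_herm isSesq_herm (gram_tensor_std hc h3)
    ⟨1, fun u v => by rw [Units.val_one, one_mul]; exact hg.2 u v⟩ hxy).1
  obtain ⟨π, hπ⟩ := mono_two hq (sim_le_isoG hq isSesq_herm hx)
  obtain rfl : g = frmG e P' (kronG x y) := Units.ext hxy
  refine (adapted_coordDec e P' _).mem_decStab hD.decomp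
    (show BlockMono _ π _ from fun k l hkl => ?_)
  change (x : Matrix (Fin 2) (Fin 2) F) k.1 l.1 * _ = 0
  rw [hπ k.1 l.1 hkl, zero_mul]

theorem max_planes (hq : q = 2) (hn : 3 ≤ n) {H : Subgroup (GL (Fin n) F)}
    (hH : IsMaximalIn (SUG n F q) H) {t : ℕ} {D : Fin t → Submodule F (Fin n → F)}
    (hD : IsNondegenerateMDecomposition 𝐡 2 D) (h : H = decompositionStabilizer D ⊓ SUG n F q) :
    ∃ D' : Fin n → Submodule F (Fin n → F), IsNondegenerateMDecomposition 𝐡 1 D' ∧
      H = decompositionStabilizer D' ⊓ SUG n F q := by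
  obtain ⟨D', h1, h2⟩ := planes_le_frame hq hD
  exact ⟨D', h1, eq_inf_of_maximal hH (h.le.trans ((inf_le_inf_left _ inf_le_left).trans h2))
    (not_SUG_le_decStab hn h1)⟩

theorem max_tensor_two (hq : q = 2) (hn : 3 ≤ n) {H : Subgroup (GL (Fin n) F)}
    (hH : IsMaximalIn (SUG n F q) H) {b : ℕ} (hb : 0 < b) {e : Fin n ≃ Fin 2 × Fin b}
    {P : GL (Fin n) F} {f₁ : (Fin 2 → F) → (Fin 2 → F) → F} {f₂ : (Fin b → F) → (Fin b → F) → F}
    (h : IsUnitaryFormPow q f₁ ∧ IsUnitaryFormPow q f₂ ∧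
      IsTensorFormStructure (fun x : F => x ^ q) 𝐡 f₁ f₂ e P ∧
      H = tensorProductSubgroup 2 b e P ⊓ SUG n F q) :
    ∃ D' : Fin 2 → Submodule F (Fin n → F), IsNondegenerateMDecomposition 𝐡 b D' ∧
      H = decompositionStabilizer D' ⊓ SUG n F q := by
  obtain ⟨D', h1, h2⟩ := tensor_le_dec hq hb h.1 h.2.1 h.2.2.1
  exact ⟨D', h1, eq_inf_of_maximal hH (h.2.2.2.le.trans ((inf_le_inf_left _ inf_le_left).trans h2))
    (not_SUG_le_decStab hn h1)⟩

theorem pow_cases_le {n k t : ℕ} (h : n = k ^ t) (hk : 3 ≤ k) (ht : 2 ≤ t) (hn : n < 16) :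
    n = 9 := by
  have h7 : t ≤ 2 := by
    by_contra h8
    have := Nat.pow_le_pow_right (by norm_num : 0 < 3) (show 3 ≤ t by omega)
    have := Nat.pow_le_pow_left hk t
    omega
  obtain rfl : t = 2 := by omega
  have : k < 4 := by nlinarith
  obtain rfl : k = 3 := by omega
  exact h

theorem not_prime_pow_of {n r k a b : ℕ} (hr : r.Prime) (h : n = r ^ k) (ha : a.Prime)
    (hb : b.Prime) (hab : a ≠ b) (h1 : a ∣ n) (h2 : b ∣ n) : False := by
  subst h
  exact hab (((Nat.prime_dvd_prime_iff_eq ha hr).1 (ha.dvd_of_dvd_pow h1)).trans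
    ((Nat.prime_dvd_prime_iff_eq hb hr).1 (hb.dvd_of_dvd_pow h2)).symm)

end Cfsg.Agent.H10
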